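import Cfsg.Agent.H58.OreEven.CertTwoSmall
import Cfsg.Agent.H58.OreOmega.MatMain

/-!
Two elements: block triangular matrices with a Hessenberg corner and an identity corner have
certificates, the transvection classes excepted.
-/

set_option autoImplicit false
set_option linter.unusedSectionVars false
set_option linter.unusedSimpArgs false

namespace Cfsg.Agent.H58.OreEven

open Matrix Polynomial
open Cfsg.Agent.H60.Ore
open Cfsg.Agent.H58.OreOmega (MM Reg Up en en_of pis pis_succ pis_zero pis_natDegree_le pis_coeff_self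
  rpol rpol_coeff rc charpoly_rc cyc_rc up_rc tfam zblk sim_tfam en_tfam_ll en_tfam_lr en_tfam_rl
  en_tfam_rr up_tfam exists_tfam canon chain_form cyc_split phi)

variable {F : Type*} [Field F] [Fintype F]

theorem cert_split (hq : Fintype.card F = 2) {k m : ℕ} (hk : 0 < k) (hm : 0 < m) (hn : 3 ≤ k + m)
    {P : F[X]} (hP : P.Monic) (hPd : P.natDegree = k) (h1 : P.eval 1 ≠ 0)
    (S : Matrix (Fin m) (Fin m) F) (hS : S.IsUpperTriangular) (hd : ∀ r, S r r = 1)
    (hdet : (compOf k P).det * S.det = 1) (Z : Matrix (Fin k) (Fin m) F) :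
    Cert (k + m) (fromBlocks (compOf k P) Z 0 S) := by
  have hg := gd_tri hq hn
  set g := fam (k + m) ((k + m - 1) / 2) (0 : F)
  have hsim : Sim (rc k P 1) (compOf k P) :=
    (cyc_rc k P 1).sim (cyc_compOf k P) (by rw [charpoly_rc hP hPd, charpoly_compOf hP hPd])
  obtain ⟨p, hp, hH⟩ := exists_tfam hk hm (up_rc P one_ne_zero) hS
    (fun r => by rw [hd]; exact one_ne_zero) (by rw [hsim.det_eq, hdet]) hg.1 hg.2.1
  have hco : IsCoprime P S.charpoly := by
    rw [charpoly_of_isUpperTriangular _ hS]
    simp only [hd, Finset.prod_const, Finset.card_univ, Fintype.card_fin]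
    exact (coprime_lin 1 h1 m).symm
  refine cert_of_gd hq (by omega) hg ?_ (charpoly_compOf hg.1 hg.2.1)
    (hH.cyc.sim (cyc_compOf _ g) (by rw [hp, charpoly_compOf hg.1 hg.2.1]))
  refine (sim_upper _ _ (by rwa [charpoly_compOf hP hPd]) Z).trans
    (((sim_tfam (rc k P 1) S p).trans ?_).symm)
  exact (sim_upper _ _ (by rwa [charpoly_rc hP hPd]) _).trans (hsim.blocks (Sim.refl S))

/-- A unipotent Jordan block with an entry `c` two places above the diagonal in the last column. -/
def jTwo (k : ℕ) (c : F) : Matrix (Fin k) (Fin k) F := fun i j =>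
  Jm k 1 i j + if j.val + 1 = k ∧ i.val + 3 = k then c else 0

theorem jTwo_upper (k : ℕ) (c : F) : (jTwo k c).IsUpperTriangular := fun i j h => by
  have h' : j.val < i.val := h
  rw [jTwo, Jm_upper k 1 h, if_neg (by omega), add_zero]

theorem jTwo_diag (k : ℕ) (c : F) (i : Fin k) : jTwo k c i i = 1 := by
  rw [jTwo, Jm_diag, if_neg (by omega), add_zero]

/-- The conjugation of `jTwo` to a Jordan block. -/
def qTwo (k : ℕ) (c : F) : Matrix (Fin k) (Fin k) F := fun i j =>
  (if i = j then 1 else 0) + if j.val + 1 = k ∧ i.val + 2 = k then c else 0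

theorem qTwo_mul (k : ℕ) (c : F) : qTwo k c * jTwo k c = Jm k 1 * qTwo k c := by
  ext i j
  have hL : (qTwo k c * jTwo k c) i j = jTwo k c i j +
      if i.val + 2 = k ∧ j.val + 1 = k then c else 0 := by
    rw [Matrix.mul_apply]
    simp only [qTwo, add_mul, ite_mul, one_mul, zero_mul, Finset.sum_add_distrib]
    rw [Finset.sum_ite_eq, if_pos (Finset.mem_univ _)]
    congr 1
    by_cases hi : i.val + 2 = k
    · rw [Finset.sum_eq_single (⟨k - 1, by omega⟩ : Fin k)]
      · rw [if_pos ⟨by simp only; omega, hi⟩]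
        by_cases hj : j.val + 1 = k
        · rw [if_pos ⟨hi, hj⟩, show j = (⟨k - 1, by omega⟩ : Fin k) from Fin.ext (by simp only; omega),
            jTwo_diag, mul_one]
        · rw [if_neg (fun h => hj h.2),
            jTwo_upper k c (show j < (⟨k - 1, by omega⟩ : Fin k) from
              Fin.lt_def.2 (by simp only; omega)), mul_zero]
      · intro x _ hx
        rw [if_neg (fun h => hx (Fin.ext (by simp only; omega)))]
      · simp
    · rw [if_neg (fun h => hi h.1), Finset.sum_eq_zero fun x _ => if_neg (fun h => hi h.2)]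
  have hR : (Jm k (1 : F) * qTwo k c) i j = Jm k (1 : F) i j + if j.val + 1 = k then
      (if i.val + 2 = k ∨ i.val + 3 = k then c else 0) else 0 := by
    rw [Matrix.mul_apply]
    simp only [qTwo, mul_add, mul_ite, mul_one, mul_zero, Finset.sum_add_distrib]
    rw [Finset.sum_ite_eq', if_pos (Finset.mem_univ _)]
    congr 1
    by_cases hj : j.val + 1 = k
    · rw [if_pos hj]
      by_cases hk2 : 2 ≤ k
      · rw [Finset.sum_eq_single (⟨k - 2, by omega⟩ : Fin k)]
        · rw [if_pos ⟨hj, by simp only; omega⟩, Jm]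
          simp only [Fin.ext_iff]
          split_ifs <;> first | (exfalso; omega) | simp
        · intro x _ hx
          rw [if_neg (fun h => hx (Fin.ext (by simp only; omega)))]
        · simp
      · rw [Finset.sum_eq_zero fun x _ => if_neg (fun h => hk2 (by omega)), if_neg (by omega)]
    · rw [if_neg hj, Finset.sum_eq_zero fun x _ => if_neg (fun h => hj h.1)]
  rw [hL, hR, jTwo, add_assoc]
  congr 1
  split_ifs <;> first | (exfalso; omega) | simp

theorem qTwo_det (k : ℕ) (c : F) : (qTwo k c).det = 1 := by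
  rw [det_of_isUpperTriangular (fun i j h => ?_), Finset.prod_eq_one]
  · intro i _
    rw [qTwo, if_pos rfl, if_neg (by omega), add_zero]
  · have h' : j.val < i.val := h
    rw [qTwo, if_neg (fun e => by rw [e] at h'; omega), if_neg (by omega), add_zero]

section Chain

variable {k M : ℕ} {c : F} {p : Fin M ⊕ Fin (k - 1) → F}

/-- The polynomials of the family on the first block, before its last column. -/
theorem pis_chain_low (j : ℕ) (hj : j + 1 < k) :
    pis (tfam (jTwo k c) (1 : Matrix (Fin M) (Fin M) F) p) j = (X - 1) ^ j := by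
  induction j using Nat.strong_induction_on with
  | _ j ih =>
    rcases j with _ | j
    · rw [pis_zero, pow_zero]
    rw [pis_succ, en_tfam_ll (by omega) (by omega), jTwo_diag, inv_one, C_1, one_mul,
      Finset.sum_range_succ, Finset.sum_eq_zero fun i hi => by
        rw [Finset.mem_range] at hi
        rw [en_tfam_ll (by omega) (by omega), jTwo, Jm, if_neg (by simp only [Fin.ext_iff]; omega),
          if_neg (by simp only; omega), if_neg (by simp only; omega), add_zero, C_0, zero_mul],
      en_tfam_ll (by omega) (by omega), jTwo, Jm, if_neg (by simp only [Fin.ext_iff]; omega),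
      if_pos rfl, if_neg (by simp only; omega), ih j (by omega) (by omega), zero_add, add_zero, C_1,
      one_mul, pow_succ]
    ring

theorem pis_chain_last (hk : 2 ≤ k) :
    pis (tfam (jTwo k c) (1 : Matrix (Fin M) (Fin M) F) p) (k - 1) =
      (X - 1) ^ (k - 1) - if 3 ≤ k then C c * (X - 1) ^ (k - 3) else 0 := by
  obtain ⟨j, rfl⟩ : ∃ j, k = j + 2 := ⟨k - 2, by omega⟩
  rw [show j + 2 - 1 = j + 1 from rfl, pis_succ, en_tfam_ll (by omega) (by omega), jTwo_diag,
    inv_one, C_1, one_mul, Finset.sum_range_succ,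
    en_tfam_ll (show j < j + 2 by omega) (by omega), jTwo, Jm,
    if_neg (by simp only [Fin.ext_iff]; omega), if_pos rfl, if_neg (by simp only; omega), add_zero,
    C_1, one_mul, pis_chain_low j (by omega)]
  have hterm : ∀ i ∈ Finset.range j,
      C (en (tfam (jTwo (j + 2) c) (1 : Matrix (Fin M) (Fin M) F) p) i (j + 1)) *
        pis (tfam (jTwo (j + 2) c) (1 : Matrix (Fin M) (Fin M) F) p) i =
      if i + 1 = j then C c * (X - 1) ^ i else (0 : F[X]) := by
    intro i hi
    rw [Finset.mem_range] at hi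
    rw [en_tfam_ll (show i < j + 2 by omega) (show j + 1 < j + 2 by omega), jTwo, Jm,
      if_neg (by simp only [Fin.ext_iff]; omega), if_neg (by simp only; omega), zero_add,
      pis_chain_low i (by omega)]
    by_cases h : i + 1 = j
    · rw [if_pos h, if_pos]
      simp only [true_and]; omega
    · rw [if_neg h, if_neg, C_0, zero_mul]
      simp only [true_and]; omega
  rw [Finset.sum_congr rfl hterm]
  rcases j with _ | j
  · simp
  · rw [Finset.sum_eq_single j]
    · rw [if_pos rfl, if_pos (by omega), show j + 1 + 2 - 3 = j by omega]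
      ring
    · intro i _ hi; rw [if_neg (by omega)]
    · simp

theorem pis_chain_right (hk : 2 ≤ k) (hz : ∀ r, zblk p ⟨k - 1, by omega⟩ r = 0) (r : ℕ)
    (hr : r + 1 < M) :
    pis (tfam (jTwo k c) (1 : Matrix (Fin M) (Fin M) F) p) (k + r) =
      X ^ (r + 1) * pis (tfam (jTwo k c) (1 : Matrix (Fin M) (Fin M) F) p) (k - 1) := by
  induction r using Nat.strong_induction_on with
  | _ r ih =>
    have hs : ∀ i < k + r,
        en (tfam (jTwo k c) (1 : Matrix (Fin M) (Fin M) F) p) i (k + r) = 0 := by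
      intro i hi
      rcases Nat.lt_or_ge i k with hik | hik
      · rw [en_tfam_lr hik (by omega)]
        by_cases hl : i + 1 = k
        · exact (by congr 1; exact Fin.ext (by simp only; omega) : _ = zblk p ⟨k - 1, _⟩ _).trans
            (hz _)
        · rw [zblk, dif_pos (by simp only; omega), if_neg (by simp only; omega)]
      · rw [show i = k + (i - k) by omega, en_tfam_rr (by omega) (by omega),
          Matrix.one_apply_ne (by simp only [ne_eq, Fin.ext_iff]; omega)]
    have hdg : en (tfam (jTwo k c) (1 : Matrix (Fin M) (Fin M) F) p) (k + r) (k + r) = 1 := by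
      rw [en_tfam_rr (by omega) (by omega), Matrix.one_apply_eq]
    rw [show k + r = (k + r - 1) + 1 by omega] at hdg hs ⊢
    rw [pis_succ, hdg, inv_one, C_1, one_mul,
      Finset.sum_eq_zero fun i hi => by rw [hs i (Finset.mem_range.1 hi), C_0, zero_mul], sub_zero]
    rcases r with _ | r
    · simp
    · rw [show k + (r + 1) - 1 = k + r by omega, ih r (by omega) (by omega)]
      ring

/-- With a vanishing last row of the coupling, one coefficient of the row identity is determined
by the first block. -/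
theorem rpol_chain_coeff (hk : 2 ≤ k) (hM : 2 ≤ M) (hz : ∀ r, zblk p ⟨k - 1, by omega⟩ r = 0)
    {d : ℕ} (hd1 : 1 ≤ d) (hd2 : d ≤ 2) (hdk : d < k) (g : F[X])
    (hg : ∀ j, k + M - d ≤ j → j < k + M → g.coeff j = 0) :
    (rpol (tfam (jTwo k c) (1 : Matrix (Fin M) (Fin M) F) p) g).coeff (k + M - d) =
      (pis (tfam (jTwo k c) (1 : Matrix (Fin M) (Fin M) F) p) (k - 1)).coeff (k - 1 - d) := by
  set T := tfam (jTwo k c) (1 : Matrix (Fin M) (Fin M) F) p with hT
  obtain ⟨R, rfl⟩ : ∃ R, M = R + 2 := ⟨M - 2, by omega⟩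
  have hpen : pis T (k + (R + 1)) = X * pis T (k + R) -
      ∑ i ∈ Finset.range (k + (R + 1)), C (en T i (k + (R + 1))) * pis T i := by
    have hdg : en T (k + (R + 1)) (k + (R + 1)) = 1 := by
      rw [hT, en_tfam_rr (Nat.lt_succ_self (R + 1)) (Nat.lt_succ_self (R + 1)), Matrix.one_apply_eq]
    rw [show k + (R + 1) = k + R + 1 from rfl] at hdg ⊢
    rw [pis_succ, hdg, inv_one, C_1, one_mul]
  have hlast : ∀ i, k - 1 ≤ i → i < k + (R + 1) → en T i (k + (R + 1)) = 0 := by
    intro i h1 h2
    rcases Nat.lt_or_ge i k with hik | hik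
    · rw [hT, en_tfam_lr hik (Nat.lt_succ_self _)]
      exact (by congr 1; exact Fin.ext (by simp only; omega) : _ = zblk p ⟨k - 1, _⟩ _).trans (hz _)
    · rw [hT, show i = k + (i - k) by omega, en_tfam_rr (by omega) (Nat.lt_succ_self _),
        Matrix.one_apply_ne (by simp only [ne_eq, Fin.ext_iff]; omega)]
  have hsum : (∑ i ∈ Finset.range (k + (R + 1)), C (en T i (k + (R + 1))) * pis T i).natDegree
      ≤ k - 2 := by
    refine natDegree_sum_le_of_forall_le _ _ fun i hi => ?_
    rw [Finset.mem_range] at hi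
    by_cases h : k - 1 ≤ i
    · rw [hlast i h hi, C_0, zero_mul, natDegree_zero]; omega
    · exact (natDegree_C_mul_le _ _).trans ((pis_natDegree_le T i).trans (by omega))
  have hlow : ∀ i < k + (R + 2), (C (phi g i) * pis T (i - 1)).natDegree < k + (R + 2) - d - 1 ∨
      C (phi g i) * pis T (i - 1) = 0 := by
    intro i hi
    by_cases h : k + (R + 2) - d ≤ i
    · refine .inr ?_
      rw [phi, hg i h hi, neg_zero, C_0, zero_mul]
    · exact .inl (lt_of_le_of_lt ((natDegree_C_mul_le _ _).trans (pis_natDegree_le T _)) (by omega))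
  obtain ⟨e, he⟩ : ∃ e, k + (R + 2) - d = e + 1 := ⟨k + (R + 2) - d - 1, by omega⟩
  rw [rpol, show k + (R + 2) - 1 = k + (R + 1) by omega, coeff_sub, he, coeff_X_mul, coeff_sub,
    finsetSum_coeff, Finset.sum_eq_zero, coeff_C_mul, finsetSum_coeff,
    Finset.sum_eq_zero (s := Finset.range (k + (R + 2))), mul_zero, sub_zero, sub_zero, hpen,
    coeff_sub, coeff_eq_zero_of_natDegree_lt (hsum.trans_lt (by omega)), sub_zero,
    pis_chain_right hk hz R (by omega), ← mul_assoc, ← pow_succ',
    show e = (k - 1 - d) + (R + 1 + 1) by omega, coeff_X_pow_mul]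
  · intro i hi
    rw [Finset.mem_range] at hi
    rw [coeff_C_mul]
    rcases Nat.eq_zero_or_pos i with rfl | hi0
    · rw [pis_zero, coeff_one, if_neg (by omega), mul_zero]
    · have : en T i 0 = 0 := by
        rcases Nat.lt_or_ge i k with hik | hik
        · rw [hT, en_tfam_ll hik (by omega)]
          exact jTwo_upper k c (Fin.lt_def.2 hi0)
        · rw [hT, show i = k + (i - k) by omega, en_tfam_rl (by omega) (by omega)]
      rw [this, zero_mul]
  · intro i hi
    rw [Finset.mem_range] at hi
    rcases hlow (i + 1) (by omega) with h | h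
    · rw [Nat.add_sub_cancel] at h
      exact coeff_eq_zero_of_natDegree_lt (h.trans_le (by omega))
    · rw [Nat.add_sub_cancel] at h
      rw [h, coeff_zero]

end Chain

/-- The unipotent certificate. -/
theorem cert_chain (hq : Fintype.card F = 2) {k m : ℕ} (hk : 2 ≤ k) :
    Cert (k + (m + 1)) (canon (k + 1) m (1 : F)) := by
  have := charTwo_of_card hq
  rcases Nat.eq_zero_or_pos m with rfl | hm
  · refine Cert.of_sim (Sim.empty _ _) ?_
    exact cert_cyc hq (by omega) (Fintype.card_fin _) (cyc_Jm _ _) (by rw [det_Jm, one_pow])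
  obtain ⟨c, d, hd1, hd2, hdk, hcd⟩ : ∃ (c : F) (d : ℕ), 1 ≤ d ∧ d ≤ 2 ∧ d < k ∧
      ((X - 1 : F[X]) ^ (k - 1) - if 3 ≤ k then C c * (X - 1) ^ (k - 3) else 0).coeff (k - 1 - d)
        = 1 := by
    rcases (show k = 2 ∨ 3 ≤ k by omega) with rfl | h3
    · exact ⟨0, 1, le_rfl, by omega, by omega, by simp [CharTwo.neg_eq, CharTwo.sub_eq_add]⟩
    · refine ⟨((X - 1 : F[X]) ^ (k - 1)).coeff (k - 3) - 1, 2, by omega, le_rfl, by omega, ?_⟩
      have hm : ((X - 1 : F[X]) ^ (k - 3)).coeff (k - 3) = 1 := by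
        have h := ((monic_X_sub_C (1 : F)).pow (k - 3)).coeff_natDegree
        rwa [natDegree_pow, natDegree_X_sub_C, mul_one, C_1] at h
      rw [if_pos h3, coeff_sub, coeff_C_mul, show k - 1 - 2 = k - 3 by omega, hm]
      ring
  have hn : 3 ≤ k + (m + 1) := by omega
  have hg := gd_tri hq hn
  set g := fam (k + (m + 1)) ((k + (m + 1) - 1) / 2) (0 : F) with hgdef
  have hUp : Up (jTwo k c) := fun i j _ => ⟨fun h => jTwo_upper k c (Fin.lt_def.2 h), by
    rw [jTwo_diag]; exact one_ne_zero⟩
  have h1up : (1 : Matrix (Fin (m + 1)) (Fin (m + 1)) F).IsUpperTriangular := fun i j h => by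
    have h' : j.val < i.val := h
    exact Matrix.one_apply_ne (fun e => by rw [e] at h'; omega)
  have h1d : ∀ r, (1 : Matrix (Fin (m + 1)) (Fin (m + 1)) F) r r ≠ 0 := fun r => by simp
  obtain ⟨p, hp, hH⟩ := exists_tfam (by omega) (Nat.succ_pos m) hUp h1up h1d
    (by rw [det_of_isUpperTriangular (jTwo_upper k c),
      Finset.prod_eq_one fun i _ => jTwo_diag k c i, det_one, one_mul]) hg.1 hg.2.1
  refine cert_of_gd hq (by omega) hg (T := tfam (jTwo k c) 1 p) ?_
    (charpoly_compOf hg.1 hg.2.1)
    (hH.cyc.sim (cyc_compOf _ g) (by rw [hp, charpoly_compOf hg.1 hg.2.1]))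
  have hqu : IsUnit (qTwo k c).det := by rw [qTwo_det]; exact isUnit_one
  refine Sim.symm ((sim_tfam _ _ p).trans ?_)
  have hsim : Sim (fromBlocks (jTwo k c) (zblk p) 0 (1 : Matrix (Fin (m + 1)) (Fin (m + 1)) F))
      (fromBlocks (Jm k 1) (qTwo k c * zblk p) 0 ((1 : F) • 1)) := by
    refine Sim.symm ⟨fromBlocks (qTwo k c) 0 0 1, fromBlocks (qTwo k c)⁻¹ 0 0 1, ?_, ?_, ?_⟩
    · simp [fromBlocks_multiply, mul_nonsing_inv _ hqu, fromBlocks_one]
    · simp [fromBlocks_multiply, nonsing_inv_mul _ hqu, fromBlocks_one]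
    · simp [fromBlocks_multiply, qTwo_mul]
  refine hsim.trans ((chain_form (by omega) (1 : F) _).2 ?_ m rfl)
  by_contra hne
  push Not at hne
  have hz : ∀ r, zblk p ⟨k - 1, by omega⟩ r = 0 := fun r => by
    have h := hne r
    rw [Matrix.mul_apply, Finset.sum_eq_single (⟨k - 1, by omega⟩ : Fin k)] at h
    · rw [qTwo, if_pos rfl, if_neg (by simp only; omega), add_zero, one_mul] at h
      exact h
    · intro x _ hx
      rw [qTwo, if_neg (Ne.symm hx), if_neg (by simp only; omega), add_zero, zero_mul]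
    · simp
  have hcoe : ∀ j, k + (m + 1) - d ≤ j → j < k + (m + 1) → g.coeff j = 0 := fun j h1 h2 => by
    rw [hgdef]
    simp only [fam, C_0, zero_mul, zero_add, add_zero, coeff_add, coeff_X_pow, coeff_one]
    simp [show j ≠ k + m + 1 by omega, show j ≠ (k + m) / 2 by omega, show j ≠ 0 by omega,
      show ¬ j = k + (m + 1) by omega]
  have hrp : rpol (tfam (jTwo k c) (1 : Matrix (Fin (m + 1)) (Fin (m + 1)) F) p) g = g := by
    have hu := up_tfam (by omega) hUp h1up h1d p
    rw [hu.rpol_charpoly g (by omega), hp, rpol_coeff _ _ (by omega), Finset.prod_eq_one, C_1,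
      one_mul]
    intro i hi
    rw [Finset.mem_range] at hi
    rcases Nat.lt_or_ge (i + 1) k with h | h
    · rw [en_tfam_ll h h, jTwo_diag, inv_one]
    · rw [show i + 1 = k + (i + 1 - k) by omega, en_tfam_rr (by omega) (by omega),
        Matrix.one_apply_eq, inv_one]
  have key := rpol_chain_coeff (c := c) hk (show 2 ≤ m + 1 by omega) hz hd1 hd2 hdk g hcoe
  rw [hrp, pis_chain_last hk, hcd, hcoe _ le_rfl (by omega)] at key
  exact zero_ne_one key

/-- The general statement. -/
theorem cert_main_two (hq : Fintype.card F = 2) {k m : ℕ} (hk : 2 ≤ k) (hn : 3 ≤ k + m)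
    {H : Matrix (Fin k) (Fin k) F} (hH : Hess H) (E : Matrix (Fin k) (Fin m) F)
    (hdet : (fromBlocks H E 0 (1 : Matrix (Fin m) (Fin m) F)).det = 1)
    (hbad : k = 2 → H.charpoly ≠ (X - C 1) ^ 2) :
    Cert (k + m) (fromBlocks H E 0 (1 : Matrix (Fin m) (Fin m) F)) := by
  rw [det_fromBlocks_zero₂₁, det_one, mul_one] at hdet
  rcases Nat.eq_zero_or_pos m with rfl | hm
  · have hE : E = 0 := Matrix.ext fun i j => j.elim0
    rw [hE]
    exact Cert.of_sim (Sim.empty _ _)
      (cert_cyc hq (show 3 ≤ k + 0 by omega) (by simp) hH.cyc hdet)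
  set P := H.charpoly with hP
  have hPm : P.Monic := charpoly_monic H
  obtain ⟨P1, hP1, hnd⟩ := exists_eq_pow_rootMultiplicity_mul_and_not_dvd P hPm.ne_zero 1
  set e := P.rootMultiplicity 1 with he
  have hm1 : P1.Monic := ((monic_X_sub_C 1).pow e).of_mul_monic_left (hP1 ▸ hPm)
  have hε1 : P1.eval 1 ≠ 0 := fun h => hnd (dvd_iff_isRoot.2 h)
  have hdeg : e + P1.natDegree = k := by
    rw [← Fintype.card_fin k, ← H.charpoly_natDegree_eq_dim, ← hP, hP1,
      ((monic_X_sub_C 1).pow e).natDegree_mul hm1, natDegree_pow, natDegree_X_sub_C, mul_one]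
  rcases Nat.eq_zero_or_pos P1.natDegree with h0 | h0
  · rw [eq_one_of_monic_natDegree_zero hm1 h0, mul_one] at hP1
    clear_value e
    obtain rfl : e = k := by omega
    obtain ⟨Pm, Qm, h1, h2', h3⟩ := hH.cyc.sim (cyc_Jm e 1) (by rw [charpoly_Jm, ← hP, hP1])
    have hs : Sim (fromBlocks H E 0 (1 : Matrix (Fin m) (Fin m) F))
        (fromBlocks (Jm e 1) (Qm * E) 0 ((1 : F) • 1)) :=
      ⟨fromBlocks Pm 0 0 1, fromBlocks Qm 0 0 1, by simp [fromBlocks_multiply, h1, fromBlocks_one],
        by simp [fromBlocks_multiply, h2', fromBlocks_one],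
        by simp [fromBlocks_multiply, h3, ← Matrix.mul_assoc, h1]⟩
    have he2 : e ≠ 2 := fun h => hbad h (by rw [hP1, h])
    obtain ⟨r, hr⟩ : ∃ r, m = r + 1 := ⟨m - 1, by omega⟩
    by_cases hlast : ∀ c, (Qm * E) ⟨e - 1, by omega⟩ c = 0
    · obtain ⟨e', rfl⟩ : ∃ e', e = e' + 1 := ⟨e - 1, by omega⟩
      have := cert_chain hq (m := m) (show 2 ≤ e' by omega)
      rw [show e' + (m + 1) = e' + 1 + m by omega] at this
      exact Cert.of_sim (hs.trans ((chain_form (by omega) (1 : F) _).1 hlast)) this
    · push Not at hlast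
      subst hr
      exact Cert.of_sim (hs.trans ((chain_form (by omega) (1 : F) _).2 hlast r rfl))
        (cert_chain hq hk)
  · obtain ⟨Pm, Qm, h1, h2', h3⟩ := cyc_split hm1 hε1 hH.cyc e (hP ▸ hP1)
    set E' := Qm * E
    have hs : Sim (fromBlocks H E 0 (1 : Matrix (Fin m) (Fin m) F))
        (fromBlocks (fromBlocks (compOf P1.natDegree P1) 0 0 (Jm e 1)) E' 0 1) :=
      ⟨fromBlocks Pm 0 0 1, fromBlocks Qm 0 0 1, by simp [fromBlocks_multiply, h1, fromBlocks_one],
        by simp [fromBlocks_multiply, h2', fromBlocks_one],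
        by simp [E', fromBlocks_multiply, h3, ← Matrix.mul_assoc, h1]⟩
    set S : Matrix (Fin (e + m)) (Fin (e + m)) F :=
      (fromBlocks (Jm e 1) (E'.submatrix Sum.inr id) 0 1).submatrix
        finSumFinEquiv.symm finSumFinEquiv.symm with hS
    set Z : Matrix (Fin P1.natDegree) (Fin (e + m)) F :=
      fun i c => Sum.elim (fun _ => 0) (fun c' => E' (.inl i) c') (finSumFinEquiv.symm c) with hZ
    have hSup : S.IsUpperTriangular := by
      intro i j h
      obtain ⟨i, rfl⟩ := finSumFinEquiv.surjective i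
      obtain ⟨j, rfl⟩ := finSumFinEquiv.surjective j
      rw [hS, Matrix.submatrix_apply, Equiv.symm_apply_apply, Equiv.symm_apply_apply]
      have h' : (finSumFinEquiv j).val < (finSumFinEquiv i).val := h
      rcases i with i | i <;> rcases j with j | j <;>
        simp only [finSumFinEquiv_apply_left, finSumFinEquiv_apply_right, Fin.val_castAdd,
          Fin.val_natAdd] at h'
      · rw [fromBlocks_apply₁₁]; exact Jm_upper e 1 (Fin.lt_def.2 h')
      · omega
      · rfl
      · simp [Matrix.one_apply, show i ≠ j from fun h => by rw [h] at h'; omega]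
    have hSd : ∀ r, S r r = 1 := by
      intro r
      obtain ⟨r, rfl⟩ := finSumFinEquiv.surjective r
      rw [hS, Matrix.submatrix_apply, Equiv.symm_apply_apply]
      rcases r with r | r <;> simp [Jm_diag]
    have hsim2 : Sim (fromBlocks (fromBlocks (compOf P1.natDegree P1) 0 0 (Jm e 1)) E' 0 1)
        (fromBlocks (compOf P1.natDegree P1) Z 0 S) := by
      refine (Sim.submatrix _ (((Equiv.sumCongr (Equiv.refl _) finSumFinEquiv.symm).trans
        (Equiv.sumAssoc _ _ _).symm))).trans (Sim.of_eq ?_)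
      ext (i | i) (j | j)
      · rfl
      · rcases hj : finSumFinEquiv.symm j with j' | j' <;> simp [hj] <;> simp [hZ, hj]
      · rcases hi : finSumFinEquiv.symm i with i' | i' <;> simp [hi]
      · rcases hi : finSumFinEquiv.symm i with i' | i' <;>
          rcases hj : finSumFinEquiv.symm j with j' | j' <;> simp [hS, hi, hj]
    have hdk : (compOf P1.natDegree P1).det * S.det = 1 := by
      have := (hs.trans hsim2).det_eq
      rw [det_fromBlocks_zero₂₁, det_fromBlocks_zero₂₁, det_one, mul_one, hdet] at this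
      exact this.symm
    have := cert_split hq h0 (show 0 < e + m by omega) (by omega) hm1 rfl hε1 S hSup hSd hdk Z
    rw [show P1.natDegree + (e + m) = k + m by omega] at this
    exact Cert.of_sim (hs.trans hsim2) this

end Cfsg.Agent.H58.OreEven
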