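import Cfsg.Agent.H58.OreOmega.MatMain

/-!
The block triangular matrices are commutators as before, for fields of even order at least four.
-/

set_option autoImplicit false
set_option linter.unusedSectionVars false
set_option linter.unusedSimpArgs false

namespace Cfsg.Agent.H58.OreEven

open Matrix Polynomial Module
open Cfsg.Agent.H60.Ore
open Cfsg.Agent.H58.OreOmega hiding lc_split lc_chain lc_noroot lc_hess_zero lc_main exists_good_norm

variable {F : Type*} [Field F] [Fintype F]

/-- An irreducible polynomial of prescribed norm whose roots are not closed under inversion. -/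
theorem exists_good_norm (hq : 4 ≤ Fintype.card F) [CharP F 2] {n : ℕ} (h3 : 3 ≤ n) {N : F}
    (hN : N ≠ 0) : ∃ (t : F) (f : F[X]), Good n t f ∧ (-1) ^ n * f.coeff 0 = N := by
  classical
  obtain ⟨r, rfl⟩ := isSquare_of_charTwo' N
  have : Fact (Nat.Prime 2) := ⟨Nat.prime_two⟩
  have : NeZero n := ⟨by omega⟩
  let K := FiniteField.Extension F 2 n
  have hn : finrank F K = n := FiniteField.finrank_extension F 2 n
  have : Fintype K := Fintype.ofFinite K
  have : CharP K 2 := charP_of_injective_algebraMap (algebraMap F K).injective 2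
  have hr : r ≠ 0 := left_ne_zero_of_mul hN
  set q := Fintype.card F with hqd
  let S : Finset K := Finset.univ.filter fun y : K => Algebra.norm F y = r
  have hfib : (q - 1) * S.card = q ^ n - 1 := by
    have hsum := Finset.card_eq_sum_card_fiberwise
      (s := Finset.univ.filter fun y : K => y ≠ 0) (t := Finset.univ.filter fun c : F => c ≠ 0)
      (f := fun y => Algebra.norm F y) (fun y hy => by
        simp only [Finset.coe_filter, Finset.mem_univ, true_and, Set.mem_setOf_eq] at hy ⊢
        exact fun h => hy (Algebra.norm_eq_zero_iff.1 h))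
    have hall : ∀ c ∈ Finset.univ.filter (fun c : F => c ≠ 0),
        ((Finset.univ.filter fun y : K => y ≠ 0).filter fun y => Algebra.norm F y = c).card
          = S.card := by
      intro c hc
      rw [Finset.mem_filter] at hc
      obtain ⟨z, hz⟩ := FiniteField.norm_surjective F K (c / r)
      have hz0 : z ≠ 0 := fun h => by
        rw [h, Algebra.norm_zero] at hz
        exact div_ne_zero hc.2 hr hz.symm
      refine (Finset.card_bij (fun y _ => z * y) (fun y hy => ?_) (fun a _ b _ h =>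
        mul_left_cancel₀ hz0 h) (fun y hy => ?_)).symm
      · simp only [S, Finset.mem_filter, Finset.mem_univ, true_and] at hy ⊢
        refine ⟨mul_ne_zero hz0 fun h => ?_, by rw [map_mul, hz, hy, div_mul_cancel₀ _ hr]⟩
        rw [h, Algebra.norm_zero] at hy
        exact hr hy.symm
      · simp only [S, Finset.mem_filter, Finset.mem_univ, true_and] at hy ⊢
        refine ⟨z⁻¹ * y, ?_, by rw [mul_inv_cancel_left₀ hz0]⟩
        rw [map_mul, hy.2, show Algebra.norm F z⁻¹ = (c / r)⁻¹ from eq_inv_of_mul_eq_one_left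
          (by rw [← hz, ← map_mul, inv_mul_cancel₀ hz0, map_one]), inv_div,
          div_mul_cancel₀ _ hc.2]
    rw [Finset.sum_congr rfl hall, Finset.sum_const, smul_eq_mul, Finset.filter_ne',
      Finset.filter_ne', Finset.card_erase_of_mem (Finset.mem_univ _),
      Finset.card_erase_of_mem (Finset.mem_univ _), Finset.card_univ, Finset.card_univ,
      Module.card_eq_pow_finrank (K := F) (V := K), hn] at hsum
    exact hsum.symm
  have h1 : q ^ (n - 1) ≤ S.card := by
    by_contra h
    push Not at h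
    obtain ⟨a, ha⟩ : ∃ a, q = a + 2 := ⟨q - 2, by omega⟩
    have hp' : q ^ n = q * q ^ (n - 1) := by rw [← pow_succ', Nat.sub_add_cancel (by omega)]
    rw [hp', ha] at hfib
    rw [ha] at h
    simp only [show a + 2 - 1 = a + 1 from rfl, Nat.succ_mul, Nat.add_mul, one_mul] at hfib
    have := Nat.mul_le_mul_left a h.le
    omega
  have hsq : ∀ (y : K) (e : ℕ), (y * y) ^ e = 1 → y ^ e = 1 := fun y e h => by
    rw [mul_pow] at h
    have h' : (y ^ e - 1) * (y ^ e - 1) = 0 := by
      linear_combination h + (1 - y ^ e) * (CharTwo.two_eq_zero (R := K))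
    exact sub_eq_zero.1 (mul_self_eq_zero.1 h')
  have hroots : ∀ e : ℕ, 0 < e →
      (Finset.univ.filter fun y : K => (y * y) ^ e = 1).card ≤ e := fun e he => by
    refine le_trans (Finset.card_le_card (t := (nthRoots e (1 : K)).toFinset) fun y hy => ?_)
      ((Multiset.toFinset_card_le _).trans (card_nthRoots e (1 : K)))
    rw [Finset.mem_filter] at hy
    rw [Multiset.mem_toFinset, mem_nthRoots he]
    exact hsq y e hy.2
  let fixS : ℕ → Finset K := fun d => Finset.univ.filter fun y : K => (y * y) ^ (q ^ d) = y * y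
  have hfix : ∀ d, 1 ≤ d → (fixS d).card ≤ q ^ d := fun d hd => by
    have h1q : 1 < q ^ d := Nat.one_lt_pow (by omega) (by omega)
    refine le_trans (Finset.card_le_card (t := insert 0
      (Finset.univ.filter fun y : K => (y * y) ^ (q ^ d - 1) = 1)) ?_) ((Finset.card_insert_le _ _).trans
        (by have := hroots (q ^ d - 1) (by omega); omega))
    intro y hy
    simp only [fixS, Finset.mem_filter, Finset.mem_univ, true_and] at hy
    rw [Finset.mem_insert, Finset.mem_filter]
    by_cases h0 : y = 0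
    · exact Or.inl h0
    · refine Or.inr ⟨Finset.mem_univ _, mul_right_cancel₀ (mul_ne_zero h0 h0) ?_⟩
      rw [← pow_succ, Nat.sub_add_cancel (by omega), hy, one_mul]
  let R : Finset K := Finset.univ.filter fun y : K => (y * y) ^ (q ^ (n / 2) + 1) = 1
  obtain ⟨y, hy, hfx, hR⟩ : ∃ y ∈ S, (∀ d ∈ n.properDivisors, y ∉ fixS d) ∧ y ∉ R := by
    by_contra hno
    push Not at hno
    have hsub : S ⊆ (Finset.Icc 1 (n / 2)).biUnion fixS ∪ R := fun y hy => by
      by_cases hd : ∀ d ∈ n.properDivisors, y ∉ fixS d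
      · exact Finset.mem_union_right _ (hno y hy hd)
      · push Not at hd
        obtain ⟨d, hd, hyd⟩ := hd
        refine Finset.mem_union_left _ (Finset.mem_biUnion.2 ⟨d, Finset.mem_Icc.2 ?_, hyd⟩)
        rw [Nat.mem_properDivisors] at hd
        obtain ⟨⟨c, hc⟩, hlt⟩ := hd
        have hd0 : d ≠ 0 := fun h => by simp [h] at hc; omega
        have : 2 ≤ c := by rcases c with _ | _ | c <;> simp_all
        have : d * 2 ≤ n := hc ▸ Nat.mul_le_mul_left d this
        omega
    have hb : ((Finset.Icc 1 (n / 2)).biUnion fixS).card ≤ 2 * q ^ (n / 2) := by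
      refine Finset.card_biUnion_le.trans ((Finset.sum_le_sum fun d hd =>
        hfix d (Finset.mem_Icc.1 hd).1).trans ?_)
      have := geom_bound (show 3 ≤ q by omega) (n / 2)
      rw [← Finset.mul_sum] at this
      omega
    have hcard := (Finset.card_le_card hsub).trans (Finset.card_union_le _ _)
    have hRc : R.card ≤ q ^ (n / 2) + 1 := hroots _ (Nat.succ_pos _)
    have hpow : q ^ (n / 2 + 1) ≤ q ^ (n - 1) := Nat.pow_le_pow_right (by omega) (by omega)
    have h4 : 4 * q ^ (n / 2) ≤ q ^ (n / 2 + 1) := by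
      rw [pow_succ, mul_comm]; exact Nat.mul_le_mul_left _ hq
    have : q ≤ q ^ (n / 2) := Nat.le_self_pow (by omega) q
    omega
  have hg := good_minpoly hn h3 y (fun d hd he => hfx d hd (by simp [fixS, he, hqd]))
    (fun _ he => hR (by simp [R, he, hqd]))
  refine ⟨_, _, hg, ?_⟩
  have hfd : (minpoly F (y * y)).natDegree = n := hg.2.1
  have hint : IsIntegral F (y * y) := IsIntegral.of_finite F _
  let pb : PowerBasis F K := PowerBasis.ofAdjoinEqTop hint (Algebra.toSubmodule_eq_top.1
    (Submodule.eq_top_of_finrank_eq (by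
      rw [Subalgebra.finrank_toSubmodule, hn, (Algebra.adjoin.powerBasis hint).finrank,
        Algebra.adjoin.powerBasis_dim, hfd])))
  have h := Algebra.PowerBasis.norm_gen_eq_coeff_zero_minpoly pb
  rw [PowerBasis.ofAdjoinEqTop_gen, ← pb.finrank, hn, map_mul, (Finset.mem_filter.1 hy).2] at h
  exact h.symm

theorem lc_split (hq : 4 ≤ Fintype.card F) [CharP F 2] {k m : ℕ} (hk : 0 < k) (hm : 0 < m) (hn : 3 ≤ k + m)
    {P : F[X]} (hP : P.Monic) (hPd : P.natDegree = k) {ρ : F} (hρ : P.eval ρ ≠ 0) (hρ0 : ρ ≠ 0)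
    (S : Matrix (Fin m) (Fin m) F) (hS : S.IsUpperTriangular) (hd : ∀ r, S r r = ρ)
    (hdet : (compOf k P).det * S.det = 1) (Z : Matrix (Fin k) (Fin m) F) :
    LC (k + m) (fromBlocks (compOf k P) Z 0 S) := by
  obtain ⟨t, f, hf, -⟩ := exists_good_norm hq hn (N := (1 : F)) one_ne_zero
  have hsim : Sim (rc k P 1) (compOf k P) :=
    (cyc_rc k P 1).sim (cyc_compOf k P) (by rw [charpoly_rc hP hPd, charpoly_compOf hP hPd])
  obtain ⟨p, hp, hH⟩ := exists_tfam hk hm (up_rc P one_ne_zero) hS (fun r => by rw [hd]; exact hρ0)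
    (by rw [hsim.det_eq, hdet]) hf.1 hf.2.1
  have hco : IsCoprime P S.charpoly := by
    rw [charpoly_of_isUpperTriangular _ hS]
    simp only [hd, Finset.prod_const, Finset.card_univ, Fintype.card_fin]
    exact (coprime_lin ρ hρ m).symm
  refine ⟨_, t, f, ?_, hf, hH, hp⟩
  refine (sim_upper _ _ (by rwa [charpoly_compOf hP hPd]) Z).trans
    (((sim_tfam (rc k P 1) S p).trans ?_).symm)
  refine (sim_upper _ _ (by rwa [charpoly_rc hP hPd]) _).trans (hsim.blocks (Sim.refl S))

theorem lc_chain (hq : 4 ≤ Fintype.card F) [CharP F 2] {k m : ℕ} (hk : 2 ≤ k) (hn : 3 ≤ k + (m + 1)) {ρ : F}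
    (hρ : ρ ^ (k + (m + 1)) = 1) :
    LC (k + (m + 1)) (canon (k + 1) m ρ) := by
  classical
  have hρ0 : ρ ≠ 0 := fun h => by rw [h, zero_pow (by omega)] at hρ; exact zero_ne_one hρ
  obtain ⟨t, f, hf, -⟩ := exists_good_norm hq hn (N := (1 : F)) one_ne_zero
  obtain ⟨α, hα, hsum⟩ : ∃ α : F, α ≠ 0 ∧
      (∑ i ∈ Finset.range (k - 1), if i = 0 then α else 1) ≠ (1 - ρ) * t := by
    have e : ∀ α : F, (∑ i ∈ Finset.range (k - 1), if i = 0 then α else 1) =
        ((k - 2 : ℕ) : F) + α := by
      intro α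
      rw [show k - 1 = (k - 2) + 1 by omega, Finset.sum_range_succ']
      simp
    obtain ⟨α, -, hα⟩ : ∃ α, α ∈ Finset.univ ∧
        α ∉ ({0, (1 - ρ) * t - ((k - 2 : ℕ) : F)} : Finset F) :=
      Finset.exists_mem_notMem_of_card_lt_card
        (lt_of_le_of_lt Finset.card_le_two (by rw [Finset.card_univ]; omega))
    simp only [Finset.mem_insert, Finset.mem_singleton, not_or] at hα
    exact ⟨α, hα.1, fun h => hα.2 (by rw [← h, e]; ring)⟩
  set a : ℕ → F := fun i => if i = 0 then α else 1 with ha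
  have ha0 : ∀ i, a i ≠ 0 := fun i => by simp only [ha]; split_ifs <;> simp [hα]
  set Tk : Matrix (Fin k) (Fin k) F := fun i j => (if i = j then ρ else 0) +
    (if j.val = i.val + 1 then a i.val else 0) with hTk
  have hTup : Tk.IsUpperTriangular := fun i j h => by
    have h' : j.val < i.val := h
    simp only [hTk]
    rw [if_neg (fun e => by rw [e] at h'; omega), if_neg (by omega), add_zero]
  have hUp : Up Tk := fun i j hj => ⟨fun h => hTup (Fin.lt_def.2 h), by simp [hTk, hρ0]⟩
  have hdet : Tk.det * (ρ • (1 : Matrix (Fin (m + 1)) (Fin (m + 1)) F)).det = 1 := by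
    rw [det_of_isUpperTriangular hTup, det_smul, det_one, mul_one, Fintype.card_fin,
      Finset.prod_congr rfl fun i _ => (show Tk i i = ρ by simp [hTk]), Finset.prod_const,
      Finset.card_univ, Fintype.card_fin, ← pow_add, hρ]
  obtain ⟨p, hp, hH⟩ := exists_tfam (show 0 < k by omega) (Nat.succ_pos m) hUp
    (S := ρ • (1 : Matrix (Fin (m + 1)) (Fin (m + 1)) F))
    (fun i j h => by
      have h' : j.val < i.val := h
      simp [Matrix.one_apply, show i ≠ j from fun e => by rw [e] at h'; omega])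
    (fun r => by simp [hρ0]) hdet hf.1 hf.2.1
  refine ⟨_, t, f, ?_, hf, hH, hp⟩
  set Δ : Matrix (Fin k) (Fin k) F := diagonal fun i => if i.val = 0 then α else 1 with hΔ
  set Δi : Matrix (Fin k) (Fin k) F := diagonal fun i => if i.val = 0 then α⁻¹ else 1 with hΔi
  have hd1 : Δ * Δi = 1 := by
    rw [hΔ, hΔi, diagonal_mul_diagonal, ← diagonal_one]
    congr 1; funext i; split_ifs <;> simp [hα]
  have hd2 : Δi * Δ = 1 := mul_eq_one_comm.1 hd1
  have hJ : Tk * Δ = Δ * Jm k ρ := by
    ext i j
    rw [hΔ, mul_diagonal, diagonal_mul]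
    simp only [hTk, Jm, ha]
    by_cases hij : i = j
    · subst hij; simp [mul_comm]
    · by_cases hs : j.val = i.val + 1
      · rw [if_neg hij, if_pos hs, if_neg hij, if_pos hs, if_neg (show ¬ j.val = 0 by omega)]
        simp
      · simp [hij, hs]
  refine Sim.symm ((sim_tfam Tk (ρ • 1) p).trans ?_)
  have hsim : Sim (fromBlocks Tk (zblk p) 0 (ρ • (1 : Matrix (Fin (m + 1)) (Fin (m + 1)) F)))
      (fromBlocks (Jm k ρ) (Δi * zblk p) 0 (ρ • 1)) :=
    ⟨fromBlocks Δ 0 0 1, fromBlocks Δi 0 0 1, by simp [fromBlocks_multiply, hd1, fromBlocks_one],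
      by simp [fromBlocks_multiply, hd2, fromBlocks_one],
      by simp [fromBlocks_multiply, hJ, ← Matrix.mul_assoc, hd1]⟩
  refine hsim.trans ((chain_form (show 0 < k by omega) ρ _).2 ?_ m rfl)
  by_contra hz
  push Not at hz
  refine hsum ?_
  -- with `η = 0` the trace is forced
  have hrow : ∀ c, zblk p ⟨k - 1, by omega⟩ c = 0 := fun c => by
    have := hz c
    rw [hΔi, diagonal_mul] at this
    refine (mul_eq_zero.1 this).resolve_left ?_
    split_ifs <;> simp [hα]
  set T := tfam Tk (ρ • (1 : Matrix (Fin (m + 1)) (Fin (m + 1)) F)) p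
  have : Nonempty (Fin (k + (m + 1))) := ⟨⟨0, by omega⟩⟩
  have htr : (T * compOf (k + (m + 1)) f).trace = t := by
    rw [trace_eq_neg_charpoly_coeff, hp, Fintype.card_fin, hf.2.2.2.2.1, neg_neg]
  rw [Matrix.trace] at htr
  simp only [Matrix.diag_apply, mul_compOf_apply] at htr
  rw [Fin.sum_univ_eq_sum_range (fun i => if i + 1 < k + (m + 1) then en T i (i + 1)
      else ∑ x ∈ Finset.range (k + (m + 1)), en T i x * phi f x)] at htr
  have hsplit : ∀ g : ℕ → F, ∑ i ∈ Finset.range (k + (m + 1)), g i =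
      (∑ i ∈ Finset.range (k - 1), g i + ∑ i ∈ Finset.range (1 + m), g (k - 1 + i)) + g (k + m) := by
    intro g
    rw [show k + (m + 1) = (k + m) + 1 by omega, Finset.sum_range_succ]
    congr 1
    rw [show k + m = (k - 1) + (1 + m) by omega, Finset.sum_range_add]
  rw [hsplit (fun i => if i + 1 < k + (m + 1) then en T i (i + 1)
      else ∑ x ∈ Finset.range (k + (m + 1)), en T i x * phi f x)] at htr
  have e1 : ∀ i ∈ Finset.range (k - 1), (if i + 1 < k + (m + 1) then en T i (i + 1)
      else ∑ x ∈ Finset.range (k + (m + 1)), en T i x * phi f x) = if i = 0 then α else 1 := by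
    intro i hi
    rw [Finset.mem_range] at hi
    rw [if_pos (by omega), en_tfam_ll (by omega) (by omega)]
    simp [hTk, ha, Fin.ext_iff]
  have e2 : ∀ r ∈ Finset.range (1 + m), (if k - 1 + r + 1 < k + (m + 1) then
      en T (k - 1 + r) (k - 1 + r + 1)
      else ∑ x ∈ Finset.range (k + (m + 1)), en T (k - 1 + r) x * phi f x) = 0 := by
    intro r hr
    rw [Finset.mem_range] at hr
    rw [if_pos (by omega), show k - 1 + r + 1 = k + r by omega]
    rcases Nat.eq_zero_or_pos r with rfl | hr0
    · rw [Nat.add_zero (k - 1), en_tfam_lr (by omega) (by omega)]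
      exact hrow _
    · rw [show k - 1 + r = k + (r - 1) by omega, en_tfam_rr (by omega) (by omega)]
      simp [Matrix.one_apply, Fin.ext_iff, show ¬ r - 1 = r by omega]
  have e3 : ∑ x ∈ Finset.range (k + (m + 1)), en T (k + m) x * phi f x = ρ * t := by
    rw [Finset.sum_eq_single (k + m)]
    · have hc : f.coeff (k + (m + 1) - 1) = -t := hf.2.2.2.2.1
      rw [show k + (m + 1) - 1 = k + m by omega] at hc
      rw [en_tfam_rr (Nat.lt_succ_self m) (Nat.lt_succ_self m), Matrix.smul_apply, Matrix.one_apply_eq,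
        smul_eq_mul, mul_one, phi, hc, neg_neg]
    · intro x hx hne
      rw [Finset.mem_range] at hx
      rcases Nat.lt_or_ge x k with hxk | hxk
      · rw [en_tfam_rl (Nat.lt_succ_self m) hxk, zero_mul]
      · rw [show x = k + (x - k) by omega, en_tfam_rr (Nat.lt_succ_self m) (by omega)]
        simp [Matrix.one_apply, Fin.ext_iff, show ¬ m = x - k by omega]
    · simp
  rw [Finset.sum_congr rfl e1, Finset.sum_congr rfl e2, Finset.sum_const_zero, add_zero,
    if_neg (by omega), e3] at htr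
  linear_combination htr

theorem lc_noroot (hq : 4 ≤ Fintype.card F) [CharP F 2] {n : ℕ} (hn : 3 ≤ n) {P : F[X]} (hP : P.Monic)
    (hPd : P.natDegree = n) (hP0 : (-1) ^ n * P.coeff 0 = 1) (hroot : ∀ x, P.eval x ≠ 0) :
    LC n (compOf n P) := by
  classical
  have hsim : ∀ u : F, Sim (compOf n P) (rc n P u) := fun u => ((cyc_rc n P u).sim (cyc_compOf n P)
    (by rw [charpoly_rc hP hPd, charpoly_compOf hP hPd])).symm
  obtain ⟨L, rfl⟩ : ∃ L, n = L + 3 := ⟨n - 3, by omega⟩
  obtain ⟨γ, -, hγ'⟩ : ∃ γ, γ ∈ Finset.univ ∧ γ ∉ ({0, 1, ((L : ℕ) : F) + 1} : Finset F) :=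
    Finset.exists_mem_notMem_of_card_lt_card
      (lt_of_le_of_lt Finset.card_le_three (by rw [Finset.card_univ]; omega))
  simp only [Finset.mem_insert, Finset.mem_singleton, not_or] at hγ'
  obtain ⟨hγ, hγ1, hγ2⟩ := hγ'
  obtain ⟨α, hαdef⟩ : ∃ α : F, α = 1 := ⟨1, rfl⟩
  have hα : α ≠ 0 := hαdef ▸ one_ne_zero
  set b : F := ((L : ℕ) : F) + 1 + γ with hbdef
  have hb : b ≠ 0 := fun h => hγ2 (by rw [← CharTwo.neg_eq (((L : ℕ) : F) + 1)]; linear_combination h)
  have hsum : α + (L : F) + b + γ = 0 := by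
    rw [hαdef, hbdef]
    linear_combination (norm := (ring_nf; simp [CharTwo.two_eq_zero])) (0 : F) = 0
  have hγα : γ ≠ α := hαdef ▸ hγ1
  obtain ⟨t, f, hf, hN⟩ := exists_good_norm hq hn
    (N := α * b * γ * ((-1) ^ (L + 3) / P.eval 1))
    (mul_ne_zero (mul_ne_zero (mul_ne_zero hα hb) hγ)
      (div_ne_zero (pow_ne_zero _ (neg_ne_zero.2 one_ne_zero)) (hroot 1)))
  set a : ℕ → F := fun i => if i = 0 then α else if i < L + 1 then 1 else b with ha
  have ha0 : ∀ i, a i ≠ 0 := fun i => by simp only [ha]; split_ifs <;> simp [hα, hb]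
  have hA : aprod a (L + 3 - 1) = α * b := by
    rw [show L + 3 - 1 = (L + 1) + 1 from rfl, aprod_succ, aprod, Finset.prod_range_succ']
    rw [Finset.prod_congr rfl fun j hj => (show a (j + 1) = 1 by
      simp [ha, Finset.mem_range.1 hj]), Finset.prod_const_one, one_mul]
    simp [ha]
  have hone : ((-1 : F) ^ (L + 3)) * (-1) ^ (L + 3) = 1 := by
    rw [← mul_pow]; simp
  have hcl : clast (L + 3) P 1 a * phi f 0 = γ := by
    rw [clast_eq, hA, phi]
    have h1 := hroot 1
    field_simp at hN ⊢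
    linear_combination hN
  have hS : (∑ i ∈ Finset.range (L + 3 - 1), a i) = α + (L : F) + b := by
    rw [show L + 3 - 1 = (L + 1) + 1 from rfl, Finset.sum_range_succ, Finset.sum_range_succ',
      Finset.sum_congr rfl fun j hj => (show a (j + 1) = 1 by simp [ha, Finset.mem_range.1 hj]),
      Finset.sum_const, Finset.card_range, nsmul_eq_mul, mul_one]
    simp [ha]; ring
  obtain ⟨T, hT, hH, hc⟩ := exists_tcyc hn hP hPd hP0 one_ne_zero ha0 hf.1 hf.2.1
    (fun i hi => by
      rw [mul_comm, hcl]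
      simp only [ha]
      by_cases h0 : i = 0
      · rw [if_pos h0]; exact Ne.symm hγα
      · rw [if_neg h0, if_pos (by omega)]; exact Ne.symm hγ1)
    (by rw [hcl, hS, sub_self, zero_mul]; exact hsum)
  exact ⟨T, t, f, (hsim 1).trans hT.symm, hf, hH, hc⟩

theorem lc_hess_zero (hq : 4 ≤ Fintype.card F) [CharP F 2] {k : ℕ} (hk : 3 ≤ k) {H : Matrix (Fin k) (Fin k) F}
    (hH : Hess H) (hdet : H.det = 1) : LC k H := by
  set P := H.charpoly with hP
  have hPm : P.Monic := charpoly_monic H
  have hPd : P.natDegree = k := by rw [hP, charpoly_natDegree_eq_dim, Fintype.card_fin]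
  by_cases hroot : ∀ x, P.eval x ≠ 0
  · refine LC.of_sim (hH.cyc.sim (cyc_compOf k P) (by rw [charpoly_compOf hPm hPd]))
      (lc_noroot hq hk hPm hPd ?_ hroot)
    rw [det_eq_sign_charpoly_coeff, Fintype.card_fin] at hdet
    exact hdet
  · push Not at hroot
    obtain ⟨ρ, hρ⟩ := hroot
    have hρ0 : ρ ≠ 0 := fun h => by
      rw [h, ← coeff_zero_eq_eval_zero] at hρ
      rw [det_eq_sign_charpoly_coeff, ← hP, hρ, mul_zero] at hdet
      exact zero_ne_one hdet
    obtain ⟨P1, hP1, hnd⟩ := exists_eq_pow_rootMultiplicity_mul_and_not_dvd P hPm.ne_zero ρ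
    set e := P.rootMultiplicity ρ with he
    have he0 : 0 < e := (rootMultiplicity_pos hPm.ne_zero).2 hρ
    have hm1 : P1.Monic := ((monic_X_sub_C ρ).pow e).of_mul_monic_left (hP1 ▸ hPm)
    have hρ1 : P1.eval ρ ≠ 0 := fun h => hnd (dvd_iff_isRoot.2 h)
    have hdeg : e + P1.natDegree = k := by
      rw [← hPd, hP1, ((monic_X_sub_C ρ).pow e).natDegree_mul hm1, natDegree_pow, natDegree_X_sub_C,
        mul_one]
    have hsim := cyc_split hm1 hρ1 hH.cyc e (hP ▸ hP1)
    rcases Nat.eq_zero_or_pos P1.natDegree with h0 | h0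
    · have h1 := eq_one_of_monic_natDegree_zero hm1 h0
      rw [h1, mul_one] at hP1
      obtain ⟨k', rfl⟩ : ∃ k', k = k' + 1 := ⟨k - 1, by omega⟩
      have hek : e = k' + 1 := by omega
      have hdetρ : ρ ^ (k' + (0 + 1)) = 1 := by
        rw [det_eq_sign_charpoly_coeff, ← hP, hP1, hek, coeff_zero_eq_eval_zero, Fintype.card_fin,
          eval_pow, eval_sub, eval_X, eval_C, zero_sub, neg_pow ρ, ← mul_assoc, ← mul_pow,
          neg_one_mul, neg_neg, one_pow, one_mul] at hdet
        rw [zero_add]; exact hdet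
      refine LC.of_sim ?_ (lc_chain hq (show 2 ≤ k' by omega) (m := 0) (by omega) hdetρ)
      exact (hH.cyc.sim (cyc_Jm (k' + 1) ρ) (by rw [charpoly_Jm, ← hP, hP1, hek])).trans
        (Sim.empty _ _).symm
    · have hdk : (compOf P1.natDegree P1).det * (Jm e ρ).det = 1 := by
        rw [← det_sum, ← hsim.det_eq, hdet]
      have := lc_split hq h0 he0 (by omega) hm1 rfl hρ1 hρ0 (Jm e ρ) (Jm_upper e ρ) (Jm_diag e ρ)
        hdk 0
      rw [show P1.natDegree + e = k by omega] at this
      exact LC.of_sim hsim this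

theorem lc_main (hq : 4 ≤ Fintype.card F) [CharP F 2] {k m : ℕ} (hk : 2 ≤ k) (hn : 3 ≤ k + m) {ε : F}
    (hε : ε * ε = 1) {H : Matrix (Fin k) (Fin k) F} (hH : Hess H) (E : Matrix (Fin k) (Fin m) F)
    (hdet : (fromBlocks H E 0 (ε • (1 : Matrix (Fin m) (Fin m) F))).det = 1)
    (hbad : k = 2 → ε = 1 → H.charpoly ≠ (X - C 1) ^ 2) :
    LC (k + m) (fromBlocks H E 0 (ε • (1 : Matrix (Fin m) (Fin m) F))) := by
  rw [det_fromBlocks_zero₂₁, det_smul, det_one, mul_one, Fintype.card_fin] at hdet
  rcases Nat.eq_zero_or_pos m with rfl | hm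
  · rw [pow_zero, mul_one] at hdet
    have hE : E = 0 := Matrix.ext fun i j => j.elim0
    refine LC.of_sim ?_ (lc_hess_zero hq (show 3 ≤ k + 0 by omega) hH hdet)
    rw [hE]
    exact Sim.empty _ _
  have hε0 : ε ≠ 0 := left_ne_zero_of_mul (hε.trans_ne one_ne_zero)
  set P := H.charpoly with hP
  have hPm : P.Monic := charpoly_monic H
  obtain ⟨P1, hP1, hnd⟩ := exists_eq_pow_rootMultiplicity_mul_and_not_dvd P hPm.ne_zero ε
  set e := P.rootMultiplicity ε with he
  have hm1 : P1.Monic := ((monic_X_sub_C ε).pow e).of_mul_monic_left (hP1 ▸ hPm)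
  have hε1 : P1.eval ε ≠ 0 := fun h => hnd (dvd_iff_isRoot.2 h)
  have hdeg : e + P1.natDegree = k := by
    rw [← Fintype.card_fin k, ← H.charpoly_natDegree_eq_dim, ← hP, hP1,
      ((monic_X_sub_C ε).pow e).natDegree_mul hm1, natDegree_pow, natDegree_X_sub_C, mul_one]
  rcases Nat.eq_zero_or_pos P1.natDegree with h0 | h0
  · rw [eq_one_of_monic_natDegree_zero hm1 h0, mul_one] at hP1
    clear_value e
    obtain rfl : e = k := by omega
    obtain ⟨Pm, Qm, h1, h2', h3⟩ := hH.cyc.sim (cyc_Jm e ε) (by rw [charpoly_Jm, ← hP, hP1])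
    have hs : Sim (fromBlocks H E 0 (ε • (1 : Matrix (Fin m) (Fin m) F)))
        (fromBlocks (Jm e ε) (Qm * E) 0 (ε • 1)) :=
      ⟨fromBlocks Pm 0 0 1, fromBlocks Qm 0 0 1, by simp [fromBlocks_multiply, h1, fromBlocks_one],
        by simp [fromBlocks_multiply, h2', fromBlocks_one],
        by simp [fromBlocks_multiply, h3, ← Matrix.mul_assoc, h1]⟩
    have hεn : ε ^ (e + m) = 1 := by
      rw [hH.cyc.sim (cyc_Jm e ε) (by rw [charpoly_Jm, ← hP, hP1]) |>.det_eq, det_Jm, ← pow_add]
        at hdet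
      exact hdet
    obtain ⟨r, hr⟩ : ∃ r, m = r + 1 := ⟨m - 1, by omega⟩
    by_cases hlast : ∀ c, (Qm * E) ⟨e - 1, by omega⟩ c = 0
    · obtain ⟨e', rfl⟩ : ∃ e', e = e' + 1 := ⟨e - 1, by omega⟩
      have hε1' : ε = 1 := sub_eq_zero.1 (mul_self_eq_zero.1 (show (ε - 1) * (ε - 1) = 0 by
        linear_combination hε + (1 - ε) * (CharTwo.two_eq_zero (R := F))))
      have he' : 2 ≤ e' := by
        by_contra he'
        exact hbad (by omega) hε1' (by rw [hP1, hε1', show e' + 1 = 2 by omega])
      have := lc_chain hq he' (m := m) (ρ := ε) (by omega)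
        (by rw [show e' + (m + 1) = e' + 1 + m by omega]; exact hεn)
      rw [show e' + (m + 1) = e' + 1 + m by omega] at this
      exact LC.of_sim (hs.trans ((chain_form (by omega) ε _).1 hlast)) this
    · push Not at hlast
      subst hr
      exact LC.of_sim (hs.trans ((chain_form (by omega) ε _).2 hlast r rfl))
        (lc_chain hq (show 2 ≤ e by omega) hn hεn)
  · obtain ⟨Pm, Qm, h1, h2', h3⟩ := cyc_split hm1 hε1 hH.cyc e (hP ▸ hP1)
    set E' := Qm * E
    have hs : Sim (fromBlocks H E 0 (ε • (1 : Matrix (Fin m) (Fin m) F)))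
        (fromBlocks (fromBlocks (compOf P1.natDegree P1) 0 0 (Jm e ε)) E' 0 (ε • 1)) :=
      ⟨fromBlocks Pm 0 0 1, fromBlocks Qm 0 0 1, by simp [fromBlocks_multiply, h1, fromBlocks_one],
        by simp [fromBlocks_multiply, h2', fromBlocks_one],
        by simp [E', fromBlocks_multiply, h3, ← Matrix.mul_assoc, h1]⟩
    set S : Matrix (Fin (e + m)) (Fin (e + m)) F :=
      (fromBlocks (Jm e ε) (E'.submatrix Sum.inr id) 0 (ε • 1)).submatrix
        finSumFinEquiv.symm finSumFinEquiv.symm with hS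
    set Z : Matrix (Fin P1.natDegree) (Fin (e + m)) F :=
      fun i c => Sum.elim (fun _ => 0) (fun c' => E' (.inl i) c') (finSumFinEquiv.symm c) with hZ
    have hSup : S.IsUpperTriangular := by
      intro i j h
      obtain ⟨i, rfl⟩ := finSumFinEquiv.surjective i
      obtain ⟨j, rfl⟩ := finSumFinEquiv.surjective j
      rw [hS, Matrix.submatrix_apply, Equiv.symm_apply_apply, Equiv.symm_apply_apply]
      have h' : (finSumFinEquiv j).val < (finSumFinEquiv i).val := h
      rcases i with i | i <;> rcases j with j | j <;>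
        simp only [finSumFinEquiv_apply_left, finSumFinEquiv_apply_right, Fin.val_castAdd,
          Fin.val_natAdd] at h'
      · rw [fromBlocks_apply₁₁]; exact Jm_upper e ε (Fin.lt_def.2 h')
      · omega
      · rfl
      · simp [Matrix.one_apply, show i ≠ j from fun h => by rw [h] at h'; omega]
    have hSd : ∀ r, S r r = ε := by
      intro r
      obtain ⟨r, rfl⟩ := finSumFinEquiv.surjective r
      rw [hS, Matrix.submatrix_apply, Equiv.symm_apply_apply]
      rcases r with r | r <;> simp [Jm_diag]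
    have hsim2 : Sim (fromBlocks (fromBlocks (compOf P1.natDegree P1) 0 0 (Jm e ε)) E' 0 (ε • 1))
        (fromBlocks (compOf P1.natDegree P1) Z 0 S) := by
      refine (Sim.submatrix _ (((Equiv.sumCongr (Equiv.refl _) finSumFinEquiv.symm).trans
        (Equiv.sumAssoc _ _ _).symm))).trans (Sim.of_eq ?_)
      ext (i | i) (j | j)
      · rfl
      · rcases hj : finSumFinEquiv.symm j with j' | j' <;> simp [hj] <;> simp [hZ, hj]
      · rcases hi : finSumFinEquiv.symm i with i' | i' <;> simp [hi]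
      · rcases hi : finSumFinEquiv.symm i with i' | i' <;>
          rcases hj : finSumFinEquiv.symm j with j' | j' <;> simp [hS, hi, hj]
    have hdk : (compOf P1.natDegree P1).det * S.det = 1 := by
      have := (hs.trans hsim2).det_eq
      rw [det_fromBlocks_zero₂₁, det_fromBlocks_zero₂₁, det_smul, det_one, mul_one, Fintype.card_fin,
        hdet] at this
      exact this.symm
    have := lc_split hq h0 (show 0 < e + m by omega) (by omega) hm1 rfl hε1 hε0 S hSup hSd hdk Z
    rw [show P1.natDegree + (e + m) = k + m by omega] at this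
    exact LC.of_sim (hs.trans hsim2) this

end Cfsg.Agent.H58.OreEven
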