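import Cfsg.Agent.H58.OreOmega.MatField

/-!
Regularity from the absence of pairs of reciprocal roots, and a regular matrix in characteristic two.
-/

set_option autoImplicit false
set_option linter.unusedSectionVars false

namespace Cfsg.Agent.H58.OreEven

open Matrix Polynomial
open Cfsg.Agent.H58.OreOmega (MM Reg)
open Cfsg.Agent.H60.Ore

variable {F : Type*} [Field F]

/-- `Reg` from: no root of the characteristic polynomial is the inverse of a root. -/
theorem reg_of_no_recip {n : ℕ} (hn : 0 < n) {g : F[X]} (h0 : g.eval 0 ≠ 0) (h1 : g.eval 1 ≠ 0)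
    (hr : ∀ a : AlgebraicClosure F, a ≠ 0 → aeval a g = 0 → aeval a⁻¹ g ≠ 0)
    (A : (MM n F)ˣ) (hA : A.1.charpoly = g) : Reg A := by
  classical
  have : Nonempty (Fin n) := ⟨⟨0, hn⟩⟩
  have hd : A.1.det ≠ 0 := (A.1.isUnit_iff_isUnit_det.1 A.isUnit).ne_zero
  set c : F := (-1) ^ Fintype.card (Fin n) * A.1.det⁻¹ with hc
  have hinv : (A⁻¹).1.charpoly = C c * g.reverse := by
    rw [Matrix.coe_units_inv, Matrix.charpoly_inv _ A.isUnit, ← Matrix.reverse_charpoly, hA,
      Ring.inverse_eq_inv', hc]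
    simp
  have hc0 : c ≠ 0 := mul_ne_zero (pow_ne_zero _ (neg_ne_zero.2 one_ne_zero)) (inv_ne_zero hd)
  have hlc : g.leadingCoeff = 1 := hA ▸ (charpoly_monic A.1).leadingCoeff
  have hrev : ∀ a : AlgebraicClosure F, aeval a g.reverse = 0 → a ≠ 0 ∧ aeval a⁻¹ g = 0 := by
    intro a ha
    have ha0 : a ≠ 0 := by
      rintro rfl
      rw [aeval_def, eval₂_at_zero, coeff_zero_reverse, hlc, map_one] at ha
      exact one_ne_zero ha
    refine ⟨ha0, ?_⟩
    let : Invertible (a⁻¹) := invertibleOfNonzero (inv_ne_zero ha0)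
    refine (eval₂_reverse_eq_zero_iff (algebraMap F _) a⁻¹ g).1 ?_
    rwa [invOf_eq_inv, inv_inv]
  refine ⟨by rwa [hA], ?_, ?_⟩
  · rw [hinv, eval_mul, eval_C]
    refine mul_ne_zero hc0 fun h => h1 ?_
    let : Invertible (1 : F) := invertibleOne
    have := eval₂_reverse_eq_zero_iff (RingHom.id F) (1 : F) g
    rw [invOf_one] at this
    exact this.1 h
  · rw [hA, hinv, isCoprime_mul_unit_left_right (isUnit_C.2 hc0.isUnit),
      isCoprime_iff_aeval_ne_zero_of_isAlgClosed F (AlgebraicClosure F)]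
    intro a
    by_contra hcon
    push Not at hcon
    obtain ⟨h2, h3⟩ := hrev a hcon.2
    exact hr a h2 hcon.1 h3

/-- A regular matrix in characteristic two. -/
theorem exists_reg_two [CharP F 2] {n : ℕ} (hn : 3 ≤ n) :
    ∃ A : (MM n F)ˣ, Reg A := by
  classical
  set k := (n - 1) / 2 with hk
  set g : F[X] := X ^ n + X ^ k + 1 with hg
  have hkn : k < n := by omega
  have hm : g.Monic := by
    rw [hg, add_assoc]
    refine monic_X_pow_add ((degree_add_le _ _).trans_lt (max_lt ?_ ?_))
    · rw [degree_X_pow]; exact_mod_cast hkn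
    · rw [degree_one]; exact_mod_cast (show 0 < n by omega)
  have hd : g.natDegree = n := by
    rw [hg, add_assoc, natDegree_add_eq_left_of_natDegree_lt, natDegree_X_pow]
    rw [natDegree_X_pow]
    refine (natDegree_add_le _ _).trans_lt (max_lt ?_ ?_)
    · rw [natDegree_X_pow]; exact hkn
    · rw [natDegree_one]; omega
  have h00 : g.eval 0 = 1 := by simp [hg, show n ≠ 0 by omega, show k ≠ 0 by omega]
  have h11 : g.eval 1 = 1 := by simp [hg, CharTwo.add_self_eq_zero]
  have hX : (compOf n g).det ≠ 0 := by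
    rw [det_compOf hm hd, coeff_zero_eq_eval_zero, h00, mul_one]
    exact pow_ne_zero _ (neg_ne_zero.2 one_ne_zero)
  refine ⟨GeneralLinearGroup.mkOfDetNeZero _ hX, reg_of_no_recip (by omega) (g := g)
    (by rw [h00]; exact one_ne_zero) (by rw [h11]; exact one_ne_zero) (fun a ha h1 h2 => ?_) _
    (charpoly_compOf hm hd)⟩
  have : CharP (AlgebraicClosure F) 2 :=
    charP_of_injective_algebraMap (algebraMap F (AlgebraicClosure F)).injective 2
  simp only [hg, map_add, map_pow, aeval_X, map_one, inv_pow] at h1 h2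
  have han := pow_ne_zero n ha
  have hak := pow_ne_zero k ha
  field_simp at h2
  obtain ⟨j, hj, hj12⟩ : ∃ j, n = k + k + j ∧ (j = 1 ∨ j = 2) := ⟨n - (k + k), by omega, by omega⟩
  rw [hj] at h1 h2 han
  simp only [pow_add] at h1 h2
  have e : a ^ k * a ^ k * (a ^ j - 1) = 0 := by
    linear_combination (norm := (ring_nf; simp [CharTwo.two_eq_zero])) h2 + a ^ k * h1
  have ej : a ^ j = 1 := sub_eq_zero.1 ((mul_eq_zero.1 e).resolve_left (mul_ne_zero hak hak))
  have ha1 : a = 1 := by
    rcases hj12 with rfl | rfl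
    · simpa using ej
    · refine sub_eq_zero.1 (pow_eq_zero_iff two_ne_zero |>.1 (?_ : (a - 1) ^ 2 = 0))
      linear_combination (norm := (ring_nf; simp [CharTwo.two_eq_zero])) ej
  rw [ha1] at h1
  simp [CharTwo.add_self_eq_zero] at h1

end Cfsg.Agent.H58.OreEven
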