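import Cfsg.Agent.H58.OreEven.Twist
import Cfsg.Agent.H58.OreEven.MatEven
import Cfsg.Agent.H58.OreEven.CertTwo
import Cfsg.Agent.H58.OreEven.RegRev

/-!
Commutators from twisted frames with a Hessenberg corner.
-/

set_option autoImplicit false
set_option linter.unusedSectionVars false
set_option linter.unusedSimpArgs false
set_option linter.unusedVariables false

namespace Cfsg.Agent.H58.OreEven

open Matrix Polynomial Module
open Cfsg.Agent.Orthogonal Cfsg.Agent.Orthogonal.IsFrame
open Cfsg.Agent.H60.Ore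
open Cfsg.Agent.H58.OreOmega (MM Reg LC Good exists_good)
open QuadraticMap (polar polar_comm polar_add_left polar_add_right)

variable {F V : Type*} [Field F] [AddCommGroup V] [Module F V] [FiniteDimensional F V]
variable {Q : QuadraticForm F V}

namespace Head

variable {S : Submodule F V} {k : ℕ} {ρ : V → V} (H : Head Q S k ρ)

/-- The same head on an equal subspace. -/
def cast {S' : Submodule F V} (h : S = S') : Head Q S' k ρ where
  v0 := H.v0
  v1 := H.v1
  a00 := H.a00
  a01 := H.a01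
  a10 := H.a10
  a11 := H.a11
  m0 := h ▸ H.m0
  m1 := h ▸ H.m1
  d0 := H.d0
  d1 := H.d1
  skew := H.skew
  sol := h ▸ H.sol
  odd := H.odd

theorem core_scale (θ : F) (i l : ℕ) :
    H.core θ i l = (if i = 0 then θ else 1) * H.core 1 i l * (if l = 0 then θ else 1) := by
  by_cases h : 2 ≤ i ∨ 2 ≤ l
  · rw [H.core_ge θ h, H.core_ge 1 h]
    by_cases h1 : i = l + 1
    · rw [if_pos h1, if_neg (show ¬ i = 0 by omega), if_neg (show ¬ l = 0 by omega)]; ring
    · by_cases h2 : l = i + 1
      · rw [if_neg h1, if_pos h2, if_neg (show ¬ i = 0 by omega), if_neg (show ¬ l = 0 by omega)]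
        ring
      · rw [if_neg h1, if_neg h2]; ring
  · rcases (show i = 0 ∨ i = 1 by omega) with rfl | rfl <;>
      rcases (show l = 0 ∨ l = 1 by omega) with rfl | rfl <;>
      simp [core00, core01, core10, core11] <;> ring

/-- Nondegeneracy of the head. -/
def Ok : Prop := (Even k → H.a00 * H.a11 - H.a01 * H.a10 ≠ 0) ∧ (Odd k → H.a00 ≠ 0)

theorem core_ker (hok : H.Ok) (u : ℕ → F)
    (h : ∀ i < k, ∑ l ∈ Finset.range k, H.core 1 i l * u l = 0) : ∀ l < k, u l = 0 := by
  classical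
  rcases (show k = 0 ∨ k = 1 ∨ 2 ≤ k by omega) with rfl | rfl | hk
  · intro l hl; omega
  · intro l hl
    have h0 := h 0 one_pos
    rw [Finset.sum_range_one, H.core00, one_pow, mul_one, mul_eq_zero] at h0
    rw [show l = 0 by omega]
    exact h0.resolve_left (hok.2 odd_one)
  -- rows from the third one on
  have hA : ∀ m, 1 ≤ m → m + 1 < k → u m = if m + 2 < k then u (m + 2) else 0 := by
    intro m hm hmk
    have hsplit : ∀ l ∈ Finset.range k, H.core 1 (m + 1) l * u l =
        (if l = m then u m else 0) + (if l = m + 2 then -u (m + 2) else 0) := by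
      intro l _
      rcases (show l = m ∨ l = m + 2 ∨ (l ≠ m ∧ l ≠ m + 2) by omega) with rfl | rfl | ⟨e1, e2⟩
      · rw [H.core_sub, if_neg (show ¬ l = 0 by omega), if_pos rfl, if_neg (by omega)]; ring
      · rw [H.core_sup 1 (m + 1), if_neg (by omega), if_neg (by omega), if_pos rfl]; ring
      · rw [if_neg e1, if_neg e2, H.core_ge 1 (by omega), if_neg (by omega), if_neg (by omega)]
        ring
    have h1 := h (m + 1) hmk
    rw [Finset.sum_congr rfl hsplit, Finset.sum_add_distrib, Finset.sum_ite_eq', Finset.sum_ite_eq',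
      if_pos (Finset.mem_range.2 (by omega))] at h1
    by_cases h2 : m + 2 < k
    · rw [if_pos h2]
      rw [if_pos (Finset.mem_range.2 h2)] at h1
      linear_combination h1
    · rw [if_neg h2]
      rw [if_neg (by simp only [Finset.mem_range]; omega), add_zero] at h1
      exact h1
  -- the parity of `k`
  have hB : ∀ d l, 1 ≤ l → l + 2 + 2 * d = k → u l = 0 := by
    intro d
    induction d with
    | zero => intro l hl e; rw [hA l hl (by omega), if_neg (by omega)]
    | succ d ih =>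
      intro l hl e
      rw [hA l hl (by omega), if_pos (by omega)]
      exact ih (l + 2) (by omega) (by omega)
  have hr0 : H.a00 * u 0 + H.a01 * u 1 = 0 := by
    have h0 := h 0 (by omega)
    rw [← Finset.sum_range_add_sum_Ico _ hk, Finset.sum_eq_zero (s := Finset.Ico 2 k) fun l hl => by
      rw [Finset.mem_Ico] at hl; rw [H.core_far 1 (Or.inr (by omega)), zero_mul], add_zero,
      Finset.sum_range_succ, Finset.sum_range_one, H.core00, H.core01] at h0
    linear_combination h0
  have hr1 : H.a10 * u 0 + H.a11 * u 1 - (if 2 < k then u 2 else 0) = 0 := by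
    have h1 := h 1 (by omega)
    rcases (show k = 2 ∨ 3 ≤ k by omega) with e | hk3
    · rw [show Finset.range k = Finset.range 2 by rw [e], Finset.sum_range_succ,
        Finset.sum_range_one, H.core10, H.core11] at h1
      rw [if_neg (by omega)]
      linear_combination h1
    · rw [← Finset.sum_range_add_sum_Ico _ hk3, Finset.sum_eq_zero (s := Finset.Ico 3 k) fun l hl => by
        rw [Finset.mem_Ico] at hl; rw [H.core_far 1 (Or.inr (by omega)), zero_mul], add_zero,
        Finset.sum_range_succ, Finset.sum_range_succ, Finset.sum_range_one, H.core10, H.core11,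
        H.core_sup 1 1, if_neg one_ne_zero] at h1
      rw [if_pos (by omega)]
      linear_combination h1
  have hlow : u 0 = 0 ∧ u 1 = 0 ∧ (2 < k → u 2 = 0) := by
    rcases Nat.even_or_odd k with ⟨j, hj⟩ | ⟨j, hj⟩
    · have h2 : 2 < k → u 2 = 0 := fun h => hB (j - 2) 2 (by omega) (by omega)
      have e : (if 2 < k then u 2 else 0) = 0 := by
        split_ifs with h'
        · exact h2 h'
        · rfl
      rw [e, sub_zero] at hr1
      have hd := hok.1 ⟨j, hj⟩
      refine ⟨?_, ?_, h2⟩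
      · refine (mul_eq_zero.1 (show (H.a00 * H.a11 - H.a01 * H.a10) * u 0 = 0 by
          linear_combination H.a11 * hr0 - H.a01 * hr1)).resolve_left hd
      · refine (mul_eq_zero.1 (show (H.a00 * H.a11 - H.a01 * H.a10) * u 1 = 0 by
          linear_combination H.a00 * hr1 - H.a10 * hr0)).resolve_left hd
    · have h1 : u 1 = 0 := hB (j - 1) 1 le_rfl (by omega)
      rw [h1, mul_zero, add_zero] at hr0
      have h0 : u 0 = 0 := (mul_eq_zero.1 hr0).resolve_left (hok.2 ⟨j, hj⟩)
      refine ⟨h0, h1, fun h2 => ?_⟩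
      rw [h0, h1, if_pos h2] at hr1
      linear_combination -hr1
  intro l
  induction l using Nat.strong_induction_on with
  | _ l ih =>
    intro hl
    rcases (show l = 0 ∨ l = 1 ∨ l = 2 ∨ 3 ≤ l by omega) with rfl | rfl | rfl | h3
    · exact hlow.1
    · exact hlow.2.1
    · exact hlow.2.2 hl
    · have := hA (l - 2) (by omega) (by omega)
      rw [show l - 2 + 2 = l by omega, if_pos hl, ih (l - 2) (by omega) (by omega)] at this
      exact this.symm

end Head

variable [Fintype F]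

/-- A regular matrix of square determinant. -/
theorem exists_reg_sq (ν : ℕ) (hν : 3 ≤ ν) :
    ∃ A : GL (Fin ν) F, Reg A ∧ IsSquare A.1.det := by
  by_cases h2 : (2 : F) = 0
  · have : CharP F 2 := CharTwo.of_one_ne_zero_of_two_eq_zero one_ne_zero h2
    obtain ⟨A, hA⟩ := exists_reg_two (F := F) hν
    exact ⟨A, hA, FiniteField.isSquare_of_char_two (ringChar.eq F 2) _⟩
  · obtain ⟨f0, hf0⟩ := exists_good h2 hν (0 : F)
    have hA0 : (compOf ν f0).det ≠ 0 := by
      rw [det_compOf hf0.1 hf0.2.1]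
      exact mul_ne_zero (pow_ne_zero _ (neg_ne_zero.2 one_ne_zero)) (hf0.coeff_zero_ne (by omega))
    refine ⟨GeneralLinearGroup.mkOfDetNeZero (compOf ν f0) hA0,
      hf0.reg (by omega) _ (charpoly_compOf hf0.1 hf0.2.1), ?_⟩
    show IsSquare (compOf ν f0).det
    rw [det_compOf hf0.1 hf0.2.1]; exact hf0.2.2.2.1

/-- Block triangular matrices with a Hessenberg corner and a scalar corner have certificates. -/
theorem cert_block {k m : ℕ} (hk : 2 ≤ k) (hn : 3 ≤ k + m) {ε : F} (hε : ε * ε = 1)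
    {H : Matrix (Fin k) (Fin k) F} (hH : Hess H) (E : Matrix (Fin k) (Fin m) F)
    (hdet : (fromBlocks H E 0 (ε • (1 : Matrix (Fin m) (Fin m) F))).det = 1)
    (hbad : k = 2 → ε = 1 → H.charpoly ≠ (X - C 1) ^ 2) :
    Cert (k + m) (fromBlocks H E 0 (ε • (1 : Matrix (Fin m) (Fin m) F))) := by
  by_cases h2 : (2 : F) = 0
  · have : CharP F 2 := CharTwo.of_one_ne_zero_of_two_eq_zero one_ne_zero h2
    by_cases hq : 4 ≤ Fintype.card F
    · exact Cert.of_lc hn (lc_main hq hk hn hε hH E hdet hbad)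
    · have hq2 : Fintype.card F = 2 := by
        obtain ⟨j, hp, hj⟩ := FiniteField.card F 2
        rw [hj] at hq ⊢
        have h1 : (j : ℕ) < 2 := (Nat.pow_lt_pow_iff_right one_lt_two).1 (show (2 : ℕ) ^ (j : ℕ) < 2 ^ 2 by omega)
        have h0 : 0 < (j : ℕ) := j.pos
        rw [show (j : ℕ) = 1 by omega, pow_one]
      have hε1 : ε = 1 := sub_eq_zero.1 (mul_self_eq_zero.1 (show (ε - 1) * (ε - 1) = 0 by
        linear_combination hε + (1 - ε) * h2))
      subst hε1
      rw [one_smul] at hdet ⊢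
      exact cert_main_two hq2 hk hn hH E hdet fun h => hbad h rfl
  · exact Cert.of_lc hn (OreOmega.lc_main h2 hk hn hε hH E hdet hbad)

/-- The characteristic polynomial `(X - 1) ^ 2` forces trace two. -/
theorem trace_of_bad {k : ℕ} (hk : k = 2) (H : Matrix (Fin k) (Fin k) F)
    (h : H.charpoly = (X - C 1) ^ 2) : H.trace = 2 := by
  subst hk
  rw [H.trace_eq_neg_charpoly_coeff, h, show ((X : F[X]) - C 1) ^ 2 = X ^ 2 + C (-2) * X + C 1 by
    simp only [map_neg, map_ofNat, map_one]; ring]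
  simp [coeff_X_pow, coeff_C, Polynomial.coeff_one]

theorem sum_castLE {K ν : ℕ} (hK : K ≤ ν) (G : Fin ν → F) :
    (∑ l : Fin ν, if l.val < K then G l else 0) = ∑ l : Fin K, G (Fin.castLE hK l) := by
  rw [← Finset.sum_filter, show Finset.univ.filter (fun l : Fin ν => l.val < K) =
      Finset.univ.map (Fin.castLEEmb hK) by
    ext l
    simp only [Finset.mem_filter, Finset.mem_univ, true_and, Finset.mem_map, Fin.castLEEmb_apply]
    constructor
    · intro hl; exact ⟨⟨l.val, hl⟩, rfl⟩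
    · rintro ⟨i, rfl⟩; simp, Finset.sum_map]
  rfl

namespace Data

variable {ν : ℕ} {g : O Q} {k : ℕ} {x y : Fin ν → V} {σ : Fin ν → Fin ν}
  {N : Fin ν → Fin ν → F} {ε : F} {ρ : V → V}
/-- The corner of the block of the twisted frame. -/
noncomputable def corner (D : Data g k x y σ N ε ρ) (H : Head Q (kernel Q x y) k ρ) {K : ℕ}
    (hK : K ≤ ν) (θ : F) : Matrix (Fin K) (Fin K) F :=
  fun i j => blk Q g x (twF x y σ N ε K H θ) (Fin.castLE hK i) (Fin.castLE hK j)

/-- The left factor of the corner. -/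
def chR (D : Data g k x y σ N ε ρ) (H : Head Q (kernel Q x y) k ρ) (K : ℕ) (θ : F) :
    Matrix (Fin K) (Fin K) F :=
  fun i l => if l.val < k then H.core θ i.val l.val else if i = l then ε else 0

/-- The right factor of the corner. -/
def chU (D : Data g k x y σ N ε ρ) {K : ℕ} (hK : K ≤ ν) : Matrix (Fin K) (Fin K) F :=
  fun l j => if l.val < k then N (Fin.castLE hK l) (Fin.castLE hK j) else if l = j then 1 else 0

variable (D : Data g k x y σ N ε ρ)
include D

/-- Elements with a trivial block are commutators. -/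
theorem com_one (hQ : Nondeg Q) (hν : 3 ≤ ν) (H : Head Q (kernel Q x y) k ρ) {K : ℕ} {θ : F}
    (hK : K ≤ ν) (hKk : K = k ∨ (K = k + 1 ∧ 1 ≤ k) ∨
      (k = 0 ∧ K = 2 ∧ ∀ i : Fin ν, i.val < 2 → σ i ≠ i ∧ (σ i).val < 2))
    (hθ : θ ≠ 0) (hvK : ∀ i, K ≤ i → H.vec θ i = 0) (h1 : k = 1 → H.v1 = 0)
    (hblk : blk Q g x (twF x y σ N ε K H θ) = 1) :
    ∃ a ∈ commutator (O Q), ∃ b ∈ commutator (O Q), g = a * b * a⁻¹ * b⁻¹ := by
  obtain ⟨A, hA, hAs⟩ := exists_reg_sq (F := F) ν hν
  refine isCom_frame hQ (D.frame_twF H θ (by omega) hvK) hν g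
    (D.res_twF H θ (by omega) hK hKk hθ hvK h1) A 1 hA hAs (by simp) ?_
  rw [hblk]; simp

/-- The main criterion. -/
theorem com_block (hQ : Nondeg Q) (hν : 3 ≤ ν) (hg : g ∈ commutator (O Q))
    (H : Head Q (kernel Q x y) k ρ) {K : ℕ} (hK : K ≤ ν) (hK2 : 2 ≤ K)
    (hKk : K = k ∨ (K = k + 1 ∧ 1 ≤ k) ∨
      (k = 0 ∧ K = 2 ∧ ∀ i : Fin ν, i.val < 2 → σ i ≠ i ∧ (σ i).val < 2))
    (hvK : ∀ θ i, K ≤ i → H.vec θ i = 0) (h1 : k = 1 → H.v1 = 0)
    (hH : ∀ θ : F, θ ≠ 0 → Hess (D.corner H hK θ)) {d : F} (hd : d ≠ 0)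
    (hscale : ∀ θ : F, θ ≠ 0 → (D.corner H hK θ).det = θ ^ 2 * d)
    (hbad : K = 2 → ε = 1 → ∀ θ : F, θ ≠ 0 → (D.corner H hK θ).det = 1 →
      (D.corner H hK θ).trace ≠ 2 ∨ (D.corner H hK (-θ)).trace ≠ 2) :
    ∃ a ∈ commutator (O Q), ∃ b ∈ commutator (O Q), g = a * b * a⁻¹ * b⁻¹ := by
  classical
  have hkK : k ≤ K := by omega
  obtain ⟨m, hm⟩ : ∃ m, ν = K + m := ⟨ν - K, by omega⟩
  subst hm
  let e : Fin K ⊕ Fin m ≃ Fin (K + m) := finSumFinEquiv
  let Dm : F → MM (K + m) F := fun θ => blk Q g x (twF x y σ N ε K H θ)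
  have hblocks : ∀ θ, ∃ E, (Dm θ).submatrix e e =
      fromBlocks (D.corner H hK θ) E 0 (ε • (1 : Matrix (Fin m) (Fin m) F)) := fun θ => by
    refine ⟨fun i j => Dm θ (e (.inl i)) (e (.inr j)), ?_⟩
    have hhigh : ∀ (r : Fin m) (c : Fin (K + m)), Dm θ (e (.inr r)) c =
        if e (.inr r) = c then ε else 0 := fun r c =>
      D.blk_high H θ hkK (hvK θ) (by simp [e]) c
    ext (i | i) (j | j)
    · rfl
    · rfl
    · rw [submatrix_apply, hhigh, if_neg (fun h => by simpa using e.injective h)]; rfl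
    · rw [submatrix_apply, hhigh]
      show _ = (ε • (1 : Matrix (Fin m) (Fin m) F)) i j
      simp [Matrix.one_apply, e.apply_eq_iff_eq]
  have hdetD : ∀ θ, θ ≠ 0 → (Dm θ).det = θ ^ 2 * d * ε ^ m := fun θ hθ => by
    obtain ⟨E, hE⟩ := hblocks θ
    rw [← det_submatrix_equiv_self e, hE, det_fromBlocks_zero₂₁, hscale θ hθ, det_smul, det_one,
      mul_one, Fintype.card_fin]
  have hne : ∀ θ, θ ≠ 0 → (Dm θ).det ≠ 0 := fun θ hθ => by
    rw [hdetD θ hθ]
    exact mul_ne_zero (mul_ne_zero (pow_ne_zero _ hθ) hd) (pow_ne_zero _ D.eps_ne)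
  have hfr : ∀ θ, IsFrame Q x (twF x y σ N ε K H θ) := fun θ => D.frame_twF H θ hkK (hvK θ)
  have hres : ∀ θ, θ ≠ 0 → Res Q g x (twF x y σ N ε K H θ) := fun θ hθ =>
    D.res_twF H θ (by omega) hK hKk hθ (hvK θ) h1
  obtain ⟨A0, hA0, -⟩ := exists_reg_sq (F := F) (K + m) hν
  obtain ⟨s, hs⟩ := isSquare_det_frame hQ (hfr 1) hν g (hres 1 one_ne_zero) hg hA0
    (GeneralLinearGroup.mkOfDetNeZero (Dm 1) (hne 1 one_ne_zero)) rfl
  replace hs : (Dm 1).det = s * s := hs
  rw [hdetD 1 one_ne_zero, one_pow, one_mul] at hs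
  have hs0 : s ≠ 0 := fun h => by
    rw [h, mul_zero, mul_eq_zero] at hs
    rcases hs with h' | h'
    · exact hd h'
    · exact pow_ne_zero _ D.eps_ne h'
  have hdet1 : ∀ θ, θ ^ 2 = (s⁻¹) ^ 2 → (Dm θ).det = 1 := fun θ hθ => by
    have hθ0 : θ ≠ 0 := fun h => by
      rw [h, zero_pow two_ne_zero] at hθ
      exact pow_ne_zero _ (inv_ne_zero hs0) hθ.symm
    rw [hdetD θ hθ0, hθ, mul_assoc, hs]
    field_simp
  obtain ⟨θ, hθ, hgood⟩ : ∃ θ, θ ^ 2 = (s⁻¹) ^ 2 ∧
      (K = 2 → ε = 1 → (D.corner H hK θ).charpoly ≠ (X - C 1) ^ 2) := by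
    by_cases hc : K = 2 ∧ ε = 1
    · have hdet : (D.corner H hK s⁻¹).det = 1 := by
        have := hdet1 _ rfl
        rw [hdetD _ (inv_ne_zero hs0), hc.2, one_pow, mul_one] at this
        rw [hscale _ (inv_ne_zero hs0)]; exact this
      rcases hbad hc.1 hc.2 _ (inv_ne_zero hs0) hdet with h | h
      · exact ⟨_, rfl, fun hK' _ h' => h (trace_of_bad hK' _ h')⟩
      · exact ⟨_, neg_sq _, fun hK' _ h' => h (trace_of_bad hK' _ h')⟩
    · exact ⟨_, rfl, fun h h' => absurd ⟨h, h'⟩ hc⟩
  have hθ0 : θ ≠ 0 := fun h => by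
    rw [h, zero_pow two_ne_zero] at hθ
    exact pow_ne_zero _ (inv_ne_zero hs0) hθ.symm
  obtain ⟨E, hE⟩ := hblocks θ
  have hcert : Cert (K + m) (Dm θ) := by
    refine Cert.of_sim ((Sim.submatrix (Dm θ) e).trans (Sim.of_eq hE)) ?_
    exact cert_block hK2 hν D.eps (hH θ hθ0) E
      (by rw [← hE, det_submatrix_equiv_self]; exact hdet1 θ hθ) hgood
  obtain ⟨A, B, hA, hAs, hBs, hAB⟩ := hcert.exists_com
  exact isCom_frame hQ (hfr θ) hν g (hres θ hθ0) A B hA hAs hBs hAB

section Chain

variable (H : Head Q (kernel Q x y) k ρ)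

theorem row_small {K : ℕ} (hK1 : K ≤ k + 1) (l j : Fin ν) (hl : k ≤ l.val) (hlK : l.val < K)
    (hj : j.val < K) : N l j = 0 := by
  refine D.row l j hl ?_
  by_cases hs : σ l = l
  · exact Or.inr hs
  · left
    intro e
    have h1 := D.high hl
    have h2 : (σ l).val ≠ l.val := fun h => hs (Fin.ext h)
    rw [← e] at h1 h2
    omega

theorem corner_eq {K : ℕ} (hK : K ≤ ν) (hkK : k ≤ K) (hK1 : K ≤ k + 1) (θ : F)
    (hvK : ∀ i, K ≤ i → H.vec θ i = 0) :
    D.corner H hK θ = D.chR H K θ * D.chU hK := by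
  ext i j
  rw [corner, D.blk_low H θ hkK hK hvK (by simp) (by simp), sum_castLE hK, Matrix.mul_apply]
  have hterm : ∀ l : Fin K, D.chR H K θ i l * D.chU hK l j =
      H.core θ i.val l.val * N (Fin.castLE hK l) (Fin.castLE hK j) +
        if l = i then (if i = j ∧ k ≤ i.val then ε else 0) else 0 := fun l => by
    by_cases hl : l.val < k
    · simp only [chR, chU, if_pos hl]
      by_cases hli : l = i
      · subst hli; rw [if_pos rfl, if_neg (fun h => absurd hl (not_lt.2 h.2)), add_zero]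
      · rw [if_neg hli, add_zero]
    · simp only [chR, chU, if_neg hl]
      rw [D.row_small hK1 (Fin.castLE hK l) (Fin.castLE hK j) (not_lt.1 hl) (by simp) (by simp),
        mul_zero, zero_add]
      by_cases hli : l = i
      · subst hli
        rw [if_pos rfl, if_pos rfl]
        by_cases hlj : l = j
        · subst hlj; rw [if_pos rfl, if_pos ⟨rfl, not_lt.1 hl⟩, mul_one]
        · rw [if_neg hlj, if_neg (fun h => hlj h.1), mul_zero]
      · rw [if_neg hli, if_neg (Ne.symm hli), zero_mul]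
  rw [Finset.sum_congr rfl fun l _ => hterm l, Finset.sum_add_distrib, Finset.sum_ite_eq',
    if_pos (Finset.mem_univ _), add_comm]
  congr 1
  simp only [Fin.val_castLE]
  by_cases hij : i = j ∧ k ≤ i.val
  · rw [if_pos hij, if_pos]
    obtain ⟨rfl, hki⟩ := hij
    refine ⟨rfl, hki, ?_⟩
    by_cases hs : σ (Fin.castLE hK i) = Fin.castLE hK i
    · exact Or.inl hs
    · right
      have h1 := D.high (l := Fin.castLE hK i) (by simpa using hki)
      have h2 : (σ (Fin.castLE hK i)).val ≠ i.val := fun h => hs (Fin.ext (by simpa using h))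
      have := i.isLt
      omega
  · rw [if_neg hij, if_neg]
    rintro ⟨h, hki, -⟩
    exact hij ⟨Fin.castLE_injective hK h, hki⟩

theorem chU_upper {K : ℕ} (hK : K ≤ ν) : (D.chU hK).IsUpperTriangular := by
  intro l j h
  have h' : j.val < l.val := h
  simp only [chU]
  split_ifs with h1 h2
  · exact D.tri _ _ (by simp; omega) (by simpa using h')
  · subst h2; omega
  · rfl

theorem chU_det {K : ℕ} (hK : K ≤ ν) : (D.chU hK).det ≠ 0 := by
  rw [det_of_isUpperTriangular (D.chU_upper hK), Finset.prod_ne_zero_iff]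
  intro j _
  simp only [chU]
  split_ifs with h
  · exact D.dia _ (by simpa using h)
  · exact one_ne_zero

theorem chR_scale (H : Head Q (kernel Q x y) k ρ) {K : ℕ} (hk : 0 < k) (θ : F) :
    D.chR H K θ = diagonal (fun i : Fin K => if i.val = 0 then θ else 1) * D.chR H K 1 *
      diagonal (fun i : Fin K => if i.val = 0 then θ else 1) := by
  ext i l
  rw [Matrix.mul_diagonal, Matrix.diagonal_mul]
  simp only [chR]
  by_cases h1 : l.val < k
  · rw [if_pos h1, if_pos h1]; exact H.core_scale θ _ _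
  · rw [if_neg h1, if_neg h1]
    by_cases h2 : i = l
    · rw [if_pos h2, h2, if_neg (show ¬ l.val = 0 by omega)]; simp
    · rw [if_neg h2]; simp

theorem chR_det_scale {K : ℕ} (hk : 0 < k) (hkK : k ≤ K) (θ : F) :
    (D.chR H K θ).det = θ ^ 2 * (D.chR H K 1).det := by
  have hd : (∏ i : Fin K, if i.val = 0 then θ else 1) = θ := by
    rw [Finset.prod_eq_single (⟨0, by omega⟩ : Fin K)]
    · simp
    · intro b _ hb
      rw [if_neg fun h => hb (Fin.ext h)]
    · intro h; exact absurd (Finset.mem_univ _) h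
  rw [D.chR_scale H hk θ, det_mul, det_mul, det_diagonal, hd]
  ring

theorem chR_det {K : ℕ} (hkK : k ≤ K) (hok : H.Ok) : (D.chR H K 1).det ≠ 0 := by
  intro h
  obtain ⟨w, hw0, hw⟩ := Matrix.exists_mulVec_eq_zero_iff.2 h
  refine hw0 ?_
  have row : ∀ i, ∑ l, D.chR H K 1 i l * w l = 0 := fun i => congrFun hw i
  set u : ℕ → F := fun l => if hl : l < K then w ⟨l, hl⟩ else 0 with hu
  have hu' : ∀ l : Fin K, u l.val = w l := fun l => by simp [hu]
  have hlow : ∀ i < k, ∑ l ∈ Finset.range k, H.core 1 i l * u l = 0 := fun i hi => by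
    rw [← row ⟨i, by omega⟩]
    have : ∀ l : Fin K, D.chR H K 1 ⟨i, by omega⟩ l * w l =
        if l.val < k then H.core 1 i l.val * u l.val else 0 := fun l => by
      simp only [chR]
      by_cases hl : l.val < k
      · rw [if_pos hl, if_pos hl, hu']
      · rw [if_neg hl, if_neg hl, if_neg (fun e => hl (by rw [← e]; exact hi)), zero_mul]
    rw [Finset.sum_congr rfl fun l _ => this l, sum_castLE hkK fun l => H.core 1 i l.val * u l.val]
    exact (Fin.sum_univ_eq_sum_range (fun l => H.core 1 i l * u l) k).symm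
  have hz := H.core_ker hok u hlow
  funext i
  by_cases hi : i.val < k
  · rw [← hu']; exact hz _ hi
  · have h1 := row i
    rw [Finset.sum_eq_single i] at h1
    · simp only [chR, if_neg hi, if_true] at h1
      exact (mul_eq_zero.1 h1).resolve_left D.eps_ne
    · intro l _ hl
      simp only [chR]
      split_ifs with h' h''
      · rw [← hu' l, hz _ h', mul_zero]
      · exact absurd h''.symm hl
      · rw [zero_mul]
    · intro h'; exact absurd (Finset.mem_univ _) h'

theorem chain_hess {K : ℕ} (hK : K ≤ ν) (hkK : k ≤ K) (hK1 : K ≤ k + 1) (h10 : H.a10 ≠ 0) {θ : F}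
    (hθ : θ ≠ 0) : Hess (D.chR H K θ * D.chU hK) := by
  have key : ∀ i j : Fin K, j.val + 1 ≤ i.val → (D.chR H K θ * D.chU hK) i j =
      if i.val = j.val + 1 then H.core θ i.val j.val * N (Fin.castLE hK j) (Fin.castLE hK j) else 0 := by
    intro i j hij
    have hj : j.val < k := by have := i.isLt; omega
    rw [Matrix.mul_apply, Finset.sum_eq_single j]
    · simp only [chR, chU, if_pos hj]
      split_ifs with h
      · rfl
      · rw [H.core_far θ (Or.inl (by omega)), zero_mul]
    · intro l _ hl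
      simp only [chR, chU]
      rcases lt_or_gt_of_ne (fun h => hl (Fin.ext h) : l.val ≠ j.val) with h1 | h1
      · rw [if_pos (show l.val < k by omega), if_pos (show l.val < k by omega),
          H.core_far θ (Or.inl (by omega)), zero_mul]
      · by_cases hlk : l.val < k
        · rw [if_pos hlk, if_pos hlk, D.tri (Fin.castLE hK l) (Fin.castLE hK j) (by simpa using hj)
            (by simpa using h1), mul_zero]
        · rw [if_neg hlk, if_neg hlk, if_neg hl, mul_zero]
    · intro h'; exact absurd (Finset.mem_univ _) h'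
  refine ⟨fun i j h => ?_, fun i j h => ?_⟩
  · rw [key i j (by omega), if_neg (by omega)]
  · rw [key i j (by omega), if_pos h]
    have hj : j.val < k := by have := i.isLt; omega
    refine mul_ne_zero ?_ (D.dia _ (by simpa using hj))
    rw [h, H.core_sub]
    split_ifs
    · exact mul_ne_zero h10 hθ
    · exact one_ne_zero

/-- Elements with a chain are commutators. -/
theorem com_chain (hQ : Nondeg Q) (hν : 3 ≤ ν) (hg : g ∈ commutator (O Q)) (hk : 0 < k)
    (h1 : k = 1 → H.v1 = 0) (hok : H.Ok) (h10 : H.a10 ≠ 0)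
    (hbad : k = 1 → N ⟨0, by omega⟩ ⟨1, by omega⟩ ≠ 0) :
    ∃ a ∈ commutator (O Q), ∃ b ∈ commutator (O Q), g = a * b * a⁻¹ * b⁻¹ := by
  have hkν := D.hk
  obtain ⟨K, hK, hkK, hK1, hK2, hK2'⟩ : ∃ K, K ≤ ν ∧ k ≤ K ∧ K ≤ k + 1 ∧ 2 ≤ K ∧ (K = 2 → k = 1) := by
    rcases (show k < ν ∨ k = ν by omega) with h | h
    · exact ⟨k + 1, by omega, by omega, le_rfl, by omega, fun _ => by omega⟩
    · exact ⟨k, by omega, le_rfl, by omega, by omega, fun _ => by omega⟩
  have hvK : ∀ θ i, K ≤ i → H.vec θ i = 0 := fun θ i hi => H.vec_high θ (by omega)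
  refine D.com_block hQ hν hg H hK hK2 (by omega) hvK h1 (fun θ hθ => ?_)
    (d := (D.chR H K 1).det * (D.chU hK).det) (mul_ne_zero (D.chR_det H hkK hok) (D.chU_det hK))
    (fun θ hθ => ?_) (fun hKe hε θ hθ hdet => Or.inl fun htr => ?_)
  · rw [D.corner_eq H hK hkK hK1 θ (hvK θ)]
    exact D.chain_hess H hK hkK hK1 h10 hθ
  · rw [D.corner_eq H hK hkK hK1 θ (hvK θ), det_mul, D.chR_det_scale H hk hkK θ, mul_assoc]
  · obtain rfl := hK2' hKe
    subst hKe hε
    rw [D.corner_eq H hK hkK hK1 θ (hvK θ)] at htr hdet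
    have e10 : N (Fin.castLE hK (1 : Fin 2)) (Fin.castLE hK (0 : Fin 2)) = 0 :=
      D.tri _ _ (by simp) (by simp)
    have h11 : H.a11 = 0 := by rw [H.d1, H.odd odd_one, QuadraticMap.map_zero, neg_zero]
    rw [det_mul, det_fin_two, det_fin_two] at hdet
    rw [Matrix.trace_fin_two] at htr
    simp [Matrix.mul_apply, Fin.sum_univ_two, chR, chU, e10, h11, Head.core00, Head.core01,
      Head.core10, Head.core11] at htr hdet
    refine mul_ne_zero (mul_ne_zero h10 hθ) (hbad rfl) ?_
    rw [show (⟨0, by omega⟩ : Fin ν) = Fin.castLE hK (0 : Fin 2) from rfl,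
      show (⟨1, by omega⟩ : Fin ν) = Fin.castLE hK (1 : Fin 2) from rfl]
    linear_combination htr - hdet

end Chain

end Data

end Cfsg.Agent.H58.OreEven
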