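import Cfsg.Agent.H58.OreOmega.Siegel
import Cfsg.Agent.Orthogonal.Generation

/-!
Coordinates with respect to a frame and the Levi map, in every characteristic.
-/

set_option autoImplicit false
set_option linter.unusedSectionVars false

namespace Cfsg.Agent.H58.OreEven

open Matrix Module
open Cfsg.Agent.Orthogonal Cfsg.Agent.Orthogonal.IsFrame
open Cfsg.Agent.H58.OreOmega (MM star')
open QuadraticMap (polar polar_comm polar_add_left polar_add_right polar_sub_left polar_sub_right)

variable {F V : Type*} [Field F] [AddCommGroup V] [Module F V] {ν : ℕ}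
variable {Q : QuadraticForm F V} {e f : Fin ν → V}

theorem isFrame_symm (h : IsFrame Q e f) : IsFrame Q f e :=
  ⟨h.qf, h.qe, h.fe, h.ff, h.ee⟩

theorem kernel_symm (Q : QuadraticForm F V) (e f : Fin ν → V) :
    kernel Q f e = kernel Q e f := by
  ext x
  rw [mem_kernel, mem_kernel]
  exact and_comm

/-- The linear combination of a family. -/
noncomputable def lc (e : Fin ν → V) : (Fin ν → F) →ₗ[F] V := Fintype.linearCombination F e

theorem lc_apply (e : Fin ν → V) (α : Fin ν → F) : lc e α = ∑ i, α i • e i := rfl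

theorem lc_single (e : Fin ν → V) (i : Fin ν) : lc e (Pi.single i (1 : F)) = e i := by
  simp [lc_apply, Pi.single_apply, ite_smul]

theorem lc_mem (e : Fin ν → V) (α : Fin ν → F) : lc e α ∈ Submodule.span F (Set.range e) :=
  (Submodule.mem_span_range_iff_exists_fun F).2 ⟨α, rfl⟩

theorem exists_lc {x : V} (hx : x ∈ Submodule.span F (Set.range e)) : ∃ α : Fin ν → F, x = lc e α := by
  obtain ⟨α, hα⟩ := (Submodule.mem_span_range_iff_exists_fun F).1 hx
  exact ⟨α, hα.symm⟩

/-- The coordinates `B(x, f i)`. -/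
noncomputable def ce (Q : QuadraticForm F V) (f : Fin ν → V) : V →ₗ[F] (Fin ν → F) :=
  LinearMap.pi fun i => Q.polarBilin.flip (f i)

theorem ce_apply (f : Fin ν → V) (x : V) (i : Fin ν) : ce Q f x i = polar Q x (f i) := rfl

theorem polar_lc_left (α : Fin ν → F) (e : Fin ν → V) (x : V) :
    polar Q (lc e α) x = ∑ i, α i * polar Q (e i) x := by
  rw [lc_apply, ← polarBilin_apply', map_sum, LinearMap.sum_apply]
  exact Finset.sum_congr rfl fun i _ => by
    rw [map_smul, LinearMap.smul_apply, smul_eq_mul, polarBilin_apply']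

theorem polar_lc_right (α : Fin ν → F) (e : Fin ν → V) (x : V) :
    polar Q x (lc e α) = ∑ i, α i * polar Q x (e i) := by
  rw [polar_comm, polar_lc_left]
  exact Finset.sum_congr rfl fun i _ => by rw [polar_comm]

section Frame

variable (h : IsFrame Q e f)
include h

theorem polar_lc_ef (α : Fin ν → F) (i : Fin ν) : polar Q (lc e α) (f i) = α i := by
  simp [polar_lc_left, h.ef]

theorem polar_lc_ee (α : Fin ν → F) (i : Fin ν) : polar Q (lc e α) (e i) = 0 := by
  simp [polar_lc_left, h.ee]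

theorem polar_lc_lc (α β : Fin ν → F) : polar Q (lc e α) (lc f β) = α ⬝ᵥ β := by
  rw [polar_lc_right]
  simp [polar_lc_ef h, dotProduct, mul_comm]

theorem polar_lc_self (α β : Fin ν → F) : polar Q (lc e α) (lc e β) = 0 := by
  rw [polar_lc_right]
  simp [polar_lc_ee h]

theorem qf_lc (α : Fin ν → F) : Q (lc e α) = 0 := by
  have : ∀ s : Finset (Fin ν), Q (∑ i ∈ s, α i • e i) = 0 := fun s => by
    induction s using Finset.induction_on with
    | empty => simp
    | insert a t ha ih =>
      have hp : polar Q (e a) (∑ i ∈ t, α i • e i) = 0 := by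
        rw [← polarBilin_apply', map_sum]
        exact Finset.sum_eq_zero fun i _ => by rw [map_smul, polarBilin_apply', h.ee, smul_zero]
      rw [Finset.sum_insert ha, map_add_polar, qmap_smul, h.qe, ih, polar_smul_left', hp]
      simp
  rw [lc_apply]; exact this _

theorem polar_lc_kernel (α : Fin ν → F) {k : V} (hk : k ∈ kernel Q e f) :
    polar Q (lc e α) k = 0 := by
  rw [polar_lc_left]
  exact Finset.sum_eq_zero fun i _ => by rw [(mem_kernel.1 hk).1 i, mul_zero]

theorem ce_dec (α β : Fin ν → F) {k : V} (hk : k ∈ kernel Q e f) :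
    ce Q f (lc e α + lc f β + k) = α := by
  funext i
  rw [ce_apply, polar_add_left, polar_add_left, polar_lc_ef h, polar_lc_ee (isFrame_symm h),
    polar_comm Q k, (mem_kernel.1 hk).2 i, add_zero, add_zero]

theorem cf_dec (α β : Fin ν → F) {k : V} (hk : k ∈ kernel Q e f) :
    ce Q e (lc e α + lc f β + k) = β := by
  have := ce_dec (isFrame_symm h) β α (k := k) (by rwa [kernel_symm])
  rwa [add_comm (lc f β)] at this

theorem qf_dec (α β : Fin ν → F) {k : V} (hk : k ∈ kernel Q e f) :
    Q (lc e α + lc f β + k) = α ⬝ᵥ β + Q k := by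
  rw [map_add_polar, map_add_polar, qf_lc h, qf_lc (isFrame_symm h), polar_lc_lc h, polar_add_left,
    polar_lc_kernel h α hk, polar_lc_kernel (isFrame_symm h) β (by rwa [kernel_symm])]
  ring

/-- Every vector decomposes. -/
theorem exists_dec (x : V) : ∃ (α β : Fin ν → F) (k : V), k ∈ kernel Q e f ∧
    x = lc e α + lc f β + k := by
  refine ⟨ce Q f x, ce Q e x, x - lc e (ce Q f x) - lc f (ce Q e x),
    mem_kernel.2 ⟨fun i => ?_, fun i => ?_⟩, by abel⟩
  · rw [polar_sub_right, polar_sub_right, polar_comm Q (e i) (lc f _),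
      polar_lc_ef (isFrame_symm h), polar_comm Q (e i) (lc e _), polar_lc_ee h, sub_zero, ce_apply,
      polar_comm Q x, sub_self]
  · rw [polar_sub_right, polar_sub_right, polar_comm Q (f i) (lc e _), polar_lc_ef h,
      polar_comm Q (f i) (lc f _), polar_lc_ee (isFrame_symm h), sub_zero, ce_apply, polar_comm Q x,
      sub_self]

theorem kernel_zero_dec {k : V} (hk : k ∈ kernel Q e f) (α β : Fin ν → F)
    (h0 : lc e α + lc f β + k = 0) : α = 0 ∧ β = 0 ∧ k = 0 := by
  have h1 := ce_dec h α β hk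
  have h2 := cf_dec h α β hk
  rw [h0, map_zero] at h1 h2
  subst h1 h2
  simpa using h0

end Frame

/-- The Levi map as a linear map. -/
noncomputable def leviLin (Q : QuadraticForm F V) (e f : Fin ν → V) (M : GL (Fin ν) F) :
    V →ₗ[F] V :=
  (lc e).comp ((Matrix.mulVecLin M.1).comp (ce Q f)) +
    (lc f).comp ((Matrix.mulVecLin (star' M).1).comp (ce Q e)) +
      (LinearMap.id - (lc e).comp (ce Q f) - (lc f).comp (ce Q e))

theorem leviLin_dec (h : IsFrame Q e f) (M : GL (Fin ν) F) (α β : Fin ν → F) {k : V}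
    (hk : k ∈ kernel Q e f) : leviLin Q e f M (lc e α + lc f β + k) =
      lc e (M.1 *ᵥ α) + lc f ((star' M).1 *ᵥ β) + k := by
  simp only [leviLin, LinearMap.add_apply, LinearMap.sub_apply, LinearMap.comp_apply,
    LinearMap.id_apply, Matrix.mulVecLin_apply, ce_dec h α β hk, cf_dec h α β hk]
  abel

theorem leviLin_isom (h : IsFrame Q e f) (M : GL (Fin ν) F) (x : V) :
    Q (leviLin Q e f M x) = Q x := by
  obtain ⟨α, β, k, hk, rfl⟩ := exists_dec h x
  rw [leviLin_dec h M α β hk, qf_dec h _ _ hk, qf_dec h _ _ hk]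
  congr 1
  show M.1 *ᵥ α ⬝ᵥ (M⁻¹).1ᵀ *ᵥ β = α ⬝ᵥ β
  rw [dotProduct_mulVec, vecMul_transpose, mulVec_mulVec, Units.inv_mul, one_mulVec]

variable [FiniteDimensional F V]

/-- The Levi factor of a frame. -/
noncomputable def levi (hQ : Nondeg Q) (h : IsFrame Q e f) : GL (Fin ν) F →* O Q where
  toFun M := hQ.ofLinear (leviLin Q e f M) (leviLin_isom h M)
  map_one' := O.ext_app fun x => by
    obtain ⟨α, β, k, hk, rfl⟩ := exists_dec h x
    rw [Nondeg.ofLinear_app, leviLin_dec h _ α β hk]
    simp [star', one_app]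
  map_mul' A B := O.ext_app fun x => by
    obtain ⟨α, β, k, hk, rfl⟩ := exists_dec h x
    rw [Subgroup.coe_mul, mul_app, Nondeg.ofLinear_app, Nondeg.ofLinear_app, Nondeg.ofLinear_app,
      leviLin_dec h _ α β hk, leviLin_dec h _ α β hk, leviLin_dec h _ _ _ hk]
    simp [star', mulVec_mulVec, transpose_mul, _root_.mul_inv_rev]

variable (hQ : Nondeg Q) (h : IsFrame Q e f)

theorem levi_dec (M : GL (Fin ν) F) (α β : Fin ν → F) {k : V} (hk : k ∈ kernel Q e f) :
    ((levi hQ h M : O Q) : V ≃ₗ[F] V) (lc e α + lc f β + k) =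
      lc e (M.1 *ᵥ α) + lc f ((star' M).1 *ᵥ β) + k := by
  show ((hQ.ofLinear (leviLin Q e f M) (leviLin_isom h M) : O Q) : V ≃ₗ[F] V) _ = _
  rw [Nondeg.ofLinear_app, leviLin_dec h M α β hk]

theorem levi_lc (M : GL (Fin ν) F) (α : Fin ν → F) :
    ((levi hQ h M : O Q) : V ≃ₗ[F] V) (lc e α) = lc e (M.1 *ᵥ α) := by
  simpa using levi_dec hQ h M α 0 (kernel Q e f).zero_mem

theorem levi_lc' (M : GL (Fin ν) F) (β : Fin ν → F) :
    ((levi hQ h M : O Q) : V ≃ₗ[F] V) (lc f β) = lc f ((star' M).1 *ᵥ β) := by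
  simpa using levi_dec hQ h M 0 β (kernel Q e f).zero_mem

theorem levi_kernel (M : GL (Fin ν) F) {k : V} (hk : k ∈ kernel Q e f) :
    ((levi hQ h M : O Q) : V ≃ₗ[F] V) k = k := by
  simpa using levi_dec hQ h M 0 0 hk

theorem levi_symm (M : GL (Fin ν) F) : levi hQ (isFrame_symm h) (star' M) = levi hQ h M := by
  refine O.ext_app fun x => ?_
  obtain ⟨α, β, k, hk, rfl⟩ := exists_dec h x
  rw [levi_dec hQ h M α β hk, add_comm (lc e α), levi_dec hQ (isFrame_symm h) _ β α
    (by rwa [kernel_symm]), add_comm (lc f _)]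
  congr 2

end Cfsg.Agent.H58.OreEven
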