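import Cfsg.Agent.Orthogonal.Eichler

/-!
An isometry keeping every totally singular line pair orthogonal to its image is a scalar.
-/

set_option autoImplicit false
set_option linter.unusedSectionVars false

namespace Cfsg.Agent.H58.OreEven

open Module
open Cfsg.Agent.Orthogonal
open QuadraticMap (polar polar_comm polar_add_left polar_add_right polar_sub_left polar_sub_right)

variable {F W : Type*} [Field F] [Finite F] [AddCommGroup W] [Module F W] [FiniteDimensional F W]
variable {Q : QuadraticForm F W}

theorem singular_fixed (hQ : Nondeg Q) {h : W →ₗ[F] W} (hh : ∀ x, Q (h x) = Q x)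
    (hs : ∀ u v, Q u = 0 → Q v = 0 → polar Q u v = 0 → polar Q (h u) v = 0)
    {u : W} (hu : Q u = 0) (hu0 : u ≠ 0) : ∃ a : F, h u = a • u := by
  obtain ⟨f, hf, huf⟩ := hQ.exists_partner hu0 hu
  refine ⟨polar Q (h u) f, ?_⟩
  set a := polar Q (h u) f
  set w := h u - a • u with hw
  have h1 : polar Q (h u) u = 0 := hs u u hu hu (by rw [polar_self', hu, mul_zero])
  have hwu : polar Q u w = 0 := by
    rw [hw, polar_sub_right, polar_smul_right', polar_self', hu, polar_comm Q u, h1]; ring
  have hwf : polar Q f w = 0 := by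
    rw [hw, polar_sub_right, polar_smul_right', polar_comm Q f u, huf, polar_comm Q f, mul_one,
      sub_self]
  have hQw : Q w = 0 := by
    rw [hw, qmap_sub, qmap_smul, polar_smul_right', hh, hu, h1]; ring
  set P := perp Q (Submodule.span F {u, f})
  have hwP : w ∈ P := (mem_perp_span_pair Q).2 ⟨hwu, hwf⟩
  by_contra hne
  have hw0 : (⟨w, hwP⟩ : P) ≠ 0 := fun h0 => hne (sub_eq_zero.1 (congrArg Subtype.val h0))
  obtain ⟨v, hv, hwv⟩ := (hQ.nondeg_hyperbolic_perp hu hf huf).exists_partner hw0 hQw
  rw [polar_restr] at hwv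
  have huv : polar Q u (v : W) = 0 := ((mem_perp_span_pair Q).1 v.2).1
  have h2 := hs u v hu hv huv
  rw [show h u = w + a • u by rw [hw]; abel, polar_add_left, polar_smul_left', hwv, huv] at h2
  simp at h2

theorem exists_scalar (hQ : Nondeg Q) (h3 : 3 ≤ finrank F W) {h : W →ₗ[F] W}
    (hh : ∀ x, Q (h x) = Q x)
    (hs : ∀ u v, Q u = 0 → Q v = 0 → polar Q u v = 0 → polar Q (h u) v = 0) :
    ∃ ε : F, ε * ε = 1 ∧ ∀ x, h x = ε • x := by
  have hB : ∀ x y, polar Q (h x) (h y) = polar Q x y := fun x y => by
    simp only [polar, ← map_add, hh]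
  obtain ⟨u, hu0, hu⟩ := hQ.exists_singular h3
  obtain ⟨f, hf, huf⟩ := hQ.exists_partner hu0 hu
  have hf0 : f ≠ 0 := fun h0 => by rw [h0, QuadraticMap.polar_zero_right] at huf; exact zero_ne_one huf
  obtain ⟨a, ha⟩ := singular_fixed hQ hh hs hu hu0
  obtain ⟨b, hb⟩ := singular_fixed hQ hh hs hf hf0
  have hab : a * b = 1 := by
    have := hB u f
    rwa [ha, hb, polar_smul_left', polar_smul_right', huf, mul_one] at this
  have ha0 : a ≠ 0 := left_ne_zero_of_mul (hab.trans_ne one_ne_zero)
  have hb0 : b ≠ 0 := right_ne_zero_of_mul (hab.trans_ne one_ne_zero)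
  set P := perp Q (Submodule.span F {u, f}) with hP
  have hPn := hQ.nondeg_hyperbolic_perp hu hf huf
  have hPdim := hQ.finrank_hyperbolic_perp hu hf huf
  have hne : ∀ z ∈ P, Q z ≠ 0 → a = b ∧ h z = a • z := by
    intro z hz hQz
    obtain ⟨hzu, hzf⟩ := (mem_perp_span_pair Q).1 hz
    set w := u - Q z • f + z with hw
    have hQw : Q w = 0 := by
      rw [hw, map_add_polar, qmap_sub, qmap_smul, polar_smul_right', polar_sub_left,
        polar_smul_left', hu, hf, huf, hzu, hzf]
      ring
    have hw0 : w ≠ 0 := fun h0 => by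
      have := congrArg (fun x => polar Q x f) h0
      simp only [hw, polar_add_left, polar_sub_left, polar_smul_left', polar_self', hf, huf,
        polar_comm Q z f, hzf, QuadraticMap.polar_zero_left] at this
      exact one_ne_zero (by linear_combination this : (1 : F) = 0)
    obtain ⟨l, hl⟩ := singular_fixed hQ hh hs hQw hw0
    have hhz : h z = (l - a) • u + (Q z * (b - l)) • f + l • z := by
      have : h w = a • u - (Q z * b) • f + h z := by
        rw [hw, map_add, map_sub, map_smul, ha, hb, smul_smul]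
      rw [hl, hw] at this
      rw [show h z = l • (u - Q z • f + z) - a • u + (Q z * b) • f by rw [this]; abel]
      module
    have e1 := hB z u
    have e2 := hB z f
    rw [hhz, ha] at e1
    rw [hhz, hb] at e2
    simp only [polar_add_left, polar_smul_left', polar_smul_right', polar_self', hu, hf, huf,
      polar_comm Q f u, polar_comm Q z u, polar_comm Q z f, hzu, hzf, mul_zero, zero_add, add_zero,
      mul_one] at e1 e2
    have hlb : l = b := by
      rcases mul_eq_zero.1 e1 with h' | h'
      · exact absurd h' ha0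
      · exact ((sub_eq_zero.1 ((mul_eq_zero.1 h').resolve_left hQz))).symm
    have hla : l = a := sub_eq_zero.1 ((mul_eq_zero.1 e2).resolve_left hb0)
    refine ⟨hla.symm.trans hlb, ?_⟩
    rw [hhz, hla, ← hlb, hla, sub_self, mul_zero]
    simp
  obtain ⟨z0, hz0P, hz0⟩ : ∃ z ∈ P, Q z ≠ 0 := by
    have : Nontrivial P := Module.nontrivial_of_finrank_pos (R := F) (M := P) (by rw [hP]; omega)
    obtain ⟨x, hx⟩ := exists_ne (0 : P)
    obtain ⟨t, ht⟩ := exists_anisotropic hPn hx
    exact ⟨t, t.2, ht⟩
  obtain ⟨haeb, -⟩ := hne z0 hz0P hz0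
  have hall : ∀ z ∈ P, h z = a • z := by
    intro z hz
    by_cases hQz : Q z = 0
    swap
    · exact (hne z hz hQz).2
    by_cases hz0' : z = 0
    · simp [hz0']
    obtain ⟨hzu, hzf⟩ := (mem_perp_span_pair Q).1 hz
    obtain ⟨l, hl⟩ := singular_fixed hQ hh hs hQz hz0'
    have hQuz : Q (u + z) = 0 := by rw [map_add_polar, hu, hQz, hzu]; ring
    have huz : u + z ≠ 0 := fun h0 => by
      have := congrArg (fun x => polar Q x f) h0
      simp only [polar_add_left, huf, polar_comm Q z f, hzf, add_zero,
        QuadraticMap.polar_zero_left] at this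
      exact one_ne_zero this
    obtain ⟨μ, hμ⟩ := singular_fixed hQ hh hs hQuz huz
    rw [map_add, ha, hl, smul_add] at hμ
    have hμa : a = μ := by
      have := congrArg (fun x => polar Q x f) hμ
      simp only [polar_add_left, polar_smul_left', huf, polar_comm Q z f, hzf, mul_zero, add_zero,
        mul_one] at this
      exact this
    rw [← hμa] at hμ
    rw [hl]
    exact add_left_cancel hμ
  refine ⟨a, by rw [← hab, haeb], fun x => ?_⟩
  obtain ⟨s, hs', t, ht, rfl⟩ := Submodule.mem_sup.1
    (show x ∈ Submodule.span F {u, f} ⊔ P by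
      rw [(hQ.isCompl_perp (nondeg_hyperbolic_plane hu hf huf)).sup_eq_top]; trivial)
  obtain ⟨c, d, rfl⟩ := Submodule.mem_span_pair.1 hs'
  rw [map_add, map_add, map_smul, map_smul, ha, hb, hall t ht, ← haeb]
  module

end Cfsg.Agent.H58.OreEven
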