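import Cfsg.Agent.H58.OreOmega.KrylovFrame
import Cfsg.Agent.H58.OreEven.Levi
import Cfsg.Agent.H58.OreEven.Scalar

/-!
The normal form: a chain of singles, orthogonal pairs, a scalar part and a small kernel.
-/

set_option autoImplicit false
set_option linter.unusedSectionVars false

namespace Cfsg.Agent.H58.OreEven

open Module
open Cfsg.Agent.Orthogonal Cfsg.Agent.Orthogonal.IsFrame
open Cfsg.Agent.H58.OreOmega (frame_append exists_part Part polar_sum_left polar_sum_right)
open QuadraticMap (polar polar_comm polar_add_left polar_add_right polar_sub_left polar_sub_right)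

variable {F V : Type*} [Field F] [Finite F] [AddCommGroup V] [Module F V] [FiniteDimensional F V]
variable {Q : QuadraticForm F V}

/-- The state after the singles, while pairs are being split off. -/
structure P2 (g : O Q) (k L : ℕ) (x y : Fin L → V) (σ : Fin L → Fin L) (N : Fin L → Fin L → F) :
    Prop where
  frame : IsFrame Q x y
  hk : k ≤ L
  inv : ∀ l, σ (σ l) = l
  low : ∀ l : Fin L, l.val < k → σ l = l
  high : ∀ l : Fin L, k ≤ l.val → σ l ≠ l
  col : ∀ j, (g : V ≃ₗ[F] V) (x j) = lc y fun l => N l j
  tri : ∀ l j : Fin L, j.val < k → j.val < l.val → N l j = 0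
  dia : ∀ j : Fin L, j.val < k → N j j ≠ 0
  row : ∀ l j : Fin L, k ≤ l.val → j ≠ σ l → N l j = 0
  pair : ∀ l, σ l ≠ l → N l (σ l) ≠ 0 ∧ N (σ l) l = -N l (σ l)
  ker : ∀ w ∈ kernel Q x y, ∀ i, polar Q ((g : V ≃ₗ[F] V) w) (y i) = 0
  sing : ∀ u ∈ kernel Q x y, Q u = 0 → polar Q ((g : V ≃ₗ[F] V) u) u = 0
  cross : ∀ u ∈ kernel Q x y, Q u = 0 → ∀ l : Fin L, k ≤ l.val →
    polar Q ((g : V ≃ₗ[F] V) u) (x l) = 0

set_option maxHeartbeats 1000000 in
theorem exists_p2 (g : O Q) : ∃ (k L : ℕ) (x y : Fin L → V) (σ : Fin L → Fin L)
    (N : Fin L → Fin L → F), P2 g k L x y σ N ∧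
      ∀ u ∈ kernel Q x y, ∀ v ∈ kernel Q x y, Q u = 0 → Q v = 0 → polar Q u v = 0 →
        polar Q ((g : V ≃ₗ[F] V) u) v = 0 := by
  obtain ⟨k, x, y, ⟨hfr, hcol, hker⟩, hsing⟩ := exists_part g
  choose c hc hcd hct using hcol
  suffices ∀ (d L : ℕ) (x y : Fin L → V) (σ : Fin L → Fin L) (N : Fin L → Fin L → F),
      P2 g k L x y σ N → finrank F V ≤ 2 * L + d →
      ∃ (k L : ℕ) (x y : Fin L → V) (σ : Fin L → Fin L) (N : Fin L → Fin L → F), P2 g k L x y σ N ∧
        ∀ u ∈ kernel Q x y, ∀ v ∈ kernel Q x y, Q u = 0 → Q v = 0 → polar Q u v = 0 →
          polar Q ((g : V ≃ₗ[F] V) u) v = 0 from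
    this (finrank F V) k x y id (fun l j => c j l)
      { frame := hfr
        hk := le_rfl
        inv := fun _ => rfl
        low := fun _ _ => rfl
        high := fun l hl => absurd l.isLt (by omega)
        col := hc
        tri := fun l j _ h => hct j l h
        dia := fun j _ => hcd j
        row := fun l j hl => absurd l.isLt (by omega)
        pair := fun l hl => absurd rfl hl
        ker := hker
        sing := hsing
        cross := fun u _ _ l hl => absurd l.isLt (by omega) } (by omega)
  clear hsing hker hct hcd hc c hfr x y
  intro d
  induction d using Nat.strong_induction_on with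
  | _ d ih =>
    intro L x y σ N hP hd
    set G : V ≃ₗ[F] V := (g : V ≃ₗ[F] V) with hG
    by_cases hK : ∀ u ∈ kernel Q x y, ∀ v ∈ kernel Q x y, Q u = 0 → Q v = 0 → polar Q u v = 0 →
        polar Q (G u) v = 0
    · exact ⟨k, L, x, y, σ, N, hP, hK⟩
    push Not at hK
    obtain ⟨u, hu, v, hv, hQu, hQv, huv, hβ⟩ := hK
    have hfr := hP.frame
    set β := polar Q (G u) v with hβdef
    have hvu : polar Q (G v) u = -β := by
      have h1 := hP.sing (u + v) (Submodule.add_mem _ hu hv)
        (by rw [map_add_polar, hQu, hQv, huv]; ring)
      rw [map_add, polar_add_left, polar_add_right, polar_add_right, hP.sing u hu hQu,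
        hP.sing v hv hQv, ← hG, ← hβdef] at h1
      linear_combination h1
    set cu : Fin L → F := fun i => polar Q (x i) (G u) with hcu
    set cv : Fin L → F := fun i => polar Q (x i) (G v) with hcv
    set pu := G u - lc y cu with hpu
    set pv := G v - lc y cv with hpv
    have proj : ∀ w ∈ kernel Q x y,
        G w - lc y (fun i => polar Q (x i) (G w)) ∈ kernel Q x y := fun w hw => by
      refine mem_kernel.2 ⟨fun i => ?_, fun i => ?_⟩
      · rw [polar_sub_right, polar_comm Q (x i) (lc y _), polar_lc_ef (isFrame_symm hfr), sub_self]
      · rw [polar_sub_right, polar_comm Q (y i) (lc y _), polar_lc_ee (isFrame_symm hfr),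
          polar_comm Q (y i), hP.ker w hw i, sub_zero]
    have hly : ∀ w ∈ kernel Q x y, ∀ c' : Fin L → F, polar Q (lc y c') w = 0 := fun w hw c' =>
      polar_lc_kernel (isFrame_symm hfr) c' (by rwa [kernel_symm])
    have hgly : ∀ w ∈ kernel Q x y, ∀ c' : Fin L → F, polar Q (G w) (lc y c') = 0 :=
      fun w hw c' => by
        rw [polar_lc_right]
        exact Finset.sum_eq_zero fun i _ => by rw [hP.ker w hw i, mul_zero]
    set yu := (-β⁻¹) • pv with hyu
    set yv := β⁻¹ • pu with hyv
    have hpuk : pu ∈ kernel Q x y := proj u hu
    have hpvk : pv ∈ kernel Q x y := proj v hv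
    have hyuk : yu ∈ kernel Q x y := Submodule.smul_mem _ _ hpvk
    have hyvk : yv ∈ kernel Q x y := Submodule.smul_mem _ _ hpuk
    have hQp : ∀ w ∈ kernel Q x y, Q (G w - lc y (fun i => polar Q (x i) (G w))) = Q w :=
      fun w hw => by
        rw [qmap_sub, qf_lc (isFrame_symm hfr), hgly w hw, hG, O.map_app]
        ring
    have hpp : polar Q pu pv = 0 := by
      rw [hpu, hpv, polar_sub_left, polar_sub_right, polar_sub_right, hgly u hu,
        polar_comm Q (lc y cu) (G v), hgly v hv, polar_lc_self (isFrame_symm hfr), hG, O.polar_app,
        huv]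
      ring
    have puu : polar Q pu u = 0 := by
      rw [hpu, polar_sub_left, hly u hu, hP.sing u hu hQu, sub_zero]
    have puv : polar Q pu v = β := by rw [hpu, polar_sub_left, hly v hv, sub_zero]
    have pvu : polar Q pv u = -β := by rw [hpv, polar_sub_left, hly u hu, sub_zero, hvu]
    have pvv : polar Q pv v = 0 := by
      rw [hpv, polar_sub_left, hly v hv, hP.sing v hv hQv, sub_zero]
    have hQpu : Q pu = 0 := (hQp u hu).trans hQu
    have hQpv : Q pv = 0 := (hQp v hv).trans hQv
    have hpair : IsFrame Q ![u, v] ![yu, yv] := by
      refine ⟨?_, ?_, ?_, ?_, ?_⟩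
      · intro i; fin_cases i <;> simp [hQu, hQv]
      · intro i; fin_cases i <;> simp [hyu, hyv, qmap_smul, hQpu, hQpv]
      all_goals
        intro i j
        fin_cases i <;> fin_cases j <;>
          simp [hyu, hyv, polar_smul_left', polar_smul_right', polar_self', qmap_smul, hQu, hQv, hQpu, hQpv,
            huv, polar_comm Q v u, polar_comm Q u pu, polar_comm Q u pv, polar_comm Q v pu,
            polar_comm Q v pv, puu, puv, pvu, pvv, hpp, polar_comm Q pv pu, hβ]
    have hfr' := frame_append hfr hpair (fun i => by fin_cases i <;> assumption)
      (fun i => by fin_cases i <;> assumption)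
    have hsub : ∀ w ∈ kernel Q (Fin.append x ![u, v]) (Fin.append y ![yu, yv]),
        w ∈ kernel Q x y ∧ polar Q u w = 0 ∧ polar Q v w = 0 := fun w hw => by
      obtain ⟨h1, h2⟩ := mem_kernel.1 hw
      exact ⟨mem_kernel.2 ⟨fun i => by simpa using h1 (Fin.castAdd 2 i),
        fun i => by simpa using h2 (Fin.castAdd 2 i)⟩,
        by simpa using h1 (Fin.natAdd L 0), by simpa using h1 (Fin.natAdd L 1)⟩
    have hlc : ∀ (a : Fin L → F) (b : Fin 2 → F),
        lc (Fin.append y ![yu, yv]) (Fin.append a b) = lc y a + (b 0 • yu + b 1 • yv) := fun a b => by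
      simp [lc_apply, Fin.sum_univ_add, Fin.sum_univ_two]
    set σ' : Fin (L + 2) → Fin (L + 2) :=
      Fin.append (fun l => Fin.castAdd 2 (σ l)) ![Fin.natAdd L 1, Fin.natAdd L 0] with hσ'
    set N' : Fin (L + 2) → Fin (L + 2) → F := fun l j =>
      Fin.append (fun j0 => Fin.append (fun l0 => N l0 j0) (fun _ : Fin 2 => 0) l)
        ![Fin.append cu ![0, β] l, Fin.append cv ![-β, 0] l] j with hN'
    refine ih (d - 4) ?_ (L + 2) (Fin.append x ![u, v]) (Fin.append y ![yu, yv]) σ' N' ?_ (by omega)
    · have h1 := Submodule.finrank_le (hspan (F := F) (Fin.append x ![u, v]) (Fin.append y ![yu, yv]))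
      rw [hfr'.finrank_hspan] at h1
      omega
    exact
    { frame := hfr'
      hk := by have := hP.hk; omega
      inv := fun l => by
        induction l using Fin.addCases with
        | left l => simp [hσ', hP.inv]
        | right l => fin_cases l <;> simp [hσ']
      low := fun l hl => by
        induction l using Fin.addCases with
        | left l => simp [hσ', hP.low l (by simpa using hl)]
        | right l => exfalso; have := hP.hk; simp at hl; omega
      high := fun l hl => by
        induction l using Fin.addCases with
        | left l => simpa [hσ'] using hP.high l (by simpa using hl)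
        | right l => fin_cases l <;> simp [hσ', Fin.ext_iff]
      col := fun j => by
        induction j using Fin.addCases with
        | left j =>
          have e : (fun l => N' l (Fin.castAdd 2 j)) =
              Fin.append (fun l0 => N l0 j) (fun _ : Fin 2 => 0) := by funext l; simp [hN']
          rw [e, hlc, Fin.append_left, hP.col]
          simp
        | right j =>
          fin_cases j
          · have e : (fun l => N' l (Fin.natAdd L 0)) = Fin.append cu ![0, β] := by
              funext l; simp [hN']
            show G _ = _
            simp only [Fin.append_right, Fin.zero_eta, Fin.mk_one]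
            rw [e, hlc]
            simp [hyv, hpu, smul_smul, hβ]
          · have e : (fun l => N' l (Fin.natAdd L 1)) = Fin.append cv ![-β, 0] := by
              funext l; simp [hN']
            show G _ = _
            simp only [Fin.append_right, Fin.zero_eta, Fin.mk_one]
            rw [e, hlc]
            simp [hyu, hpv, smul_smul, hβ]
      tri := fun l j hj hlt => by
        induction j using Fin.addCases with
        | left j =>
          induction l using Fin.addCases with
          | left l => simpa [hN'] using hP.tri l j (by simpa using hj) (by simpa using hlt)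
          | right l => simp [hN']
        | right j => exfalso; have := hP.hk; simp at hj; omega
      dia := fun j hj => by
        induction j using Fin.addCases with
        | left j => simpa [hN'] using hP.dia j (by simpa using hj)
        | right j => exfalso; have := hP.hk; simp at hj; omega
      row := fun l j hl hne => by
        induction l using Fin.addCases with
        | left l =>
          have hl' : k ≤ l.val := by simpa using hl
          induction j using Fin.addCases with
          | left j =>
            simpa [hN'] using hP.row l j hl' (fun e => hne (by simp [hσ', e]))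
          | right j =>
            have e1 : cu l = 0 := by
              simp only [hcu, hG]; rw [polar_comm]; exact hP.cross u hu hQu l hl'
            have e2 : cv l = 0 := by
              simp only [hcv, hG]; rw [polar_comm]; exact hP.cross v hv hQv l hl'
            fin_cases j <;> simp [hN', e1, e2]
        | right l =>
          induction j using Fin.addCases with
          | left j => simp [hN']
          | right j => fin_cases l <;> fin_cases j <;> simp [hN', hσ'] at hne ⊢
      pair := fun l hl => by
        induction l using Fin.addCases with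
        | left l => simpa [hN', hσ'] using hP.pair l (fun e => hl (by simp [hσ', e]))
        | right l => fin_cases l <;> simp [hN', hσ', hβ]
      ker := fun w hw i => by
        obtain ⟨hwk, hwu, hwv⟩ := hsub w hw
        induction i using Fin.addCases with
        | left i => simpa using hP.ker w hwk i
        | right i =>
          fin_cases i
          · simp only [Fin.append_right, Fin.zero_eta, Matrix.cons_val_zero]
            rw [hyu, polar_smul_right', hpv, polar_sub_right, hgly w hwk, hG, O.polar_app,
              polar_comm Q w, hwv]
            ring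
          · simp only [Fin.append_right, Fin.mk_one, Matrix.cons_val_one, Matrix.cons_val_fin_one]
            rw [hyv, polar_smul_right', hpu, polar_sub_right, hgly w hwk, hG, O.polar_app,
              polar_comm Q w, hwu]
            ring
      sing := fun w hw => hP.sing w (hsub w hw).1
      cross := fun w hw hQw l hl => by
        obtain ⟨hwk, hwu, hwv⟩ := hsub w hw
        induction l using Fin.addCases with
        | left l => simpa using hP.cross w hwk hQw l (by simpa using hl)
        | right l =>
          have key : ∀ z ∈ kernel Q x y, Q z = 0 → polar Q z w = 0 →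
              polar Q (G z) w = 0 → polar Q (G w) z = 0 := fun z hz hQz hzw hgz => by
            have h1 := hP.sing (z + w) (Submodule.add_mem _ hz hwk)
              (by rw [map_add_polar, hQz, hQw, hzw]; ring)
            rw [map_add, polar_add_left, polar_add_right, polar_add_right, hP.sing z hz hQz,
              hP.sing w hwk hQw, ← hG, hgz] at h1
            linear_combination h1
          obtain ⟨-, h2⟩ := mem_kernel.1 hw
          have hu1 : polar Q yu w = 0 := by simpa using h2 (Fin.natAdd L 0)
          have hv1 : polar Q yv w = 0 := by simpa using h2 (Fin.natAdd L 1)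
          rw [hyu, polar_smul_left', mul_eq_zero] at hu1
          rw [hyv, polar_smul_left', mul_eq_zero] at hv1
          have hu2 := hv1.resolve_left (inv_ne_zero hβ)
          have hv2 := hu1.resolve_left (neg_ne_zero.2 (inv_ne_zero hβ))
          rw [hpu, polar_sub_left, hly w hwk, sub_zero] at hu2
          rw [hpv, polar_sub_left, hly w hwk, sub_zero] at hv2
          fin_cases l
          · simpa using key u hu hQu hwu hu2
          · simpa using key v hv hQv hwv hv2 }

/-- The normal form of an isometry. -/
structure NF (g : O Q) (ν : ℕ) where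
  k : ℕ
  x : Fin ν → V
  y : Fin ν → V
  σ : Fin ν → Fin ν
  N : Fin ν → Fin ν → F
  ε : F
  r : kernel Q x y →ₗ[F] kernel Q x y
  frame : IsFrame Q x y
  hk : k ≤ ν
  inv : ∀ l, σ (σ l) = l
  low : ∀ l : Fin ν, l.val < k → σ l = l
  col : ∀ j, (g : V ≃ₗ[F] V) (x j) =
    (if k ≤ j.val ∧ σ j = j then ε • x j else 0) + lc y fun l => N l j
  tri : ∀ l j : Fin ν, j.val < k → j.val < l.val → N l j = 0
  dia : ∀ j : Fin ν, j.val < k → N j j ≠ 0
  row : ∀ l j : Fin ν, k ≤ l.val → (j ≠ σ l ∨ σ l = l) → N l j = 0
  pair : ∀ l, σ l ≠ l → N l (σ l) ≠ 0 ∧ N (σ l) l = -N l (σ l)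
  kerE : ∀ a : kernel Q x y, ∃ c : Fin ν → F,
    (g : V ≃ₗ[F] V) a = (r a : V) + lc y c ∧ ∀ l : Fin ν, k ≤ l.val → σ l = l → c l = 0
  riso : ∀ a, Q (r a : V) = Q (a : V)
  eps : ε * ε = 1
  noScalar : (∀ l : Fin ν, k ≤ l.val → σ l ≠ l) → ε = 1
  scalar : (∃ l : Fin ν, k ≤ l.val ∧ σ l = l) → ∀ a, r a = ε • a
  scalarY : ∀ j : Fin ν, k ≤ j.val → σ j = j → ∃ c : Fin ν → F,
    (g : V ≃ₗ[F] V) (y j) = ε • y j + lc y c ∧ ∀ l : Fin ν, k ≤ l.val → σ l = l → c l = 0

set_option maxHeartbeats 1000000 in
/-- The normal form exists, with a kernel of dimension at most two. -/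
theorem exists_nf (hQ : Nondeg Q) (g : O Q) {n : ℕ} (hn : finrank F V = 2 * n) :
    ∃ ν, ∃ P : NF g ν, finrank F (kernel Q P.x P.y) + 2 * ν = 2 * n ∧
      finrank F (kernel Q P.x P.y) ≤ 2 ∧ (finrank F (kernel Q P.x P.y) = 0 → P.ε = 1) := by
  obtain ⟨k, L, x, y, σ, N, hP, hterm⟩ := exists_p2 g
  set G : V ≃ₗ[F] V := (g : V ≃ₗ[F] V) with hG
  have hfr := hP.frame
  set W := kernel Q x y with hW
  have hWn := hfr.nondeg_kernel hQ
  have hly : ∀ w ∈ W, ∀ c' : Fin L → F, polar Q (lc y c') w = 0 := fun w hw c' =>
    polar_lc_kernel (isFrame_symm hfr) c' (by rwa [kernel_symm])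
  let h : W →ₗ[F] W := ((G : V →ₗ[F] V) - (lc y).comp ((ce Q x).comp (G : V →ₗ[F] V))).comp
    W.subtype |>.codRestrict W fun w => by
      refine mem_kernel.2 ⟨fun i => ?_, fun i => ?_⟩
      · simp only [LinearMap.comp_apply, LinearMap.sub_apply, Submodule.subtype_apply]
        rw [polar_sub_right, polar_comm Q (x i) (lc y _), polar_lc_ef (isFrame_symm hfr), ce_apply,
          polar_comm Q (x i)]
        exact sub_self _
      · simp only [LinearMap.comp_apply, LinearMap.sub_apply, Submodule.subtype_apply]
        rw [polar_sub_right, polar_comm Q (y i) (lc y _), polar_lc_ee (isFrame_symm hfr),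
          polar_comm Q (y i), LinearEquiv.coe_coe, hP.ker w w.2 i, sub_zero]
  have hh : ∀ w : W, G w = (h w : V) + lc y (ce Q x (G w)) := fun w => by
    show _ = G w - lc y (ce Q x (G w)) + _
    abel
  have hiso : ∀ w : W, Q (h w : V) = Q (w : V) := fun w => by
    have hz : polar Q (G w) (lc y (ce Q x (G w))) = 0 := by
      rw [polar_lc_right]
      exact Finset.sum_eq_zero fun i _ => by rw [hP.ker w w.2 i, mul_zero]
    rw [show (h w : V) = G w - lc y (ce Q x (G w)) from rfl, qmap_sub, qf_lc (isFrame_symm hfr), hz,
      hG, O.map_app]
    ring
  have hdim : finrank F W + 2 * L = 2 * n := by rw [← hn]; exact hfr.finrank_kernel hQ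
  by_cases hsmall : finrank F W ≤ 2
  · exact ⟨L,
      { k := k, x := x, y := y, σ := σ, N := N, ε := 1, r := h, frame := hfr, hk := hP.hk
        inv := hP.inv, low := hP.low
        col := fun j => by
          rw [if_neg fun hj => hP.high j hj.1 hj.2, zero_add]; exact hP.col j
        tri := hP.tri, dia := hP.dia
        row := fun l j hl hor => hP.row l j hl (hor.resolve_right (hP.high l hl))
        pair := hP.pair
        kerE := fun a => ⟨_, hh a, fun l hl hs => absurd hs (hP.high l hl)⟩
        riso := hiso
        eps := one_mul 1
        noScalar := fun _ => rfl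
        scalar := fun ⟨l, hl, hs⟩ => absurd hs (hP.high l hl)
        scalarY := fun l hl hs => absurd hs (hP.high l hl) },
      hdim, hsmall, fun _ => rfl⟩
  push Not at hsmall
  obtain ⟨ε, hε, hscal⟩ := exists_scalar hWn (hsmall : 3 ≤ finrank F W) (h := h) (fun w => hiso w)
    (fun u v hu hv huv => by
      rw [polar_restr] at huv ⊢
      rw [show (h u : V) = G u - lc y (ce Q x (G u)) from rfl, polar_sub_left, hly v v.2, sub_zero]
      exact hterm u u.2 v v.2 hu hv huv)
  obtain ⟨s, e', f', hef, haniso⟩ := hWn.exists_frame
  have hK2 : finrank F (kernel (restr Q W) e' f') ≤ 2 :=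
    finrank_le_two_of_aniso (hef.nondeg_kernel hWn) haniso
  have hs' : finrank F (kernel (restr Q W) e' f') + 2 * s = finrank F W := hef.finrank_kernel hWn
  obtain ⟨m, hm⟩ : ∃ m, finrank F W = 2 * m + 2 := ⟨n - L - 1, by omega⟩
  have hmle : m ≤ s := by omega
  set e : Fin m → V := fun i => (e' (Fin.castLE hmle i) : V) with he
  set f : Fin m → V := fun i => (f' (Fin.castLE hmle i) : V) with hf
  have hefV : IsFrame Q e f :=
    ⟨fun i => hef.qe _, fun i => hef.qf _,
      fun i j => by
        simp only [he, hf]; rw [← polar_restr, hef.ef]; simp,
      fun i j => by simp only [he]; rw [← polar_restr]; exact hef.ee _ _,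
      fun i j => by simp only [hf]; rw [← polar_restr]; exact hef.ff _ _⟩
  have hall := frame_append hfr hefV (fun i => (e' _).2) (fun i => (f' _).2)
  set X := Fin.append x e with hX
  set Y := Fin.append y f with hY
  have hsub : ∀ w ∈ kernel Q X Y, w ∈ W := fun w hw => by
    obtain ⟨h1, h2⟩ := mem_kernel.1 hw
    exact mem_kernel.2 ⟨fun i => by simpa [hX] using h1 (Fin.castAdd m i),
      fun i => by simpa [hY] using h2 (Fin.castAdd m i)⟩
  have hlc : ∀ (a : Fin L → F), lc Y (Fin.append a fun _ : Fin m => 0) = lc y a := fun a => by
    simp [lc_apply, hY, Fin.sum_univ_add]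
  set N' : Fin (L + m) → Fin (L + m) → F := fun l j =>
    Fin.append (fun l0 => Fin.append (fun j0 => N l0 j0) (fun j0 => ce Q x (G (e j0)) l0) j)
      (fun _ => 0) l with hN'
  set σ' : Fin (L + m) → Fin (L + m) :=
    Fin.append (fun l => Fin.castAdd m (σ l)) (fun l => Fin.natAdd L l) with hσ'
  have hkL := hP.hk
  refine ⟨L + m,
    { k := k, x := X, y := Y, σ := σ', N := N', ε := ε, r := ε • LinearMap.id, frame := hall
      hk := by omega
      inv := fun l => by
        induction l using Fin.addCases with
        | left l => simp [hσ', hP.inv]
        | right l => simp [hσ']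
      low := fun l hl => by
        induction l using Fin.addCases with
        | left l => simp [hσ', hP.low l (by simpa using hl)]
        | right l => exfalso; simp at hl; omega
      col := fun j => by
        induction j using Fin.addCases with
        | left j =>
          have e1 : (fun l => N' l (Fin.castAdd m j)) = Fin.append (fun l => N l j) fun _ => 0 := by
            funext l
            induction l using Fin.addCases <;> simp [hN']
          rw [e1, hlc, if_neg, zero_add, hX, Fin.append_left]
          · exact hP.col j
          · rintro ⟨h1, h2⟩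
            exact hP.high j (by simpa using h1) (by simpa [hσ'] using h2)
        | right j =>
          have e1 : (fun l => N' l (Fin.natAdd L j)) =
              Fin.append (ce Q x (G (e j))) fun _ => 0 := by
            funext l
            induction l using Fin.addCases <;> simp [hN']
          rw [e1, hlc, if_pos ⟨by simp; omega, by simp [hσ']⟩, hX, Fin.append_right]
          have := hh (e' (Fin.castLE hmle j))
          rw [hscal, Submodule.coe_smul] at this
          exact this
      tri := fun l j hj hlt => by
        induction j using Fin.addCases with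
        | left j =>
          induction l using Fin.addCases with
          | left l => simpa [hN'] using hP.tri l j (by simpa using hj) (by simpa using hlt)
          | right l => simp [hN']
        | right j => exfalso; simp at hj; omega
      dia := fun j hj => by
        induction j using Fin.addCases with
        | left j => simpa [hN'] using hP.dia j (by simpa using hj)
        | right j => exfalso; simp at hj; omega
      row := fun l j hl hor => by
        induction l using Fin.addCases with
        | left l =>
          have hl' : k ≤ l.val := by simpa using hl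
          induction j using Fin.addCases with
          | left j =>
            simpa [hN'] using hP.row l j hl' fun hjl => by
              rcases hor with h' | h'
              · exact h' (by simp [hσ', hjl])
              · exact hP.high l hl' (by simpa [hσ'] using h')
          | right j =>
            simp only [hN', Fin.append_left, Fin.append_right, ce_apply]
            exact hP.cross _ (e' _).2 (hefV.qe j) l hl'
        | right l => simp [hN']
      pair := fun l hl => by
        induction l using Fin.addCases with
        | left l => simpa [hN', hσ'] using hP.pair l (fun e1 => hl (by simp [hσ', e1]))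
        | right l => exact absurd (by simp [hσ']) hl
      kerE := fun a => ⟨Fin.append (ce Q x (G a)) fun _ => 0, by
          rw [hlc]
          have := hh ⟨a, hsub a a.2⟩
          rw [hscal, Submodule.coe_smul] at this
          exact this,
        fun l hl hs => by
          induction l using Fin.addCases with
          | left l => exact absurd (by simpa [hσ'] using hs) (hP.high l (by simpa using hl))
          | right l => simp⟩
      riso := fun a => by
        show Q (ε • (a : V)) = _
        rw [qmap_smul, pow_two, hε, one_mul]
      eps := hε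
      noScalar := fun h0 => absurd (by simp [hσ']) (h0 (Fin.natAdd L ⟨0, by omega⟩) (by simp; omega))
      scalar := fun _ a => rfl
      scalarY := fun j hj hjs => by
        induction j using Fin.addCases with
        | left j => exact absurd (by simpa [hσ'] using hjs) (hP.high j (by simpa using hj))
        | right j =>
          refine ⟨Fin.append (ce Q x (G (f j))) fun _ => 0, ?_, fun l hl hs => ?_⟩
          · rw [hlc, hY, Fin.append_right]
            have := hh (f' (Fin.castLE hmle j))
            rw [hscal, Submodule.coe_smul] at this
            exact this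
          · induction l using Fin.addCases with
            | left l => exact absurd (by simpa [hσ'] using hs) (hP.high l (by simpa using hl))
            | right l => simp }, ?_, ?_, ?_⟩
  · show finrank F (kernel Q X Y) + _ = _
    have := hall.finrank_kernel hQ
    omega
  · show finrank F (kernel Q X Y) ≤ _
    have := hall.finrank_kernel hQ
    omega
  · intro h0
    have h1 := hall.finrank_kernel hQ
    have h2 : finrank F (kernel Q X Y) = 0 := h0
    omega

end Cfsg.Agent.H58.OreEven
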