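import Cfsg.Agent.H58.OreEven.Rad
import Cfsg.Agent.H58.OreEven.NF
import Cfsg.Agent.Orthogonal.Dickson

/-!
The kernel action of the normal form and the parity of the number of singles.
-/

set_option autoImplicit false
set_option linter.unusedSectionVars false

namespace Cfsg.Agent.H58.OreEven

open Matrix Module
open Cfsg.Agent.Orthogonal Cfsg.Agent.Orthogonal.IsFrame
open Cfsg.Agent.H58.OreOmega (MM Reg star')
open QuadraticMap (polar polar_comm polar_add_left polar_add_right polar_sub_left polar_sub_right)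

variable {F W : Type*} [Field F] [AddCommGroup W] [Module F W] [FiniteDimensional F W]

/-- Isometries of a plane: trivial, a reflection, or fixed point free. -/
theorem plane_cases {R : QuadraticForm F W} (hR : Nondeg R) (hd : finrank F W = 0 ∨ finrank F W = 2)
    (r : W →ₗ[F] W) (hr : ∀ a, R (r a) = R a) :
    r = LinearMap.id ∨
      (finrank F W = 2 ∧ ∃ v, R v ≠ 0 ∧ ∀ a, r a = a - ((R v)⁻¹ * polar R v a) • v) ∨
      (finrank F W = 2 ∧ Function.Bijective (r - LinearMap.id : W →ₗ[F] W)) := by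
  set d := r - LinearMap.id with hdd
  have hsum := LinearMap.finrank_range_add_finrank_ker d
  by_cases h0 : finrank F (LinearMap.range d) = 0
  · left
    rw [Submodule.finrank_eq_zero, LinearMap.range_eq_bot] at h0
    exact sub_eq_zero.1 h0
  have horth : ∀ x ∈ LinearMap.ker d, ∀ a, polar R x (d a) = 0 := fun x hx a => by
    have hx' : r x = x := sub_eq_zero.1 hx
    rw [hdd, LinearMap.sub_apply, LinearMap.id_apply, polar_sub_right]
    nth_rw 1 [← hx']
    simp only [polar, ← map_add, hr, sub_self]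
  rcases (show finrank F (LinearMap.ker d) = 0 ∨ finrank F (LinearMap.ker d) = 1 by omega)
    with hk | hk
  · have h2 : finrank F W = 2 := by omega
    refine Or.inr (Or.inr ⟨h2, ?_⟩)
    have hinj : Function.Injective d := LinearMap.ker_eq_bot.1 (Submodule.finrank_eq_zero.1 hk)
    exact ⟨hinj, LinearMap.injective_iff_surjective.1 hinj⟩
  · by_cases h2 : finrank F W = 2
    swap
    · exfalso; omega
    refine Or.inr (Or.inl ⟨h2, ?_⟩)
    have hr1 : finrank F (LinearMap.range d) = 1 := by omega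
    obtain ⟨⟨v, hv⟩, hv0, hspan⟩ := finrank_eq_one_iff'.1 hr1
    have hl : ∀ a, ∃ l : F, r a = a - l • v := fun a => by
      obtain ⟨c, hc⟩ := hspan ⟨d a, LinearMap.mem_range_self d a⟩
      refine ⟨-c, ?_⟩
      have : c • v = d a := congrArg Subtype.val hc
      rw [neg_smul, sub_neg_eq_add, this, hdd, LinearMap.sub_apply, LinearMap.id_apply]
      abel
    choose l hl using hl
    have hkey : ∀ a, l a ≠ 0 → l a * R v = polar R v a := fun a ha => by
      have h := hr a
      rw [hl, qmap_sub, qmap_smul, polar_smul_right', polar_comm R a v] at h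
      exact mul_left_cancel₀ ha (by linear_combination h)
    obtain ⟨a0, ha0⟩ : ∃ a, l a ≠ 0 := by
      by_contra hne
      push Not at hne
      refine h0 ?_
      rw [Submodule.finrank_eq_zero, LinearMap.range_eq_bot]
      ext a
      simp [hdd, hl a, hne a]
    have hv' : v ≠ 0 := fun h => hv0 (Subtype.ext h)
    have hzero : ∀ a, l a = 0 → polar R v a = 0 := fun a ha => by
      obtain ⟨b, hb⟩ := hv
      rw [← hb, polar_comm]
      exact horth a (by rw [LinearMap.mem_ker, hdd, LinearMap.sub_apply, LinearMap.id_apply, hl, ha,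
        zero_smul, sub_zero, sub_self]) b
    have hQv : R v ≠ 0 := fun h => hv' (hR v fun a => by
      by_cases ha : l a = 0
      · exact hzero a ha
      · rw [← hkey a ha, h, mul_zero])
    refine ⟨v, hQv, fun a => ?_⟩
    rw [hl]
    congr 2
    by_cases ha : l a = 0
    · rw [hzero a ha, ha, mul_zero]
    · rw [← hkey a ha, mul_comm (l a), ← mul_assoc, inv_mul_cancel₀ hQv, one_mul]

variable {V : Type*} [AddCommGroup V] [Module F V] [FiniteDimensional F V] [Fintype F]
variable {Q : QuadraticForm F V}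

/-- The product of the reflections swapping the pairs of an index set. -/
theorem exists_swap {ν : ℕ} {x y : Fin ν → V} (hQ : Nondeg Q) (hgen : reflGroup Q = ⊤)
    (h : IsFrame Q x y) (S : Finset (Fin ν)) :
    ∃ s : O Q, dickson hQ hgen s = (-1) ^ S.card ∧
      (∀ l ∈ S, (s : V ≃ₗ[F] V) (y l) = x l) ∧ (∀ l, l ∉ S → (s : V ≃ₗ[F] V) (x l) = x l) ∧
      ∀ a ∈ kernel Q x y, (s : V ≃ₗ[F] V) a = a := by
  classical
  induction S using Finset.induction_on with
  | empty => exact ⟨1, by simp, by simp, fun l _ => rfl, fun a _ => rfl⟩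
  | insert m T hm ih =>
    obtain ⟨s, h1, h2, h3, h4⟩ := ih
    set v := x m - y m with hv
    have hQv : Q v = -1 := by
      rw [hv, qmap_sub, h.qe, h.qf, h.ef, if_pos rfl]; ring
    have hfix : ∀ w, polar Q (x m) w = 0 → polar Q (y m) w = 0 →
        (rO Q v : V ≃ₗ[F] V) w = w := fun w a b =>
      rO_fix (by rw [hv, polar_sub_left, a, b, sub_self])
    have hx : ∀ l, l ≠ m → (rO Q v : V ≃ₗ[F] V) (x l) = x l := fun l hl =>
      hfix _ (h.ee _ _) (by rw [h.fe, if_neg (Ne.symm hl)])
    have hy : (rO Q v : V ≃ₗ[F] V) (y m) = x m := by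
      have hsw : (rO Q v : V ≃ₗ[F] V) (x m) = y m :=
        rO_sub_swap (by rw [h.qe, h.qf]) (by rw [← hv, hQv]; exact neg_ne_zero.2 one_ne_zero)
      rw [← hsw, ← mul_app, ← Subgroup.coe_mul, rO_mul_self]; rfl
    refine ⟨s * rO Q v, ?_, fun l hl => ?_, fun l hl => ?_, fun a ha => ?_⟩
    · rw [map_mul, h1, dickson_rO hQ hgen (by rw [hQv]; exact neg_ne_zero.2 one_ne_zero),
        Finset.card_insert_of_notMem hm, pow_succ]
    · rw [Subgroup.coe_mul, mul_app]
      rcases Finset.mem_insert.1 hl with rfl | hlT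
      · rw [hy, h3 _ hm]
      · have hne : l ≠ m := fun e => hm (e ▸ hlT)
        rw [hfix _ (by rw [h.ef, if_neg (Ne.symm hne)]) (h.ff _ _), h2 l hlT]
    · rw [Finset.mem_insert, not_or] at hl
      rw [Subgroup.coe_mul, mul_app, hx l hl.1, h3 l hl.2]
    · rw [Subgroup.coe_mul, mul_app,
        hfix a ((mem_kernel.1 ha).1 m) ((mem_kernel.1 ha).2 m), h4 a ha]

variable {g : O Q} {ν : ℕ}

/-- The number of singles is even unless the kernel action is a reflection. -/
theorem nf_parity (hQ : Nondeg Q) (hgen : reflGroup Q = ⊤) (P : NF g ν) (hν : 3 ≤ ν)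
    (hg : dickson hQ hgen g = 1) {A : GL (Fin ν) F} (hA : Reg A)
    (hd : finrank F (kernel Q P.x P.y) = 0 ∨ finrank F (kernel Q P.x P.y) = 2) :
    (P.r = LinearMap.id ∧ Even P.k) ∨
      (finrank F (kernel Q P.x P.y) = 2 ∧ Odd P.k ∧ ∃ v : kernel Q P.x P.y, Q (v : V) ≠ 0 ∧
        ∀ a, P.r a = a - ((Q (v : V))⁻¹ * polar Q (v : V) (a : V)) • v) ∨
      (finrank F (kernel Q P.x P.y) = 2 ∧ Even P.k ∧
        Function.Bijective (P.r - LinearMap.id : kernel Q P.x P.y →ₗ[F] kernel Q P.x P.y)) := by
  classical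
  set K := kernel Q P.x P.y with hK
  have hKn : Nondeg (restr Q K) := P.frame.nondeg_kernel hQ
  -- the indices carrying a `y`
  set S : Finset (Fin ν) := Finset.univ.filter fun l => ¬ (P.k ≤ l.val ∧ P.σ l = l) with hS
  obtain ⟨s, hs1, hs2, hs3, hs4⟩ := exists_swap hQ hgen P.frame S
  have hcard : ((-1 : ℤˣ) ^ S.card) = (-1) ^ P.k := by
    rw [← Finset.card_filter_add_card_filter_not (s := S) (fun l : Fin ν => l.val < P.k), pow_add]
    have e1 : (S.filter fun l : Fin ν => l.val < P.k).card = P.k := by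
      rw [show S.filter (fun l : Fin ν => l.val < P.k) =
          Finset.univ.map (Fin.castLEEmb P.hk) by
        ext l
        simp only [hS, Finset.mem_filter, Finset.mem_univ, true_and, Finset.mem_map,
          Fin.castLEEmb_apply]
        constructor
        · intro hl; exact ⟨⟨l.val, hl.2⟩, rfl⟩
        · rintro ⟨i, rfl⟩
          exact ⟨fun hh => absurd hh.1 (by simp), by simp⟩, Finset.card_map, Finset.card_univ,
        Fintype.card_fin]
    have e2 : (-1 : ℤˣ) ^ (S.filter fun l : Fin ν => ¬ l.val < P.k).card = 1 := by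
      rw [← Finset.prod_const]
      refine Finset.prod_involution (fun l _ => P.σ l) (fun _ _ => by simp)
        (fun l hl _ => ?_) (fun l hl => ?_) (fun l _ => P.inv l)
      · simp only [hS, Finset.mem_filter, Finset.mem_univ, true_and] at hl
        exact fun e => hl.1 ⟨by omega, e⟩
      · simp only [hS, Finset.mem_filter, Finset.mem_univ, true_and] at hl ⊢
        have hσ : P.σ (P.σ l) ≠ P.σ l := fun e => hl.1 ⟨by omega, by
          rw [P.inv] at e; exact e.symm⟩
        exact ⟨fun hh => hσ hh.2, fun hh => hσ (P.low _ hh)⟩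
    rw [e1, e2, mul_one]
  -- `s g` preserves the span of `x`
  set z0 : O Q := s * g with hz0
  set Nh : MM ν F := fun l j => P.N l j + if l = j ∧ P.k ≤ j.val ∧ P.σ j = j then P.ε else 0 with hNh
  have hsy : ∀ c : Fin ν → F, (∀ l, l ∉ S → c l = 0) →
      (s : V ≃ₗ[F] V) (lc P.y c) = lc P.x c := fun c hc => by
    rw [lc_apply, lc_apply, map_sum]
    refine Finset.sum_congr rfl fun l _ => ?_
    by_cases hl : l ∈ S
    · rw [map_smul, hs2 l hl]
    · simp [hc l hl]
  have hnS : ∀ l, l ∉ S → P.k ≤ l.val ∧ P.σ l = l := fun l hl => by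
    simpa [hS] using hl
  have hz0x : ∀ j, (z0 : V ≃ₗ[F] V) (P.x j) = lc P.x fun l => Nh l j := fun j => by
    have hn0 : ∀ l, l ∉ S → P.N l j = 0 := fun l hl =>
      P.row l j (hnS l hl).1 (Or.inr (hnS l hl).2)
    rw [hz0, Subgroup.coe_mul, mul_app, P.col, map_add, hsy _ hn0]
    by_cases hsc : P.k ≤ j.val ∧ P.σ j = j
    · rw [if_pos hsc, map_smul, hs3 j (by simp [hS, hsc]),
        show (fun l => Nh l j) = Pi.single j P.ε + fun l => P.N l j by
          funext l; simp [hNh, hsc, Pi.single_apply, add_comm],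
        map_add, show lc P.x (Pi.single j P.ε) = P.ε • P.x j by
          simp [lc_apply, Pi.single_apply, ite_smul]]
    · rw [if_neg hsc, map_zero, zero_add]
      congr 1
      funext l
      simp only [hNh]
      rw [if_neg fun hh => hsc hh.2, add_zero]
  have hz0lc : ∀ α, (z0 : V ≃ₗ[F] V) (lc P.x α) = lc P.x (Nh *ᵥ α) := fun α => by
    rw [lc_apply, map_sum]
    simp only [map_smul, hz0x]
    simp only [← map_smul, ← map_sum]
    congr 1
    funext l
    simp [Finset.sum_apply, mulVec, dotProduct, mul_comm]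
  have hxinj : Function.Injective (lc (F := F) P.x) := fun α β hab => by
    funext i; rw [← polar_lc_ef P.frame α i, hab, polar_lc_ef P.frame]
  have hNdet : Nh.det ≠ 0 := fun h0 => by
    obtain ⟨w, hw0, hw⟩ := Matrix.exists_mulVec_eq_zero_iff.2 h0
    refine hw0 (hxinj ((z0 : V ≃ₗ[F] V).injective ?_))
    rw [hz0lc, hw, map_zero, map_zero]
  set L := levi hQ P.frame (GeneralLinearGroup.mkOfDetNeZero Nh hNdet) with hL
  have hLd : dickson hQ hgen L = 1 := by
    have := congrArg (Abelianization.lift (dickson hQ hgen))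
      (levi_cls hQ P.frame hν (GeneralLinearGroup.mkOfDetNeZero Nh hNdet))
    rw [Abelianization.lift_apply_of, Abelianization.lift_apply_of, map_mul] at this
    rw [hL, this]
    have hq : ∀ c : F, c ≠ 0 → Q (P.x ⟨0, by omega⟩ + c • P.y ⟨0, by omega⟩) ≠ 0 := fun c hc => by
      rw [map_add_polar, qmap_smul, polar_smul_right', P.frame.qe, P.frame.qf, P.frame.ef,
        if_pos rfl]
      simpa using hc
    rw [dickson_rO hQ hgen (by simpa using hq 1 one_ne_zero), dickson_rO hQ hgen (hq (GeneralLinearGroup.mkOfDetNeZero Nh hNdet).1.det hNdet),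
      neg_mul_neg, one_mul]
  set z : O Q := L⁻¹ * z0 with hz
  have hzx : ∀ α, (z : V ≃ₗ[F] V) (lc P.x α) = lc P.x α := fun α => by
    rw [hz, Subgroup.coe_mul, mul_app, hz0lc]
    have : ((L : O Q) : V ≃ₗ[F] V) (lc P.x α) = lc P.x (Nh *ᵥ α) := levi_lc hQ P.frame _ α
    rw [← this, ← mul_app, ← Subgroup.coe_mul, inv_mul_cancel]; rfl
  let rK : O (restr Q K) := hKn.ofLinear P.r fun a => P.riso a
  have hrK : ∀ a : K, (rK : K ≃ₗ[F] K) a = P.r a := fun a => Nondeg.ofLinear_app hKn _ _ a
  set E := extendO hQ hKn rK with hE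
  have hxperp : ∀ α, lc P.x α ∈ perp Q K := fun α a ha => by
    rw [polar_comm]; exact polar_lc_kernel P.frame α ha
  have hw : z * E⁻¹ ∈ rad Q P.y P.x := by
    have hEx : ∀ α, ((E⁻¹ : O Q) : V ≃ₗ[F] V) (lc P.x α) = lc P.x α := fun α => by
      rw [hE, ← map_inv]; exact extendO_app_perp hQ hKn _ (hxperp α)
    refine ⟨fun i => ?_, fun a ha => ?_⟩
    · rw [Subgroup.coe_mul, mul_app, ← lc_single (F := F) P.x i, hEx, hzx]
    · rw [kernel_symm] at ha
      set b : K := ((rK⁻¹ : O (restr Q K)) : K ≃ₗ[F] K) ⟨a, ha⟩ with hb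
      have hrb : (P.r b : V) = a := by
        rw [← hrK, hb, ← mul_app, ← Subgroup.coe_mul, mul_inv_cancel]; rfl
      have hEa : ((E⁻¹ : O Q) : V ≃ₗ[F] V) a = b := by
        rw [hE, ← map_inv]; exact extendO_app hQ hKn _ ⟨a, ha⟩
      obtain ⟨c, hc, hc0⟩ := P.kerE b
      have hz0b : (z0 : V ≃ₗ[F] V) b = a + lc P.x c := by
        rw [hz0, Subgroup.coe_mul, mul_app, hc, map_add, hsy c (fun l hl =>
          hc0 l (hnS l hl).1 (hnS l hl).2), hs4 _ (P.r b).2, hrb]
      refine ⟨(GeneralLinearGroup.mkOfDetNeZero Nh hNdet)⁻¹.1 *ᵥ c, ?_⟩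
      rw [Subgroup.coe_mul, mul_app, hEa, hz, Subgroup.coe_mul, mul_app, hz0b, hL, ← map_inv, map_add,
        levi_kernel hQ P.frame _ ha, levi_lc]
  have hsplit : dickson hQ hgen E = (-1) ^ P.k := by
    have h1 : dickson hQ hgen (z * E⁻¹) = 1 :=
      Abelianization.commutator_subset_ker (dickson hQ hgen) (rad_le' hQ P.frame hA hw)
    rw [hz, hz0, map_mul, map_mul, map_mul, map_inv, map_inv, hLd, hs1, hg, hcard, inv_one,
      one_mul, mul_one, mul_inv_eq_one] at h1
    exact h1.symm
  have heven : ∀ {j : ℕ}, (1 : ℤˣ) = (-1) ^ j → Even j := fun {j} hj => by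
    by_contra h
    rw [Nat.not_even_iff_odd.1 h |>.neg_one_pow] at hj
    exact absurd hj (by decide)
  rcases plane_cases hKn hd P.r (fun a => P.riso a) with h | ⟨h2, v, hv, hra⟩ | ⟨h2, hb⟩
  · refine Or.inl ⟨h, heven ?_⟩
    rw [← hsplit, hE, show rK = 1 from O.ext_app fun a => by rw [hrK, h]; rfl, map_one, map_one]
  · refine Or.inr (Or.inl ⟨h2, ?_, v, hv, fun a => ?_⟩)
    · by_contra hodd
      rw [Nat.not_odd_iff_even] at hodd
      have hr1 : rK = rO (restr Q K) v := O.ext_app fun a => by rw [hrK, hra, rO_app]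
      rw [hE, hr1, extendO_rO, dickson_rO hQ hgen (show Q (v : V) ≠ 0 from hv), hodd.neg_one_pow] at hsplit
      exact absurd hsplit (by decide)
    · rw [hra, restr_apply, polar_restr]
  · refine Or.inr (Or.inr ⟨h2, heven ?_, hb⟩)
    have hfix : fixSpace E = hspan (F := F) P.x P.y := by
      refine le_antisymm (fun w hw => ?_) (Submodule.span_le.2 ?_)
      · obtain ⟨h', hh', a, ha, rfl⟩ := Submodule.mem_sup.1
          (show w ∈ hspan (F := F) P.x P.y ⊔ K by
            rw [(P.frame.isCompl_kernel hQ).sup_eq_top]; trivial)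
        have hh'' : h' ∈ perp Q K := fun b hb' => by
          rw [polar_comm]; exact (mem_kernel.1 hb' |> fun q => by
            obtain ⟨c', rfl⟩ := (Submodule.mem_span_range_iff_exists_fun F).1 hh'
            rw [Fintype.sum_sum_type, polar_add_left, ← lc_apply, ← lc_apply]
            simp [polar_lc_left, q.1, q.2])
        rw [mem_fixSpace, map_add, hE, extendO_app_perp hQ hKn _ hh'',
          show a = ((⟨a, ha⟩ : K) : V) from rfl, extendO_app hQ hKn, hrK] at hw
        have ha0 : (⟨a, ha⟩ : K) = 0 := hb.1 (by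
          rw [map_zero, LinearMap.sub_apply, LinearMap.id_apply, sub_eq_zero]
          exact Subtype.ext (add_left_cancel hw))
        rw [show a = 0 from congrArg Subtype.val ha0, add_zero]
        exact hh'
      · rintro _ ⟨i | i, rfl⟩
        · rw [SetLike.mem_coe, mem_fixSpace, hE]
          exact extendO_app_perp hQ hKn _ (fun a ha => by
            show polar Q a (P.x i) = 0
            rw [polar_comm]; exact (mem_kernel.1 ha).1 i)
        · rw [SetLike.mem_coe, mem_fixSpace, hE]
          exact extendO_app_perp hQ hKn _ (fun a ha => by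
            show polar Q a (P.y i) = 0
            rw [polar_comm]; exact (mem_kernel.1 ha).2 i)
    have hk := P.frame.finrank_kernel hQ
    rw [← hsplit, dickson_apply, dicksonSign, hfix, P.frame.finrank_hspan]
    exact (Even.neg_one_pow (show Even _ by
      rw [Nat.even_iff]
      show (finrank F V + 2 * ν) % 2 = 0
      rw [← hK] at hk
      omega)).symm

end Cfsg.Agent.H58.OreEven
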