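import Cfsg.Agent.H58.OreEven.Block
import Cfsg.Agent.H58.OreEven.Parity

/-!
The shapes of the kernel action: trivial, a reflection, fixed point free.
-/

set_option autoImplicit false
set_option linter.unusedSectionVars false
set_option linter.unusedSimpArgs false
set_option linter.unusedVariables false

namespace Cfsg.Agent.H58.OreEven

open Matrix Module
open Cfsg.Agent.Orthogonal Cfsg.Agent.Orthogonal.IsFrame
open Cfsg.Agent.H58.OreOmega (MM Reg)
open QuadraticMap (polar polar_comm polar_add_left polar_add_right polar_sub_left polar_sub_right)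

variable {F V : Type*} [Field F] [AddCommGroup V] [Module F V] [FiniteDimensional F V]
variable {Q : QuadraticForm F V}

/-- The kernel action of a normal form as a plain function. -/
noncomputable def nfRho {g : O Q} {ν : ℕ} (P : NF g ν) : V → V := by
  classical
  exact fun a => if h : a ∈ kernel Q P.x P.y then (P.r ⟨a, h⟩ : V) else 0

theorem nfRho_apply {g : O Q} {ν : ℕ} (P : NF g ν) (a : kernel Q P.x P.y) :
    nfRho P (a : V) = (P.r a : V) := by
  simp only [nfRho, dif_pos a.2, Subtype.coe_eta]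

theorem NF.data {g : O Q} {ν : ℕ} (P : NF g ν) :
    Data g P.k P.x P.y P.σ P.N P.ε (nfRho P) where
  frame := P.frame
  hk := P.hk
  inv := P.inv
  low := P.low
  col := P.col
  tri := P.tri
  dia := P.dia
  row := P.row
  pair := P.pair
  kerE := fun a ha => by
    rw [show a = ((⟨a, ha⟩ : kernel Q P.x P.y) : V) from rfl, nfRho_apply]
    exact P.kerE ⟨a, ha⟩
  eps := P.eps

namespace Data

variable {ν : ℕ} {g : O Q} {k : ℕ} {x y : Fin ν → V} {σ : Fin ν → Fin ν}
  {N : Fin ν → Fin ν → F} {ε : F} {ρ : V → V}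

theorem kernel_perm (π : Equiv.Perm (Fin ν)) :
    kernel Q (x ∘ π) (y ∘ π) = kernel Q x y := by
  ext a
  simp only [mem_kernel, Function.comp_apply]
  exact ⟨fun h => ⟨fun i => by simpa using h.1 (π.symm i), fun i => by simpa using h.2 (π.symm i)⟩,
    fun h => ⟨fun i => h.1 _, fun i => h.2 _⟩⟩

variable (D : Data g k x y σ N ε ρ)
include D

/-- Renumbering the indices after the singles. -/
theorem perm (π : Equiv.Perm (Fin ν)) (hπ : ∀ l : Fin ν, l.val < k → π l = l) :
    Data g k (x ∘ π) (y ∘ π) (fun l => π.symm (σ (π l))) (fun l j => N (π l) (π j)) ε ρ := by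
  have hge : ∀ l : Fin ν, k ≤ l.val → k ≤ (π l).val := fun l hl => by
    by_contra h
    have := π.injective (hπ (π l) (by omega))
    rw [this] at h
    exact h hl
  have hlcy : ∀ c : Fin ν → F, lc (y ∘ π) (fun l => c (π l)) = lc y c := fun c => by
    rw [lc_apply, lc_apply]
    exact Equiv.sum_comp π fun l => c l • y l
  have hfix : ∀ l, π.symm (σ (π l)) = l ↔ σ (π l) = π l := fun l => Equiv.symm_apply_eq π
  refine
  { frame := ⟨fun i => D.frame.qe _, fun i => D.frame.qf _, fun i j => ?_, fun i j => D.frame.ee _ _,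
      fun i j => D.frame.ff _ _⟩
    hk := D.hk
    inv := fun l => by simp [D.inv]
    low := fun l hl => (hfix l).2 (D.low _ (by rw [hπ l hl]; exact hl))
    col := fun j => ?_
    tri := fun l j hj hlt => ?_
    dia := fun j hj => by rw [hπ j hj]; exact D.dia j hj
    row := fun l j hl hor => ?_
    pair := fun l hl => ?_
    kerE := fun a ha => ?_
    eps := D.eps }
  · rw [Function.comp_apply, Function.comp_apply, D.frame.ef]
    simp
  · rw [Function.comp_apply, D.col, hlcy fun l => N l (π j)]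
    congr 1
    by_cases h : k ≤ (π j).val ∧ σ (π j) = π j
    · rw [if_pos h, if_pos ⟨not_lt.1 fun hj => by rw [hπ j hj] at h; omega, (hfix j).2 h.2⟩]
    · rw [if_neg h, if_neg fun h' => h ⟨hge j h'.1, (hfix j).1 h'.2⟩]
  · rw [hπ j hj]
    refine D.tri _ _ hj ?_
    by_cases hl : l.val < k
    · rw [hπ l hl]; exact hlt
    · have := hge l (by omega); omega
  · refine D.row _ _ (hge l hl) (hor.imp (fun h h' => h ?_) fun h => (hfix l).1 h)
    rw [← h', Equiv.symm_apply_apply]
  · have := D.pair (π l) fun h => hl ((hfix l).2 h)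
    simpa using this
  · rw [kernel_perm] at ha
    obtain ⟨c, hc, hc0⟩ := D.kerE a ha
    exact ⟨fun l => c (π l), by rw [hlcy]; exact hc,
      fun l hl hs => hc0 _ (hge l hl) ((hfix l).1 hs)⟩

variable [Fintype F]

/-- Trivial action on the kernel. -/
theorem com_id (hQ : Nondeg Q) (hν : 3 ≤ ν) (hg : g ∈ commutator (O Q))
    (hρ : ∀ a ∈ kernel Q x y, ρ a = a) (hk : Even k) (hε : ε = 1) :
    ∃ a ∈ commutator (O Q), ∃ b ∈ commutator (O Q), g = a * b * a⁻¹ * b⁻¹ := by
  let H : Head Q (kernel Q x y) k ρ :=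
    { v0 := 0, v1 := 0, a00 := 0, a01 := -1, a10 := 1, a11 := 0
      m0 := zero_mem _, m1 := zero_mem _
      d0 := by simp, d1 := by simp
      skew := by simp
      sol := fun a ha => ⟨0, 0, by simp [hρ a ha], by simp, fun _ => by simp, fun _ => rfl⟩
      odd := fun _ => rfl }
  rcases Nat.eq_zero_or_pos k with h0 | h0
  · refine D.com_one hQ hν H (K := 0) (θ := 1) (Nat.zero_le _) (Or.inl h0.symm) one_ne_zero
      (fun i _ => by simp [Head.vec, H]) (fun _ => rfl) ?_
    ext i j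
    rw [D.blk_high H 1 (by omega) (fun i _ => by simp [Head.vec, H]) (Nat.zero_le _), hε,
      Matrix.one_apply]
  · refine D.com_chain H hQ hν hg h0 (fun _ => rfl) ⟨fun _ => by simp [H], fun ho => ?_⟩
      (by simp [H]) (fun h => ?_)
    · exact absurd hk (Nat.not_even_iff_odd.2 ho)
    · subst h; exact absurd hk (by decide)

/-- A reflection on the kernel, the head of the chain prepared. -/
theorem com_refl_head (hQ : Nondeg Q) (hν : 3 ≤ ν) (hg : g ∈ commutator (O Q))
    {v : V} (hv : v ∈ kernel Q x y) (hqv : Q v ≠ 0)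
    (hρ : ∀ a ∈ kernel Q x y, ρ a = a - ((Q v)⁻¹ * polar Q v a) • v) (hk : Odd k) (hε : ε = 1)
    (hns : ∀ l : Fin ν, k ≤ l.val → σ l ≠ l)
    (hone : k = 1 → (∀ j : Fin ν, j.val ≠ 0 → N ⟨0, by omega⟩ j = 0) ∨
      N ⟨0, by omega⟩ ⟨1, by omega⟩ ≠ 0) :
    ∃ a ∈ commutator (O Q), ∃ b ∈ commutator (O Q), g = a * b * a⁻¹ * b⁻¹ := by
  classical
  let H : Head Q (kernel Q x y) k ρ :=
    { v0 := v, v1 := 0, a00 := -Q v, a01 := -1, a10 := 1, a11 := 0
      m0 := hv, m1 := zero_mem _
      d0 := rfl, d1 := by simp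
      skew := by simp
      sol := fun a ha => ⟨-((Q v)⁻¹ * polar Q v a), 0, by rw [hρ a ha]; simp [sub_eq_add_neg, neg_smul],
        by rw [polar_comm Q a v]; field_simp; ring, fun h => absurd hk h, fun _ => rfl⟩
      odd := fun _ => rfl }
  have hkpos : 0 < k := hk.pos
  have hok : H.Ok := ⟨fun he => absurd he (Nat.not_even_iff_odd.2 hk), fun _ => by simpa [H] using hqv⟩
  by_cases hc : k = 1 ∧ ∀ j : Fin ν, j.val ≠ 0 → N ⟨0, by omega⟩ j = 0
  swap
  · exact D.com_chain H hQ hν hg hkpos (fun _ => rfl) hok (by simp [H]) fun h =>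
      (hone h).resolve_left fun h' => hc ⟨h, h'⟩
  obtain ⟨rfl, hrow⟩ := hc
  -- the first single splits off
  have hvK : ∀ θ i, 1 ≤ i → H.vec θ i = 0 := fun θ i hi => by
    simp only [Head.vec, H]; split_ifs <;> first | (exfalso; omega) | rfl
  have hblk : ∀ θ, blk Q g x (twF x y σ N ε 1 H θ) = diagonal fun i : Fin ν =>
      if i.val = 0 then -(Q v) * θ ^ 2 * N ⟨0, by omega⟩ ⟨0, by omega⟩ else 1 := fun θ => by
    ext i j
    by_cases hi : i.val = 0
    swap
    · rw [D.blk_high H θ le_rfl (hvK θ) (by omega), Matrix.diagonal_apply, if_neg hi, hε]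
    obtain rfl : i = ⟨0, Nat.lt_of_lt_of_le (by decide) hν⟩ := Fin.ext hi
    rw [D.blk_twF H θ le_rfl (hvK θ), if_neg fun h => hns j h.1 h.2, zero_add,
      Finset.sum_eq_single (⟨0, by omega⟩ : Fin ν)]
    · rw [twM, if_pos (by simp), Head.core00, Matrix.diagonal_apply]
      by_cases hj : j.val = 0
      · rw [show j = ⟨0, by omega⟩ from Fin.ext hj, if_pos rfl, if_pos rfl]
      · rw [hrow j hj, mul_zero, if_neg fun h => hj (by rw [← h])]
    · intro l _ hl
      have : l.val ≠ 0 := fun h => hl (Fin.ext h)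
      rw [twM, if_neg (by omega), if_neg (fun h => by simp at h), zero_mul]
    · simp
  set d : F := -(Q v) * N ⟨0, by omega⟩ ⟨0, by omega⟩ with hd
  have hd0 : d ≠ 0 := mul_ne_zero (neg_ne_zero.2 hqv) (D.dia _ (by simp))
  have hdet : (blk Q g x (twF x y σ N ε 1 H 1)).det = d := by
    rw [hblk, det_diagonal, Finset.prod_eq_single (⟨0, by omega⟩ : Fin ν)]
    · rw [if_pos rfl, one_pow, mul_one]
    · intro b _ hb; rw [if_neg fun h => hb (Fin.ext h)]
    · simp
  obtain ⟨A0, hA0, -⟩ := exists_reg_sq (F := F) ν hν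
  obtain ⟨s, hs⟩ := isSquare_det_frame hQ (D.frame_twF H 1 le_rfl (hvK 1)) hν g
    (D.res_twF H 1 (by omega) (by omega) (Or.inl rfl) one_ne_zero (hvK 1) fun _ => rfl) hg hA0
    (GeneralLinearGroup.mkOfDetNeZero (blk Q g x (twF x y σ N ε 1 H 1)) (by rwa [hdet])) rfl
  replace hs : (blk Q g x (twF x y σ N ε 1 H 1)).det = s * s := hs
  rw [hdet] at hs
  have hs0 : s ≠ 0 := fun h => hd0 (by rw [hs, h, mul_zero])
  refine D.com_one hQ hν H (K := 1) (θ := s⁻¹) (by omega) (Or.inl rfl) (inv_ne_zero hs0)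
    (hvK _) (fun _ => rfl) ?_
  rw [hblk, ← Matrix.diagonal_one]
  congr 1
  funext i
  split_ifs
  · rw [show -(Q v) * s⁻¹ ^ 2 * N ⟨0, by omega⟩ ⟨0, by omega⟩ = s⁻¹ ^ 2 * d by rw [hd]; ring, hs]
    field_simp
  · rfl

/-- A reflection on the kernel. -/
theorem com_refl (hQ : Nondeg Q) (hν : 3 ≤ ν) (hg : g ∈ commutator (O Q))
    {v : V} (hv : v ∈ kernel Q x y) (hqv : Q v ≠ 0)
    (hρ : ∀ a ∈ kernel Q x y, ρ a = a - ((Q v)⁻¹ * polar Q v a) • v) (hk : Odd k) (hε : ε = 1)
    (hns : ∀ l : Fin ν, k ≤ l.val → σ l ≠ l) :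
    ∃ a ∈ commutator (O Q), ∃ b ∈ commutator (O Q), g = a * b * a⁻¹ * b⁻¹ := by
  by_cases hc : k = 1 ∧ ∃ j : Fin ν, j.val ≠ 0 ∧ N ⟨0, by omega⟩ j ≠ 0
  · obtain ⟨rfl, j, hj, hNj⟩ := hc
    set π : Equiv.Perm (Fin ν) := Equiv.swap ⟨1, by omega⟩ j with hπ
    have hπ0 : ∀ l : Fin ν, l.val < 1 → π l = l := fun l hl =>
      Equiv.swap_apply_of_ne_of_ne (fun h => by rw [h] at hl; simp at hl)
        (fun h => hj (by rw [← h]; omega))
    refine (D.perm π hπ0).com_refl_head hQ hν hg (v := v) (by rwa [kernel_perm]) hqv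
      (fun a ha => hρ a (by rwa [kernel_perm] at ha)) hk hε (fun l hl h => ?_) fun _ => Or.inr ?_
    · rw [Equiv.symm_apply_eq] at h
      refine hns (π l) (not_lt.1 fun h' => ?_) h
      have := π.injective (hπ0 (π l) h')
      rw [this] at h'
      omega
    · rw [hπ0 ⟨0, by omega⟩ (by simp), hπ, Equiv.swap_apply_left]
      exact hNj
  · refine D.com_refl_head hQ hν hg hv hqv hρ hk hε hns fun h => Or.inl fun j hj => ?_
    by_contra h'
    exact hc ⟨h, j, hj, h'⟩

/-- A pair at the head. -/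
theorem com_pair (hQ : Nondeg Q) (hν : 3 ≤ ν) (hg : g ∈ commutator (O Q)) (hk : k = 0)
    (h01 : σ ⟨0, by omega⟩ = ⟨1, by omega⟩) (H : Head Q (kernel Q x y) k ρ) (hok : H.Ok)
    (h11 : H.a11 ≠ 0) (hchar : (2 : F) = 0 → H.a10 ≠ H.a01) :
    ∃ a ∈ commutator (O Q), ∃ b ∈ commutator (O Q), g = a * b * a⁻¹ * b⁻¹ := by
  classical
  subst hk
  have h10 : σ ⟨1, by omega⟩ = ⟨0, by omega⟩ := by rw [← h01, D.inv]
  have hpair : ∀ i : Fin ν, i.val < 2 → σ i ≠ i ∧ (σ i).val < 2 := fun i hi => by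
    rcases (show i.val = 0 ∨ i.val = 1 by omega) with h | h
    · rw [show i = ⟨0, by omega⟩ from Fin.ext h, h01]; simp
    · rw [show i = ⟨1, by omega⟩ from Fin.ext h, h10]; simp
  have hK : 2 ≤ ν := by omega
  set c := N (Fin.castLE hK (0 : Fin 2)) (Fin.castLE hK (1 : Fin 2)) with hc
  have e0 : Fin.castLE hK (0 : Fin 2) = (⟨0, by omega⟩ : Fin ν) := rfl
  have e1 : Fin.castLE hK (1 : Fin 2) = (⟨1, by omega⟩ : Fin ν) := rfl
  have hne : σ ⟨0, by omega⟩ ≠ ⟨0, by omega⟩ := (hpair _ (by simp)).1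
  have hc0 : c ≠ 0 := by
    rw [hc, e0, e1, ← h01]; exact (D.pair _ hne).1
  have hc10 : N (Fin.castLE hK (1 : Fin 2)) (Fin.castLE hK (0 : Fin 2)) = -c := by
    rw [hc, e0, e1, ← h01]; exact (D.pair _ hne).2
  have hc00 : N (Fin.castLE hK (0 : Fin 2)) (Fin.castLE hK (0 : Fin 2)) = 0 :=
    D.row _ _ (Nat.zero_le _) (Or.inl (by rw [e0, h01]; simp))
  have hc11 : N (Fin.castLE hK (1 : Fin 2)) (Fin.castLE hK (1 : Fin 2)) = 0 :=
    D.row _ _ (Nat.zero_le _) (Or.inl (by rw [e1, h10]; simp))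
  have hvK : ∀ θ i, 2 ≤ i → H.vec θ i = 0 := fun θ i hi => H.vec_high θ hi
  have hcorner : ∀ θ (i j : Fin 2), D.corner H hK θ i j =
      if j = 0 then -c * H.core θ i.val 1 else c * H.core θ i.val 0 := fun θ i j => by
    rw [Data.corner, D.blk_low H θ (Nat.zero_le _) hK (hvK θ) (by simp; omega) (by simp; omega), if_neg, zero_add,
      sum_castLE hK, Fin.sum_univ_two]
    · fin_cases j
      · simp [hc00, hc10, mul_comm]
      · simp [← hc, hc11, mul_comm]
    · rintro ⟨-, -, h⟩
      have := hpair (Fin.castLE hK i) (by simp; omega)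
      omega
  have hdet : ∀ θ, (D.corner H hK θ).det =
      θ ^ 2 * (c ^ 2 * (H.a00 * H.a11 - H.a01 * H.a10)) := fun θ => by
    rw [det_fin_two]
    simp [hcorner, Head.core00, Head.core01, Head.core10, Head.core11]
    ring
  have htr : ∀ θ, (D.corner H hK θ).trace = θ * (c * (H.a10 - H.a01)) := fun θ => by
    rw [Matrix.trace_fin_two]
    simp [hcorner, Head.core00, Head.core01, Head.core10, Head.core11]
    ring
  refine D.com_block hQ hν hg H hK le_rfl (Or.inr (Or.inr ⟨rfl, rfl, hpair⟩)) hvK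
    (fun h => absurd h zero_ne_one) (fun θ hθ => ⟨fun i j h => ?_, fun i j h => ?_⟩)
    (d := c ^ 2 * (H.a00 * H.a11 - H.a01 * H.a10))
    (mul_ne_zero (pow_ne_zero _ hc0) (hok.1 (by decide))) (fun θ _ => hdet θ)
    fun _ _ θ hθ _ => ?_
  · have := i.isLt; omega
  · have := i.isLt
    rw [hcorner, if_pos (Fin.ext (by simp; omega)), show i.val = 1 by omega, Head.core11]
    exact mul_ne_zero (neg_ne_zero.2 hc0) h11
  · by_contra hcon
    push Not at hcon
    obtain ⟨h1, h2⟩ := hcon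
    rw [htr] at h1 h2
    have h4 : (2 : F) * 2 = 0 := by linear_combination -h1 - h2
    have h20 : (2 : F) = 0 := mul_self_eq_zero.1 h4
    rw [h20] at h1
    exact mul_ne_zero hθ (mul_ne_zero hc0 (sub_ne_zero.2 (hchar h20))) h1

end Data

/-- The head of a fixed point free action. -/
theorem exists_head_rot {K : Submodule F V} {k : ℕ} {ρ : V → V} (hK : Nondeg (restr Q K))
    (hd : finrank F K = 2) (hk : Even k) (r : K →ₗ[F] K) (hr : ∀ a, Q (r a : V) = Q (a : V))
    (hb : Function.Bijective (r - LinearMap.id : K →ₗ[F] K)) (hρ : ∀ a : K, ρ a = (r a : V))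
    (w0 w1 : K) (hli : LinearIndependent F ![w0, w1]) :
    ∃ H : Head Q K k ρ, H.Ok ∧ H.a10 = polar Q (w1 : V) ((r w0 : V) - w0) ∧
      H.a11 = -Q ((r w1 : V) - w1) ∧ ((2 : F) = 0 → H.a10 ≠ H.a01) := by
  classical
  set d := r - LinearMap.id with hdd
  have hdv : ∀ a : K, (d a : V) = (r a : V) - a := fun a => by simp [hdd]
  have hQd : ∀ a : K, Q ((r a : V) - a) = 2 * Q (a : V) - polar Q (r a : V) (a : V) := fun a => by
    rw [qmap_sub, hr]; ring
  have hB : ∀ a b : K, polar Q (r a : V) (r b : V) = polar Q (a : V) (b : V) := fun a b => by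
    simp only [polar, ← Submodule.coe_add, ← map_add, hr]
  have hspan : ∀ a : K, ∃ c0 c1 : F, c0 • w0 + c1 • w1 = a := fun a => by
    have h := hli.span_eq_top_of_card_eq_finrank (by simp [hd])
    rw [Matrix.range_cons_cons_empty] at h
    exact Submodule.mem_span_pair.1 (h ▸ Submodule.mem_top)
  let H : Head Q K k ρ :=
    { v0 := (r w0 : V) - w0, v1 := (r w1 : V) - w1
      a00 := polar Q (w0 : V) ((r w0 : V) - w0), a01 := polar Q (w0 : V) ((r w1 : V) - w1)
      a10 := polar Q (w1 : V) ((r w0 : V) - w0), a11 := polar Q (w1 : V) ((r w1 : V) - w1)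
      m0 := sub_mem (r w0).2 w0.2, m1 := sub_mem (r w1).2 w1.2
      d0 := by rw [hQd, polar_sub_right, polar_self', polar_comm Q (r w0 : V)]; ring
      d1 := by rw [hQd, polar_sub_right, polar_self', polar_comm Q (r w1 : V)]; ring
      skew := by
        simp only [polar_sub_right, polar_sub_left, hB, polar_comm Q (r w0 : V) (w1 : V),
          polar_comm Q (w1 : V) (w0 : V)]
        ring
      sol := fun a ha => by
        obtain ⟨c0, c1, hc⟩ := hspan ⟨a, ha⟩
        have ha' : a = c0 • (w0 : V) + c1 • (w1 : V) := by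
          have := congrArg Subtype.val hc; simpa using this.symm
        refine ⟨c0, c1, ?_, ?_, fun _ => ?_, fun h => absurd hk (Nat.not_even_iff_odd.2 h)⟩
        · rw [show ρ a = (r (c0 • w0 + c1 • w1) : V) by rw [hc]; exact hρ ⟨a, ha⟩, ha']
          simp [smul_sub]; abel
        · rw [ha', polar_add_left, polar_smul_left', polar_smul_left']
        · rw [ha', polar_add_left, polar_smul_left', polar_smul_left']
      odd := fun h => absurd hk (Nat.not_even_iff_odd.2 h) }
  -- the Gram argument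
  have hzero : ∀ z : K, polar Q (w0 : V) z = 0 → polar Q (w1 : V) z = 0 → z = 0 := fun z h0 h1 =>
    hK z fun a => by
      obtain ⟨c0, c1, rfl⟩ := hspan a
      rw [polar_restr, Submodule.coe_add, Submodule.coe_smul, Submodule.coe_smul, polar_add_right,
        polar_smul_right', polar_smul_right', polar_comm Q (z : V), h0, polar_comm Q (z : V), h1]
      ring
  have hind : ∀ t0 t1 : F, t0 • d w0 + t1 • d w1 = 0 → t0 = 0 ∧ t1 = 0 := fun t0 t1 h => by
    rw [← map_smul, ← map_smul, ← map_add] at h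
    exact (LinearIndependent.pair_iff.1 hli) t0 t1 (hb.1 (h.trans (map_zero _).symm))
  have key : ∀ t0 t1 : F, t0 * H.a00 + t1 * H.a01 = 0 → t0 * H.a10 + t1 * H.a11 = 0 →
      t0 = 0 ∧ t1 = 0 := fun t0 t1 h0 h1 => by
    refine hind t0 t1 (hzero _ ?_ ?_)
    · simpa [hdv, polar_add_right, polar_smul_right', H] using h0
    · simpa [hdv, polar_add_right, polar_smul_right', H] using h1
  refine ⟨H, ⟨fun _ h0 => ?_, fun h => absurd hk (Nat.not_even_iff_odd.2 h)⟩, rfl, H.d1, fun h2 h => ?_⟩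
  · obtain ⟨h11, h10⟩ := key H.a11 (-H.a10) (by linear_combination h0) (by ring)
    obtain ⟨h01, h00⟩ := key (-H.a01) H.a00 (by ring) (by linear_combination h0)
    exact one_ne_zero (key 1 0 (by rw [h00]; ring) (by rw [neg_eq_zero.1 h10]; ring)).1
  · have hv : polar Q ((r w0 : V) - w0) ((r w1 : V) - w1) = 0 := by
      linear_combination H.skew - h - (H.a01 : F) * h2
    have : d w0 = 0 := hK _ fun a => by
      obtain ⟨b, rfl⟩ := hb.2 a
      obtain ⟨c0, c1, rfl⟩ := hspan b
      rw [polar_restr, map_add, map_smul, map_smul, Submodule.coe_add, Submodule.coe_smul,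
        Submodule.coe_smul, polar_add_right, polar_smul_right', polar_smul_right', hdv, hdv,
        polar_self', h2, hv]
      ring
    exact one_ne_zero (hind 1 0 (by rw [this]; simp)).1

/-- Two vectors with `B(w1, v0) ≠ 0`. -/
theorem exists_pair_chain {W : Type*} [AddCommGroup W] [Module F W] [FiniteDimensional F W]
    {R : QuadraticForm F W} (hR : Nondeg R) (hd : finrank F W = 2) (d : W →ₗ[F] W)
    (hd' : Function.Injective d) :
    ∃ w0 w1 : W, LinearIndependent F ![w0, w1] ∧ polar R w1 (d w0) ≠ 0 := by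
  classical
  have : Nontrivial W := Module.nontrivial_of_finrank_pos (R := F) (M := W) (by omega)
  obtain ⟨w0, h0⟩ := exists_ne (0 : W)
  have hv0 : d w0 ≠ 0 := fun h => h0 (hd' (h.trans (map_zero d).symm))
  obtain ⟨b, hb⟩ : ∃ b, polar R (d w0) b ≠ 0 := by
    by_contra h; push Not at h; exact hv0 (hR _ h)
  obtain ⟨c, hc⟩ := exists_linearIndependent_pair_of_one_lt_finrank (R := F) (show 1 < finrank F W by omega) h0
  have hnot : ∀ z, z ∉ Submodule.span F {w0} → LinearIndependent F ![w0, z] := fun z hz =>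
    (LinearIndependent.pair_iff' h0).2 fun a ha => hz (Submodule.mem_span_singleton.2 ⟨a, ha⟩)
  rw [polar_comm] at hb
  have hc' : c ∉ Submodule.span F {w0} := fun h => by
    obtain ⟨a, ha⟩ := Submodule.mem_span_singleton.1 h
    exact (LinearIndependent.pair_iff' h0).1 hc a ha
  by_cases hb' : b ∈ Submodule.span F {w0}
  swap
  · exact ⟨w0, b, hnot b hb', hb⟩
  by_cases hc0 : polar R c (d w0) = 0
  · exact ⟨w0, b + c, hnot _ fun h => hc' (by simpa using sub_mem h hb'),
      by rw [polar_add_left, hc0, add_zero]; exact hb⟩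
  · exact ⟨w0, c, hc, hc0⟩

/-- Two vectors with anisotropic second image. -/
theorem exists_pair_head {W : Type*} [AddCommGroup W] [Module F W] [FiniteDimensional F W]
    {R : QuadraticForm F W} (hR : Nondeg R) (hd : finrank F W = 2) (d : W →ₗ[F] W)
    (hd' : Function.Bijective d) :
    ∃ w0 w1 : W, LinearIndependent F ![w0, w1] ∧ R (d w1) ≠ 0 := by
  classical
  have : Nontrivial W := Module.nontrivial_of_finrank_pos (R := F) (M := W) (by omega)
  obtain ⟨z, hz⟩ := exists_ne (0 : W)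
  obtain ⟨t, ht⟩ := exists_anisotropic hR hz
  obtain ⟨w1, rfl⟩ := hd'.2 t
  have h1 : w1 ≠ 0 := fun h => ht (by rw [h, map_zero, QuadraticMap.map_zero])
  obtain ⟨w0, hw⟩ := exists_linearIndependent_pair_of_one_lt_finrank (R := F) (show 1 < finrank F W by omega) h1
  exact ⟨w0, w1, LinearIndependent.pair_symm_iff.1 hw, ht⟩

variable [Fintype F]

/-- A fixed point free action on the kernel, some chain or pair present. -/
theorem Data.com_rot {ν : ℕ} {g : O Q} {k : ℕ} {x y : Fin ν → V} {σ : Fin ν → Fin ν}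
    {N : Fin ν → Fin ν → F} {ε : F} {ρ : V → V} (D : Data g k x y σ N ε ρ)
    (hQ : Nondeg Q) (hν : 3 ≤ ν) (hg : g ∈ commutator (O Q))
    (hd : finrank F (kernel Q x y) = 2) (hk : Even k)
    (r : kernel Q x y →ₗ[F] kernel Q x y) (hr : ∀ a, Q (r a : V) = Q (a : V))
    (hb : Function.Bijective (r - LinearMap.id : kernel Q x y →ₗ[F] kernel Q x y))
    (hρ : ∀ a : kernel Q x y, ρ a = (r a : V)) (hne : 0 < k ∨ ∃ l, σ l ≠ l) :
    ∃ a ∈ commutator (O Q), ∃ b ∈ commutator (O Q), g = a * b * a⁻¹ * b⁻¹ := by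
  classical
  have hKn := D.frame.nondeg_kernel hQ
  rcases Nat.eq_zero_or_pos k with hk0 | hk0
  · obtain ⟨w0, w1, hli, hw⟩ := exists_pair_head hKn hd _ hb
    obtain ⟨H, hok, -, h11, hchar⟩ := exists_head_rot hKn hd hk r hr hb hρ w0 w1 hli
    have hne11 : H.a11 ≠ 0 := by
      rw [h11, neg_ne_zero]
      simpa using hw
    obtain ⟨l, hl⟩ := hne.resolve_left (by omega)
    set i0 : Fin ν := ⟨0, by omega⟩
    set i1 : Fin ν := ⟨1, by omega⟩
    set s := Equiv.swap i0 l (σ l) with hs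
    set π : Equiv.Perm (Fin ν) := Equiv.swap i0 l * Equiv.swap i1 s with hπ
    have hπ0 : π i0 = l := by
      rw [hπ, Equiv.Perm.mul_apply, Equiv.swap_apply_of_ne_of_ne (show i0 ≠ i1 by simp [i0, i1])
        (fun h => hl ?_), Equiv.swap_apply_left]
      rw [hs, eq_comm, Equiv.swap_apply_eq_iff, Equiv.swap_apply_left] at h
      exact h
    have hπ1 : π i1 = σ l := by
      rw [hπ, Equiv.Perm.mul_apply, Equiv.swap_apply_left, hs, Equiv.swap_apply_self]
    refine (D.perm π (fun l hl => absurd hl (by omega))).com_pair hQ hν hg hk0 ?_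
      (H.cast (Data.kernel_perm π).symm) hok hne11 hchar
    rw [Equiv.symm_apply_eq]
    show σ (π i0) = π i1
    rw [hπ0, hπ1]
  · obtain ⟨w0, w1, hli, hw⟩ := exists_pair_chain hKn hd _ hb.1
    obtain ⟨H, hok, h10, -, -⟩ := exists_head_rot hKn hd hk r hr hb hρ w0 w1 hli
    refine D.com_chain H hQ hν hg hk0 (fun h => ?_) hok ?_ fun h => ?_
    · subst h; exact absurd hk (by decide)
    · rw [h10]
      rwa [polar_restr, LinearMap.sub_apply, LinearMap.id_apply, Submodule.coe_sub] at hw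
    · subst h; exact absurd hk (by decide)

end Cfsg.Agent.H58.OreEven
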