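import Cfsg.Agent.Orthogonal.Spinor
import Cfsg.Agent.Orthogonal.Plane

/-!
Minus the identity, when in the commutator subgroup, is a commutator.
-/

set_option autoImplicit false
set_option linter.unusedSectionVars false

namespace Cfsg.Agent.H58.OreEven

open Module
open Cfsg.Agent.Orthogonal
open QuadraticMap (polar polar_comm polar_add_left polar_add_right polar_sub_left polar_sub_right)

variable {F V : Type*} [Field F] [AddCommGroup V] [Module F V] [FiniteDimensional F V]
variable {Q : QuadraticForm F V}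

theorem com_list {G : Type*} [Group G] (l : List (G × G))
    (h : l.Pairwise fun p q => Commute p.1 q.1 ∧ Commute p.1 q.2 ∧ Commute p.2 q.1 ∧ Commute p.2 q.2) :
    (l.map Prod.fst).prod * (l.map Prod.snd).prod * (l.map Prod.fst).prod⁻¹ *
        (l.map Prod.snd).prod⁻¹ = (l.map fun p => p.1 * p.2 * p.1⁻¹ * p.2⁻¹).prod := by
  induction l with
  | nil => simp
  | cons p t ih =>
    rw [List.pairwise_cons] at h
    rw [List.map_cons, List.map_cons, List.map_cons, List.prod_cons, List.prod_cons, List.prod_cons,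
      ← ih h.2]
    set A := (t.map Prod.fst).prod
    set B := (t.map Prod.snd).prod
    have hc : ∀ z : G, z = p.1 ∨ z = p.2 → Commute z A ∧ Commute z B := fun z hz => by
      refine ⟨Commute.list_prod_right _ _ fun w hw => ?_, Commute.list_prod_right _ _ fun w hw => ?_⟩ <;>
      · obtain ⟨q, hq, rfl⟩ := List.mem_map.1 hw
        obtain ⟨h1, h2, h3, h4⟩ := h.1 q hq
        rcases hz with rfl | rfl <;> assumption
    obtain ⟨haA, haB⟩ := hc p.1 (Or.inl rfl)
    obtain ⟨hbA, hbB⟩ := hc p.2 (Or.inr rfl)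
    calc p.1 * A * (p.2 * B) * (p.1 * A)⁻¹ * (p.2 * B)⁻¹
        = p.1 * (A * p.2) * B * A⁻¹ * (p.1⁻¹ * B⁻¹) * p.2⁻¹ := by group
      _ = p.1 * p.2 * (A * B * A⁻¹ * B⁻¹) * p.1⁻¹ * p.2⁻¹ := by
        rw [← hbA.eq, (haB.inv_inv).eq]; group
      _ = p.1 * p.2 * p.1⁻¹ * ((A * B * A⁻¹ * B⁻¹) * p.2⁻¹) := by
        have : Commute p.1⁻¹ (A * B * A⁻¹ * B⁻¹) :=
          (((haA.mul_right haB).mul_right haA.inv_right).mul_right haB.inv_right).inv_left
        rw [mul_assoc (p.1 * p.2) (A * B * A⁻¹ * B⁻¹), ← this.eq]; group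
      _ = _ := by
        have : Commute p.2⁻¹ (A * B * A⁻¹ * B⁻¹) :=
          (((hbA.mul_right hbB).mul_right hbA.inv_right).mul_right hbB.inv_right).inv_left
        rw [← this.eq]; group

theorem rO_comm {v w : V} (h : polar Q v w = 0) : Commute (rO Q v) (rO Q w) := by
  have h1 := conj_rO (rO Q v) w
  rw [rO_fix h] at h1
  exact mul_inv_eq_iff_eq_mul.1 h1

/-- The product of reflections in an orthogonal list is minus one on its span. -/
theorem refl_prod_app (h2 : (2 : F) ≠ 0) :
    ∀ L : List V, (∀ v ∈ L, Q v ≠ 0) → L.Pairwise (fun a b => polar Q a b = 0) →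
      (∀ x, (∀ v ∈ L, polar Q v x = 0) → ((L.map (rO Q)).prod : V ≃ₗ[F] V) x = x) ∧
      ∀ v ∈ L, ((L.map (rO Q)).prod : V ≃ₗ[F] V) v = -v := by
  intro L
  induction L with
  | nil => intro _ _; exact ⟨fun x _ => rfl, fun v hv => absurd hv (by simp)⟩
  | cons a t ih =>
    intro hne hp
    rw [List.pairwise_cons] at hp
    obtain ⟨h1, h3⟩ := ih (fun v hv => hne v (List.mem_cons_of_mem _ hv)) hp.2
    refine ⟨fun x hx => ?_, fun v hv => ?_⟩
    · rw [List.map_cons, List.prod_cons, Subgroup.coe_mul, mul_app,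
        h1 x (fun v hv => hx v (List.mem_cons_of_mem _ hv)), rO_fix (hx a List.mem_cons_self)]
    · rw [List.map_cons, List.prod_cons, Subgroup.coe_mul, mul_app]
      rcases List.mem_cons.1 hv with rfl | hvt
      · rw [h1 _ (fun w hw => by rw [polar_comm]; exact hp.1 w hw), rO_self (hne _ List.mem_cons_self)]
      · rw [h3 v hvt, map_neg, rO_fix (hp.1 v hvt)]

variable [Finite F]

/-- An orthogonal list with all values but the last equal to one. -/
theorem exists_orth_list (h2 : (2 : F) ≠ 0) :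
    ∀ (N : ℕ) (W : Submodule F V), Nondeg (restr Q W) → finrank F W = N + 1 →
      ∃ (L : List V) (u : V), L.length = N ∧ (∀ v ∈ L, v ∈ W ∧ Q v = 1) ∧ u ∈ W ∧ Q u ≠ 0 ∧
        (L ++ [u]).Pairwise (fun a b => polar Q a b = 0) ∧
        W ≤ Submodule.span F {x | x ∈ L ++ [u]} := by
  intro N
  induction N with
  | zero =>
    intro W hW hd
    obtain ⟨⟨u, hu⟩, hu0, hsp⟩ := finrank_eq_one_iff'.1 hd
    refine ⟨[], u, rfl, by simp, hu, fun h => hu0 (hW _ fun a => ?_), by simp, fun x hx => ?_⟩
    · obtain ⟨c, rfl⟩ := hsp a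
      rw [polar_restr, Submodule.coe_smul, polar_smul_right', polar_self', h]
      ring
    · obtain ⟨c, hc⟩ := hsp ⟨x, hx⟩
      rw [show x = c • u from (congrArg Subtype.val hc).symm]
      exact Submodule.smul_mem _ _ (Submodule.subset_span (by simp))
  | succ N ih =>
    intro W hW hd
    obtain ⟨⟨v, hv⟩, hqv⟩ := hW.exists_value (show 2 ≤ finrank F W by omega) (1 : F)
    rw [restr_apply] at hqv
    set W' := W ⊓ perp Q (Submodule.span F {v}) with hW'
    have hmem : ∀ z, z ∈ W' ↔ z ∈ W ∧ polar Q v z = 0 := fun z => by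
      rw [hW', Submodule.mem_inf, mem_perp]
      exact and_congr_right fun _ => ⟨fun h => h v (Submodule.mem_span_singleton_self v),
        fun h w hw => by
          obtain ⟨c, rfl⟩ := Submodule.mem_span_singleton.1 hw
          rw [polar_smul_left', h, mul_zero]⟩
    have hvv : polar Q v v = 2 := by rw [polar_self', hqv, mul_one]
    have hsplit : ∀ a ∈ W, a - (polar Q v a / 2) • v ∈ W' := fun a ha => by
      refine (hmem _).2 ⟨sub_mem ha (Submodule.smul_mem _ _ hv), ?_⟩
      rw [polar_sub_right, polar_smul_right', hvv]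
      field_simp; ring
    have hW'n : Nondeg (restr Q W') := fun z hz => by
      obtain ⟨hzW, hzv⟩ := (hmem _).1 z.2
      have := hW ⟨z, hzW⟩ fun a => by
        have h0 := hz ⟨_, hsplit a a.2⟩
        rw [polar_restr, polar_sub_right, polar_smul_right', polar_comm Q (z : V) v, hzv, mul_zero,
          sub_zero] at h0
        rw [polar_restr]; exact h0
      exact Subtype.ext (congrArg Subtype.val this :)
    have hv0 : v ≠ 0 := fun h => one_ne_zero (hqv.symm.trans (show Q v = 0 by rw [h, QuadraticMap.map_zero]))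
    have hsup : W' ⊔ Submodule.span F {v} = W := by
      refine le_antisymm (sup_le (fun z hz => ((hmem z).1 hz).1)
        (by rw [Submodule.span_le]; simpa using hv)) fun a ha => ?_
      rw [show a = (a - (polar Q v a / 2) • v) + (polar Q v a / 2) • v by abel]
      exact Submodule.add_mem_sup (hsplit a ha)
        (Submodule.smul_mem _ _ (Submodule.mem_span_singleton_self v))
    have hinf : W' ⊓ Submodule.span F {v} = ⊥ := by
      rw [eq_bot_iff]
      rintro z ⟨hz, hz'⟩
      obtain ⟨c, rfl⟩ := Submodule.mem_span_singleton.1 hz'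
      have := ((hmem _).1 hz).2
      rw [polar_smul_right', hvv, mul_eq_zero] at this
      rw [this.resolve_right h2, zero_smul]; exact Submodule.zero_mem _
    have hdim : finrank F W' = N + 1 := by
      have := Submodule.finrank_sup_add_finrank_inf_eq W' (Submodule.span F {v})
      rw [hsup, hinf, finrank_bot, finrank_span_singleton hv0, hd] at this
      omega
    obtain ⟨L, u, hLl, hL, hu, hu0, hp, hspan⟩ := ih W' hW'n hdim
    refine ⟨v :: L, u, by simp [hLl], fun w hw => ?_, ((hmem u).1 hu).1, hu0, ?_, ?_⟩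
    · rcases List.mem_cons.1 hw with rfl | hw
      · exact ⟨hv, hqv⟩
      · exact ⟨((hmem w).1 (hL w hw).1).1, (hL w hw).2⟩
    · rw [List.cons_append, List.pairwise_cons]
      refine ⟨fun w hw => ?_, hp⟩
      rcases List.mem_append.1 hw with hw | hw
      · exact ((hmem w).1 (hL w hw).1).2
      · rw [List.mem_singleton.1 hw]; exact ((hmem u).1 hu).2
    · rw [← hsup]
      refine sup_le (hspan.trans (Submodule.span_mono fun z hz => ?_)) ?_
      · exact List.mem_cons_of_mem v hz
      · rw [Submodule.span_le, Set.singleton_subset_iff]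
        exact Submodule.subset_span (List.mem_cons_self (a := v) (l := L ++ [u]))

omit [Finite F] in
theorem exists_pairs {α : Type*} : ∀ (n : ℕ) (L : List α), L.length = 2 * n →
    ∃ P : List (α × α), P.length = n ∧ P.flatMap (fun p => [p.1, p.2]) = L := by
  intro n
  induction n with
  | zero => intro L hL; exact ⟨[], rfl, by simpa using (List.length_eq_zero_iff.1 hL).symm⟩
  | succ n ih =>
    intro L hL
    match L with
    | [] => simp at hL
    | [a] => simp at hL; omega
    | a :: b :: t =>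
      obtain ⟨P, hP, rfl⟩ := ih t (by simp at hL; omega)
      exact ⟨(a, b) :: P, by simp [hP], by simp⟩

/-- Minus one, when in the commutator subgroup, is a commutator. -/
theorem neg_one_com (hQ : Nondeg Q) (h2 : (2 : F) ≠ 0) {n : ℕ} (hn : 2 ≤ n)
    (hdim : finrank F V = 2 * n) (g : O Q) (hg : g ∈ commutator (O Q))
    (hneg : ∀ x, (g : V ≃ₗ[F] V) x = -x) :
    ∃ a ∈ commutator (O Q), ∃ b ∈ commutator (O Q), g = a * b * a⁻¹ * b⁻¹ := by
  classical
  obtain ⟨hgd, hgs⟩ := (mem_commutator_iff hQ h2 g).1 hg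
  obtain ⟨L, u, hLl, hL, -, hu, hp, hspan⟩ := exists_orth_list h2 (2 * n - 1) ⊤ (nondeg_restr_top hQ)
    (by rw [finrank_top]; omega)
  have hgprod : ∀ M : List V, (∀ v ∈ M, Q v ≠ 0) → M.Pairwise (fun a b => polar Q a b = 0) →
      (⊤ : Submodule F V) ≤ Submodule.span F {x | x ∈ M} → g = (M.map (rO Q)).prod := by
    intro M hM hMp hMs
    refine O.ext_app fun x => ?_
    have hx : x ∈ Submodule.span F {x | x ∈ M} := hMs trivial
    induction hx using Submodule.span_induction with
    | mem v hv => rw [hneg, (refl_prod_app h2 M hM hMp).2 v hv]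
    | zero => simp
    | add a b _ _ ha hb => rw [map_add, map_add, ha, hb]
    | smul c a _ ha => rw [map_smul, map_smul, ha]
  have hMne : ∀ v ∈ L ++ [u], Q v ≠ 0 := fun v hv => by
    rcases List.mem_append.1 hv with h | h
    · rw [(hL v h).2]; exact one_ne_zero
    · rwa [List.mem_singleton.1 h]
  rw [hgprod _ hMne hp hspan, spinor_list hQ h2 hMne, List.map_append, List.prod_append,
    List.prod_eq_one (fun c hc => by
      obtain ⟨v, hv, rfl⟩ := List.mem_map.1 hc
      exact (hL v hv).2), one_mul] at hgs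
  simp only [List.map_cons, List.map_nil, List.prod_cons, List.prod_nil, mul_one] at hgs
  obtain ⟨s, hs⟩ := sqSign_eq_one_iff.1 hgs
  have hs0 : s ≠ 0 := fun h => hu (by rw [hs, h, mul_zero])
  set M := L ++ [s⁻¹ • u] with hM
  have hM1 : ∀ v ∈ M, Q v = 1 := fun v hv => by
    rcases List.mem_append.1 hv with h | h
    · exact (hL v h).2
    · rw [List.mem_singleton.1 h, qmap_smul, hs]; field_simp
  have hMp : M.Pairwise fun a b => polar Q a b = 0 := by
    rw [hM, List.pairwise_append]
    rw [List.pairwise_append] at hp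
    refine ⟨hp.1, List.pairwise_singleton _ _, fun a ha b hb => ?_⟩
    rw [List.mem_singleton.1 hb, polar_smul_right', hp.2.2 a ha u (by simp), mul_zero]
  have hMs : (⊤ : Submodule F V) ≤ Submodule.span F {x | x ∈ M} := hspan.trans (by
    rw [Submodule.span_le]
    intro z hz
    rcases List.mem_append.1 hz with h | h
    · exact Submodule.subset_span (List.mem_append_left _ h)
    · rw [List.mem_singleton.1 h, show u = s • (s⁻¹ • u) by rw [smul_inv_smul₀ hs0]]
      exact Submodule.smul_mem _ _ (Submodule.subset_span (by simp [hM])))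
  have hg1 := hgprod M (fun v hv => by rw [hM1 v hv]; exact one_ne_zero) hMp hMs
  obtain ⟨P, hPl, hP⟩ := exists_pairs n M (by simp [hM, hLl]; omega)
  -- the planes
  set Rf : V × V → O Q := fun p => rO Q p.2 with hRf
  set Rd : V × V → O Q := fun p => rO Q (p.1 - p.2) with hRd
  set J : V × V → O Q := fun p => Rd p * Rf p with hJ
  set r : V × V → O Q := fun p => rO Q p.1 * rO Q p.2 with hr
  have hpl : ∀ p ∈ P, Q p.1 = 1 ∧ Q p.2 = 1 ∧ polar Q p.1 p.2 = 0 := fun p hp => by
    rw [← hP, List.flatMap_def, List.pairwise_flatten] at hMp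
    have h1 := hMp.1 _ (List.mem_map.2 ⟨p, hp, rfl⟩)
    refine ⟨hM1 _ ?_, hM1 _ ?_, by simpa using h1⟩ <;>
      (rw [← hP]; exact List.mem_flatMap.2 ⟨p, hp, by simp⟩)
  have hcross : P.Pairwise fun p q => polar Q p.1 q.1 = 0 ∧ polar Q p.1 q.2 = 0 ∧
      polar Q p.2 q.1 = 0 ∧ polar Q p.2 q.2 = 0 := by
    rw [← hP, List.flatMap_def, List.pairwise_flatten, List.pairwise_map] at hMp
    exact hMp.2.imp fun {p q} h => ⟨h _ (by simp) _ (by simp), h _ (by simp) _ (by simp),
      h _ (by simp) _ (by simp), h _ (by simp) _ (by simp)⟩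
  have hQd : ∀ p ∈ P, Q (p.1 - p.2) = 2 := fun p hp => by
    obtain ⟨h1, h1', h0⟩ := hpl p hp
    rw [qmap_sub, h1, h1', h0]; ring
  -- the three shapes
  have hid : ∀ p ∈ P, (J p * Rf p * (J p)⁻¹ * (Rf p)⁻¹ = r p) ∧
      (Rd p * J p * (Rd p)⁻¹ * (J p)⁻¹ = r p) ∧ (Rf p * Rd p * (Rf p)⁻¹ * (Rd p)⁻¹ = r p) := by
    intro p hp
    obtain ⟨h1, h1', h0⟩ := hpl p hp
    have hsw : (rO Q (p.1 - p.2) : V ≃ₗ[F] V) p.2 = p.1 := by
      have e := rO_sub_swap (x := p.1) (y := p.2) (by rw [h1, h1']) (by rw [hQd p hp]; exact h2)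
      have e' : (rO Q (p.1 - p.2) : V ≃ₗ[F] V) ((rO Q (p.1 - p.2) : V ≃ₗ[F] V) p.1) = p.1 := by
        rw [← mul_app, ← Subgroup.coe_mul, rO_mul_self]; rfl
      rwa [e] at e'
    have hc : Rd p * Rf p * (Rd p)⁻¹ = rO Q p.1 := by rw [hRd, hRf, conj_rO, hsw]
    have hi : ∀ v, (rO Q v)⁻¹ = rO Q v := rO_inv Q
    have hcm : rO Q p.2 * rO Q p.1 = rO Q p.1 * rO Q p.2 := (rO_comm h0).symm.eq
    simp only [hRd, hRf, hi] at hc
    simp only [hJ, hr, hRd, hRf, mul_inv_rev, hi]
    refine ⟨?_, ?_, ?_⟩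
    · calc rO Q (p.1 - p.2) * rO Q p.2 * rO Q p.2 * (rO Q p.2 * rO Q (p.1 - p.2)) * rO Q p.2
          = rO Q (p.1 - p.2) * (rO Q p.2 * rO Q p.2) * rO Q p.2 * rO Q (p.1 - p.2) * rO Q p.2 := by
            simp only [mul_assoc]
        _ = rO Q p.1 * rO Q p.2 := by rw [rO_mul_self, mul_one, hc]
    · calc rO Q (p.1 - p.2) * (rO Q (p.1 - p.2) * rO Q p.2) * rO Q (p.1 - p.2) *
            (rO Q p.2 * rO Q (p.1 - p.2))
          = (rO Q (p.1 - p.2) * rO Q (p.1 - p.2)) * rO Q p.2 *
              (rO Q (p.1 - p.2) * rO Q p.2 * rO Q (p.1 - p.2)) := by simp only [mul_assoc]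
        _ = rO Q p.1 * rO Q p.2 := by rw [rO_mul_self, one_mul, hc, hcm]
    · calc rO Q p.2 * rO Q (p.1 - p.2) * rO Q p.2 * rO Q (p.1 - p.2)
          = rO Q p.2 * (rO Q (p.1 - p.2) * rO Q p.2 * rO Q (p.1 - p.2)) := by simp only [mul_assoc]
        _ = rO Q p.1 * rO Q p.2 := by rw [hc, hcm]
  have hRd0 : ∀ p ∈ P, Q (p.1 - p.2) ≠ 0 := fun p hp => by rw [hQd p hp]; exact h2
  have hRf0 : ∀ p ∈ P, Q p.2 ≠ 0 := fun p hp => by rw [(hpl p hp).2.1]; exact one_ne_zero
  set σ2 : ℤˣ := sqSign (2 : F) with hσ2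
  have hval : ∀ p ∈ P, (detSign Q hQ h2 (Rd p) = -1 ∧ detSign Q hQ h2 (Rf p) = -1 ∧
      detSign Q hQ h2 (J p) = 1) ∧ (spinor Q hQ h2 (Rd p) = σ2 ∧ spinor Q hQ h2 (Rf p) = 1 ∧
      spinor Q hQ h2 (J p) = σ2) := fun p hp => by
    have a1 := detSign_rO hQ h2 (hRd0 p hp)
    have a2 := detSign_rO hQ h2 (hRf0 p hp)
    have b1 := spinor_rO hQ h2 (hRd0 p hp)
    have b2 := spinor_rO hQ h2 (hRf0 p hp)
    rw [hQd p hp] at b1
    rw [(hpl p hp).2.1, sqSign_of_isSquare IsSquare.one] at b2
    exact ⟨⟨a1, a2, by rw [hJ, map_mul, a1, a2, neg_mul_neg, one_mul]⟩,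
      ⟨b1, b2, by rw [hJ, map_mul, b1, b2, mul_one]⟩⟩
  have hflat : ∀ T : List (V × V),
      ((T.flatMap fun p => [p.1, p.2]).map (rO Q)).prod = (T.map r).prod := fun T => by
    induction T with
    | nil => simp
    | cons p t ih =>
      rw [List.flatMap_cons, List.map_append, List.prod_append, ih, List.map_cons (f := r),
        List.prod_cons]
      simp [hr]
  -- the shape of each plane
  have hshape : ∀ Sh : List ((V × V → O Q) × (V × V → O Q)), Sh.length = P.length →
      (∀ f ∈ Sh, (f = (J, Rf) ∨ f = (Rd, J) ∨ f = (Rf, Rd))) →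
      g = ((List.zipWith (fun f p => f.1 p) Sh P).prod) * ((List.zipWith (fun f p => f.2 p) Sh P).prod) *
        ((List.zipWith (fun f p => f.1 p) Sh P).prod)⁻¹ *
        ((List.zipWith (fun f p => f.2 p) Sh P).prod)⁻¹ := by
    intro Sh hl hf
    set Z : List (O Q × O Q) := List.zipWith (fun f p => (f.1 p, f.2 p)) Sh P with hZ
    have e1 : List.zipWith (fun f p => f.1 p) Sh P = Z.map Prod.fst := by
      rw [hZ, List.map_zipWith]
    have e2 : List.zipWith (fun f p => f.2 p) Sh P = Z.map Prod.snd := by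
      rw [hZ, List.map_zipWith]
    rw [e1, e2, com_list]
    · rw [hZ, List.map_zipWith]
      have e3 : List.zipWith (fun f p => f.1 p * f.2 p * (f.1 p)⁻¹ * (f.2 p)⁻¹) Sh P = P.map r := by
        refine List.ext_getElem (by simp [hl]) fun i h1 h2 => ?_
        rw [List.getElem_zipWith, List.getElem_map]
        have hi : i < P.length := by simpa using h2
        obtain ⟨x1, x2, x3⟩ := hid _ (List.getElem_mem hi)
        rcases hf _ (List.getElem_mem (show i < Sh.length by omega)) with e | e | e <;> rw [e]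
        · exact x1
        · exact x2
        · exact x3
      rw [e3, hg1, ← hP, hflat P]
    · rw [hZ, List.pairwise_iff_getElem]
      intro i j hi hj hij
      simp only [List.getElem_zipWith]
      have hi' : i < P.length := by simp at hi; omega
      have hj' : j < P.length := by simp at hj; omega
      obtain ⟨c1, c2, c3, c4⟩ := List.pairwise_iff_getElem.1 hcross i j hi' hj' hij
      set p := P[i]
      set q := P[j]
      have key : ∀ v w, (v = p.2 ∨ v = p.1 - p.2) → (w = q.2 ∨ w = q.1 - q.2) →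
          Commute (rO Q v) (rO Q w) := fun v w hv hw => rO_comm (by
        rcases hv with rfl | rfl <;> rcases hw with rfl | rfl <;>
          simp only [polar_sub_left, polar_sub_right, c1, c2, c3, c4, sub_zero])
      have k1 : Commute (Rf p) (Rf q) := key _ _ (Or.inl rfl) (Or.inl rfl)
      have k2 : Commute (Rf p) (Rd q) := key _ _ (Or.inl rfl) (Or.inr rfl)
      have k3 : Commute (Rd p) (Rf q) := key _ _ (Or.inr rfl) (Or.inl rfl)
      have k4 : Commute (Rd p) (Rd q) := key _ _ (Or.inr rfl) (Or.inr rfl)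
      have k5 : Commute (Rf p) (J q) := k2.mul_right k1
      have k6 : Commute (Rd p) (J q) := k4.mul_right k3
      have k7 : Commute (J p) (Rf q) := k3.mul_left k1
      have k8 : Commute (J p) (Rd q) := k4.mul_left k2
      have k9 : Commute (J p) (J q) := k6.mul_left k5
      rcases hf _ (List.getElem_mem (show i < Sh.length by omega)) with e | e | e <;>
        rcases hf _ (List.getElem_mem (show j < Sh.length by omega)) with e' | e' | e' <;>
        rw [e, e'] <;> exact ⟨by assumption, by assumption, by assumption, by assumption⟩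
  have hcharJ : ∀ (χ : O Q →* ℤˣ) (T : List (V × V)) (f : V × V → O Q) (c : ℤˣ),
      (∀ p ∈ T, χ (f p) = c) → χ (T.map f).prod = c ^ T.length := fun χ T f c h => by
    rw [map_list_prod, List.map_map, List.eq_replicate_iff.2 ⟨(List.length_map (f := χ ∘ f) (as := T)),
      fun x hx => by obtain ⟨p, hp, rfl⟩ := List.mem_map.1 hx; exact h p hp⟩, List.prod_replicate]
  have hsq : ∀ (c : ℤˣ) (m : ℕ), Even m → c ^ m = 1 := fun c m ⟨j, hj⟩ => by
    rw [hj, ← two_mul, pow_mul, Int.units_sq, one_pow]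
  have hrep : ∀ (f : (V × V → O Q) × (V × V → O Q)) (T : List (V × V)),
      List.zipWith (fun f p => f.1 p) (List.replicate T.length f) T = T.map f.1 ∧
      List.zipWith (fun f p => f.2 p) (List.replicate T.length f) T = T.map f.2 := fun f T => by
    induction T with
    | nil => simp
    | cons p t ih => simp [List.replicate_succ, ih.1, ih.2]
  rcases Nat.even_or_odd n with hev | hodd
  · have h := hshape (List.replicate P.length (J, Rf)) (by simp)
      (fun f hf => Or.inl (List.eq_of_mem_replicate hf))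
    rw [(hrep _ P).1, (hrep _ P).2] at h
    refine ⟨_, (mem_commutator_iff hQ h2 _).2 ⟨?_, ?_⟩, _, (mem_commutator_iff hQ h2 _).2 ⟨?_, ?_⟩, h⟩
    · rw [hcharJ _ P J 1 fun p hp => (hval p hp).1.2.2, one_pow]
    · rw [hcharJ _ P J σ2 fun p hp => (hval p hp).2.2.2, hsq _ _ (hPl.symm ▸ hev)]
    · rw [hcharJ _ P Rf (-1) fun p hp => (hval p hp).1.2.1, hsq _ _ (hPl.symm ▸ hev)]
    · rw [hcharJ _ P Rf 1 fun p hp => (hval p hp).2.2.1, one_pow]
  · rcases P with _ | ⟨p1, _ | ⟨p2, _ | ⟨p3, t⟩⟩⟩
    · simp at hPl; omega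
    · simp at hPl; omega
    · obtain ⟨j, hj⟩ := hodd; simp at hPl; omega
    · have ht : Even t.length := by
        obtain ⟨j, hj⟩ := hodd
        exact ⟨j - 1, by simp at hPl; omega⟩
      have h := hshape ((Rd, J) :: (J, Rf) :: (Rf, Rd) :: List.replicate t.length (J, Rf)) (by simp)
        (fun f hf => by
          simp only [List.mem_cons] at hf
          rcases hf with e | e | e | e
          · exact Or.inr (Or.inl e)
          · exact Or.inl e
          · exact Or.inr (Or.inr e)
          · exact Or.inl (List.eq_of_mem_replicate e))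
      simp only [List.zipWith_cons_cons, (hrep _ t).1, (hrep _ t).2, List.prod_cons] at h
      obtain ⟨⟨a1, a2, a3⟩, ⟨b1, b2, b3⟩⟩ := hval p1 (by simp)
      obtain ⟨⟨c1, c2, c3⟩, ⟨d1, d2, d3⟩⟩ := hval p2 (by simp)
      obtain ⟨⟨e1, e2, e3⟩, ⟨f1, f2, f3⟩⟩ := hval p3 (by simp)
      have hm : ∀ p ∈ t, p ∈ p1 :: p2 :: p3 :: t := fun p hp => by simp [hp]
      refine ⟨_, (mem_commutator_iff hQ h2 _).2 ⟨?_, ?_⟩, _,
        (mem_commutator_iff hQ h2 _).2 ⟨?_, ?_⟩, h⟩
      · simp only [map_mul, hcharJ _ t J 1 fun p hp => (hval p (hm p hp)).1.2.2, a1, c3, e2, one_pow]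
        decide
      · simp only [map_mul, hcharJ _ t J σ2 fun p hp => (hval p (hm p hp)).2.2.2, hsq _ _ ht, b1, d3,
          f2, mul_one]
        exact Int.units_mul_self _
      · simp only [map_mul, hcharJ _ t Rf (-1) fun p hp => (hval p (hm p hp)).1.2.1, hsq _ _ ht, a3,
          c2, e1]
        decide
      · simp only [map_mul, hcharJ _ t Rf 1 fun p hp => (hval p (hm p hp)).2.2.1, one_pow, b3, d2, f1,
          mul_one, one_mul]
        exact Int.units_mul_self _

end Cfsg.Agent.H58.OreEven
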