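import Cfsg.Agent.H58.OreOmega.MatMain

/-!
The matrix certificate used for `Ω±(2n, q)`: similar to a `T` with `T X` similar to a good `X`.
-/

set_option autoImplicit false
set_option linter.unusedSectionVars false

namespace Cfsg.Agent.H58.OreEven

open Matrix Polynomial
open Cfsg.Agent.H60.Ore
open Cfsg.Agent.H58.OreOmega (LC Good MM Reg Reg.inv)

variable {F : Type*} [Field F] [Fintype F]
variable {ι κ : Type} [Fintype ι] [DecidableEq ι] [Fintype κ] [DecidableEq κ]

/-- `D` is similar to a `T` with `T X` similar to `X`, for an `X` of square determinant, of full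
centralizer determinant, all of whose cospectral matrices are regular. -/
def Cert (n : ℕ) (D : Matrix ι ι F) : Prop :=
  ∃ T X : MM n F, Sim D T ∧ (∀ A : (MM n F)ˣ, A.1.charpoly = X.charpoly → Reg A) ∧ X.det ≠ 0 ∧
    IsSquare X.det ∧ CFull X ∧ Sim (T * X) X

theorem Cert.of_sim {n : ℕ} {A : Matrix ι ι F} {B : Matrix κ κ F} (h : Sim A B) (hB : Cert n B) :
    Cert n A := by
  obtain ⟨T, X, hs, hx⟩ := hB
  exact ⟨T, X, h.trans hs, hx⟩

theorem Cert.of_lc {n : ℕ} (hn : 3 ≤ n) {D : Matrix ι ι F} (h : LC n D) : Cert n D := by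
  obtain ⟨T, t, f, hs, hg, hH, hchi⟩ := h
  have hcX : (compOf n f).charpoly = f := charpoly_compOf hg.1 hg.2.1
  refine ⟨T, compOf n f, hs, fun A hA => hg.reg (by omega) A (hA.trans hcX), ?_, ?_,
    hg.2.1 ▸ cfull_compOf hg.1 hg.2.2.1, hH.cyc.sim (cyc_compOf n f) (hchi.trans hcX.symm)⟩
  · rw [det_compOf hg.1 hg.2.1]
    exact mul_ne_zero (pow_ne_zero _ (neg_ne_zero.2 one_ne_zero)) (hg.coeff_zero_ne (by omega))
  · rw [det_compOf hg.1 hg.2.1]; exact hg.2.2.2.1

theorem Cert.exists_com {n : ℕ} {D : MM n F} (h : Cert n D) :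
    ∃ A B : GL (Fin n) F, Reg A ∧ IsSquare A.1.det ∧ IsSquare B.1.det ∧
      D = (A * B * A⁻¹ * B⁻¹ : GL (Fin n) F).1 := by
  obtain ⟨T, X₀, ⟨P, Q, h1, h2, h3⟩, hreg, hX0, hXs, hC, hsim⟩ := h
  obtain ⟨a, ha, hab⟩ := exists_left hsim hC 1 one_ne_zero
  have hD : D = P * T * Q := by rw [← h3, Matrix.mul_assoc, h1, Matrix.mul_one]
  have hdX : (P * X₀ * Q).det = X₀.det := Matrix.det_conj_of_mul_eq_one h1 h2
  have hda : (P * a * Q).det = 1 := by rw [Matrix.det_conj_of_mul_eq_one h1 h2, ha]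
  let X : GL (Fin n) F := GeneralLinearGroup.mkOfDetNeZero (P * X₀ * Q) (by rwa [hdX])
  let c : GL (Fin n) F := GeneralLinearGroup.mkOfDetNeZero (P * a * Q)
    (by rw [hda]; exact one_ne_zero)
  have key : (c * X : GL (Fin n) F).1 = D * X.1 * c.1 := by
    show P * a * Q * (P * X₀ * Q) = D * (P * X₀ * Q) * (P * a * Q)
    have e : ∀ x y : MM n F, P * x * Q * (P * y * Q) = P * (x * y) * Q := fun x y => by
      simp only [Matrix.mul_assoc]
      rw [← Matrix.mul_assoc Q P, h2, Matrix.one_mul]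
    rw [hD, e, e, e, hab]
  refine ⟨X⁻¹, X * c * X⁻¹, Reg.inv (hreg X ?_), ?_, ?_, ?_⟩
  · show (P * X₀ * Q).charpoly = X₀.charpoly
    exact Sim.charpoly_eq ⟨P, Q, h1, h2, by
      rw [Matrix.mul_assoc (P * X₀), h2, Matrix.mul_one]⟩
  · rw [Matrix.coe_units_inv, Matrix.det_nonsing_inv, Ring.inverse_eq_inv']
    exact (show IsSquare (P * X₀ * Q).det by rwa [hdX]).inv
  · have : (X * c * X⁻¹ : GL (Fin n) F).1.det = 1 := by
      rw [Units.val_mul, Units.val_mul]
      exact (Matrix.det_units_conj X c.1).trans hda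
    rw [this]; exact IsSquare.one
  · rw [show X⁻¹ * (X * c * X⁻¹) * X⁻¹⁻¹ * (X * c * X⁻¹)⁻¹ = c * X * c⁻¹ * X⁻¹ by group,
      Units.val_mul, Units.val_mul, key, Matrix.mul_assoc (D * X.1) c.1, Units.mul_inv,
      Matrix.mul_one, Matrix.mul_assoc, Units.mul_inv, Matrix.mul_one]

/-- With two elements every matrix has full centralizer determinant. -/
theorem cfull_two (hq : Fintype.card F = 2) (A : Matrix ι ι F) : CFull A := fun d hd => by
  refine ⟨1, by rw [Matrix.one_mul, Matrix.mul_one], ?_⟩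
  have := FiniteField.pow_card_sub_one_eq_one d hd
  rw [hq, pow_one] at this
  rw [det_one, this]

end Cfsg.Agent.H58.OreEven
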