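import Cfsg.Agent.H58.OreOmega.MatM0

/-!
Characteristic two: a cyclic matrix times a conjugate of a given cyclic matrix can again have the
characteristic polynomial of the latter, as soon as two linear conditions on the coefficients hold.
-/

set_option autoImplicit false
set_option linter.unusedSectionVars false
set_option linter.unusedSimpArgs false

namespace Cfsg.Agent.H58.OreEven

open Matrix Polynomial
open Cfsg.Agent.H60.Ore
open Cfsg.Agent.H58.OreOmega (Up en en_of pis pis_succ pis_zero rpol rc rc_apply charpoly_rc phi sig shiftP)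

variable {F : Type*} [Field F] [CharP F 2] {L : ℕ}

/-- The second to last column of the intertwiner. -/
def colA (L : ℕ) (w : ℕ → F) (i : ℕ) : F :=
  (if i = L + 2 then 1 else 0) + (if 1 ≤ i then w (i - 1) else 0)

/-- The last column of the intertwiner. -/
def colB (L : ℕ) (w : ℕ → F) (v : F) (i : ℕ) : F :=
  (if i = L + 3 then 1 else 0) + (if i = L + 2 then v else 0) + (if 2 ≤ i then w (i - 2) else 0) +
    (w L + v) * (if 1 ≤ i then w (i - 1) else 0)

/-- The intertwiner. -/
def rtwo (L : ℕ) (w : ℕ → F) (v : F) : Matrix (Fin (L + 4)) (Fin (L + 4)) F := fun i j =>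
  if j.val ≤ L + 1 then (if i = j then 1 else 0)
  else if j.val = L + 2 then colA L w i.val else colB L w v i.val

/-- Unit upper triangular beyond the first column. -/
def utwo (L : ℕ) (c : Fin (L + 4) → F) (w : ℕ → F) (v : F) :
    Matrix (Fin (L + 4)) (Fin (L + 4)) F := fun i j =>
  if j.val = 0 then c i
  else (if i = j then 1 else 0) + (if j.val = i.val + 1 then 1 else 0) +
    (if j.val = L + 2 then w i.val else 0) + (if j.val = L + 3 ∧ i.val = L + 1 then v else 0)

variable {w : ℕ → F} {v : F}

theorem rtwo_upper (hw : ∀ i, L < i → w i = 0) : (rtwo L w v).IsUpperTriangular := by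
  intro i j h
  have h' : j.val < i.val := h
  have hi := i.isLt
  rcases (show j.val ≤ L + 1 ∨ (j.val = L + 2 ∧ i.val = L + 3) by omega) with h1 | ⟨h1, h2⟩
  · rw [rtwo, if_pos h1, if_neg (fun e => by rw [e] at h'; omega)]
  · rw [rtwo, if_neg (by omega), if_pos h1, colA, if_neg (by omega), if_pos (by omega),
      hw _ (by omega), add_zero]

theorem rtwo_diag (hw : ∀ i, L < i → w i = 0) (j : Fin (L + 4)) : rtwo L w v j j = 1 := by
  have hj := j.isLt
  rcases (show j.val ≤ L + 1 ∨ j.val = L + 2 ∨ j.val = L + 3 by omega) with h1 | h1 | h1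
  · rw [rtwo, if_pos h1, if_pos rfl]
  · rw [rtwo, if_neg (by omega), if_pos h1, colA, if_pos h1, if_pos (by omega), hw _ (by omega),
      add_zero]
  · rw [rtwo, if_neg (by omega), if_neg (by omega), colB, if_pos h1, if_neg (by omega),
      if_pos (by omega), if_pos (by omega), hw (j.val - 2) (by omega), hw (j.val - 1) (by omega)]
    simp

theorem rtwo_zero (hw : ∀ i, L < i → w i = 0) (i : Fin (L + 4)) :
    rtwo L w v i 0 = if i = 0 then 1 else 0 := by
  rw [rtwo, if_pos (by simp)]

theorem utwo_mulVec (hw : ∀ i, L < i → w i = 0) (c : Fin (L + 4) → F) (x : ℕ → F) (hx : x 0 = 0)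
    (hx' : x (L + 4) = 0) (i : Fin (L + 4)) :
    (utwo L c w v *ᵥ fun j => x j.val) i =
      x i.val + x (i.val + 1) + w i.val * x (L + 2) + if i.val = L + 1 then v * x (L + 3) else 0 := by
  have hterm : ∀ j : Fin (L + 4), utwo L c w v i j * x j.val =
      ((if j = i then x i.val else 0) + (if j.val = i.val + 1 then x (i.val + 1) else 0)) +
        ((if j = (⟨L + 2, by omega⟩ : Fin (L + 4)) then w i.val * x (L + 2) else 0) +
          (if j = (⟨L + 3, by omega⟩ : Fin (L + 4)) then
            (if i.val = L + 1 then v * x (L + 3) else 0) else 0)) := by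
    intro j
    by_cases hj0 : j.val = 0
    · rw [if_neg (show ¬ j.val = i.val + 1 by omega),
        if_neg (show ¬ j = (⟨L + 2, _⟩ : Fin (L + 4)) from fun h => by rw [h] at hj0; simp at hj0),
        if_neg (show ¬ j = (⟨L + 3, _⟩ : Fin (L + 4)) from fun h => by rw [h] at hj0; simp at hj0),
        hj0, hx, mul_zero]
      split_ifs with h
      · subst h; rw [hj0, hx]; ring
      · ring
    rw [utwo, if_neg hj0]
    simp only [Fin.ext_iff, add_mul, ite_mul, zero_mul, one_mul]
    rw [add_assoc]
    refine congrArg₂ (· + ·) (congrArg₂ (· + ·) ?_ ?_) (congrArg₂ (· + ·) ?_ ?_)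
    · by_cases h : i.val = j.val
      · rw [if_pos h, if_pos h.symm, h]
      · rw [if_neg h, if_neg (Ne.symm h)]
    · by_cases h : j.val = i.val + 1
      · rw [if_pos h, if_pos h, h]
      · rw [if_neg h, if_neg h]
    · by_cases h : j.val = L + 2
      · rw [if_pos h, if_pos h, h]
      · rw [if_neg h, if_neg h]
    · by_cases h : j.val = L + 3
      · simp [h]
      · simp [h]
  rw [Matrix.mulVec, dotProduct, Finset.sum_congr rfl fun j _ => hterm j, Finset.sum_add_distrib,
    Finset.sum_add_distrib, Finset.sum_add_distrib, Finset.sum_ite_eq', Finset.sum_ite_eq',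
    Finset.sum_ite_eq']
  simp only [Finset.mem_univ, if_true]
  have hs : ∑ j : Fin (L + 4), (if j.val = i.val + 1 then x (i.val + 1) else 0) = x (i.val + 1) := by
    by_cases h : i.val + 1 < L + 4
    · rw [Finset.sum_eq_single (⟨i.val + 1, h⟩ : Fin (L + 4))]
      · simp
      · intro b _ hb; rw [if_neg fun e => hb (Fin.ext e)]
      · simp
    · have := i.isLt
      rw [Finset.sum_eq_zero fun j _ => if_neg (by omega), show i.val + 1 = L + 4 by omega, hx']
  rw [hs]
  ring

theorem utwo_colA (hw : ∀ i, L < i → w i = 0) (c : Fin (L + 4) → F) (i : Fin (L + 4)) :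
    (utwo L c w v *ᵥ fun j => colA L w j.val) i =
      (if i.val = L + 1 then 1 else 0) + colA L w i.val := by
  have hA2 : colA L w (L + 2) = 1 := by simp [colA, hw (L + 1) (by omega)]
  have hA3 : colA L w (L + 3) = 0 := by simp [colA, hw (L + 2) (by omega)]
  have hA1 : colA L w (i.val + 1) = (if i.val = L + 1 then 1 else 0) + w i.val := by
    simp [colA]
  rw [utwo_mulVec hw c _ (by simp [colA]) (by simp [colA, hw (L + 3) (by omega)]), hA2, hA3, hA1]
  linear_combination (norm := (ring_nf; simp [CharTwo.two_eq_zero])) (0 : F) = 0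

theorem utwo_colB (hw : ∀ i, L < i → w i = 0) (c : Fin (L + 4) → F) (i : Fin (L + 4)) :
    (utwo L c w v *ᵥ fun j => colB L w v j.val) i = colA L w i.val + colB L w v i.val := by
  have hB3 : colB L w v (L + 3) = 1 := by
    simp [colB, hw (L + 1) (by omega), hw (L + 2) (by omega)]
  have hB2 : colB L w v (L + 2) = v + w L := by simp [colB, hw (L + 1) (by omega)]
  have hB4 : colB L w v (L + 4) = 0 := by
    simp [colB, hw (L + 2) (by omega), hw (L + 3) (by omega)]
  have hB1 : colB L w v (i.val + 1) = (if i.val = L + 2 then 1 else 0) +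
      (if i.val = L + 1 then v else 0) + (if 1 ≤ i.val then w (i.val - 1) else 0) +
        (w L + v) * w i.val := by
    simp [colB]
  rw [utwo_mulVec hw c _ (by simp [colB]) hB4, hB3, hB2, hB1]
  simp only [colA]
  linear_combination (norm := (ring_nf; simp [CharTwo.two_eq_zero])) (0 : F) = 0

/-- The first column making `utwo` similar to the companion matrix of `g`. -/
noncomputable def ctwo (L : ℕ) (g : F[X]) (w : ℕ → F) (v : F) : Fin (L + 4) → F :=
  rtwo L w v *ᵥ fun j => rc (L + 4) g 1 j 0

theorem sim_utwo (hw : ∀ i, L < i → w i = 0) (g : F[X]) :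
    Sim (rc (L + 4) g 1) (utwo L (ctwo L g w v) w v) := by
  set R := rtwo L w v with hR
  have hu : IsUnit R.det := by
    rw [det_of_isUpperTriangular (rtwo_upper hw), isUnit_iff_ne_zero, Finset.prod_ne_zero_iff]
    intro j _
    rw [rtwo_diag hw]; exact one_ne_zero
  refine Sim.symm ⟨R, R⁻¹, mul_nonsing_inv _ hu, nonsing_inv_mul _ hu, ?_⟩
  ext i j
  rcases Nat.eq_zero_or_pos j.val with hj | hj
  · obtain rfl : j = 0 := Fin.ext hj
    rw [Matrix.mul_apply, Matrix.mul_apply, Finset.sum_eq_single (0 : Fin (L + 4))]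
    · have e0 : R 0 0 = 1 := by rw [hR]; exact rtwo_diag hw 0
      rw [e0, mul_one, show utwo L (ctwo L g w v) w v i 0 = ctwo L g w v i from if_pos rfl, hR]
      rfl
    · intro b _ hb
      have e0 : R b 0 = 0 := by rw [hR]; exact (rtwo_zero hw b).trans (if_neg hb)
      rw [e0, mul_zero]
    · simp
  · have hjl := j.isLt
    have hrc : (R * rc (L + 4) g 1) i j =
        R i ⟨j.val - 1, by omega⟩ + R i j := by
      rw [Matrix.mul_apply]
      have : ∀ k, R i k * rc (L + 4) g 1 k j =
          (if k = (⟨j.val - 1, by omega⟩ : Fin (L + 4)) then R i k else 0) +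
            (if k = j then R i k else 0) := fun k => by
        rw [rc_apply, if_neg (show ¬ j.val = 0 by omega), zero_add, mul_add, mul_ite, mul_ite,
          mul_one, mul_zero]
        refine congrArg₂ (· + ·) (if_congr ?_ rfl rfl) rfl
        simp only [Fin.ext_iff]; omega
      rw [Finset.sum_congr rfl fun k _ => this k, Finset.sum_add_distrib, Finset.sum_ite_eq',
        Finset.sum_ite_eq', if_pos (Finset.mem_univ _), if_pos (Finset.mem_univ _)]
    rw [hrc]
    have hcol : (utwo L (ctwo L g w v) w v * R) i j =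
        (utwo L (ctwo L g w v) w v *ᵥ fun k => R k j) i := rfl
    rw [hcol]
    rcases lt_trichotomy j.val (L + 2) with h | h | h
    · have e : (fun k => R k j) = Pi.single j 1 := by
        funext k; rw [hR, Pi.single_apply]; exact if_pos (by omega)
      have e1 : R i ⟨j.val - 1, by omega⟩ = if j.val = i.val + 1 then 1 else 0 := by
        rw [hR, rtwo, if_pos (show j.val - 1 ≤ L + 1 by omega)]
        refine if_congr ?_ rfl rfl
        simp only [Fin.ext_iff]; omega
      have e2 : R i j = if i = j then 1 else 0 := by rw [hR]; exact if_pos (by omega)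
      rw [e, mulVec_single_one, Matrix.col_apply, e1, e2]
      rw [utwo, if_neg (by omega), if_neg (show ¬ j.val = L + 2 by omega),
        if_neg (fun h' : j.val = L + 3 ∧ i.val = L + 1 => by omega), add_zero, add_zero, add_comm]
    · have e : (fun k : Fin (L + 4) => R k j) = fun k => colA L w k.val := by
        funext k; rw [hR, rtwo, if_neg (by omega), if_pos h]
      have e1 : R i ⟨j.val - 1, by omega⟩ = if i.val = L + 1 then 1 else 0 := by
        rw [hR, rtwo, if_pos (show j.val - 1 ≤ L + 1 by omega)]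
        refine if_congr ?_ rfl rfl
        simp only [Fin.ext_iff]; omega
      have e2 : R i j = colA L w i.val := congrFun e i
      rw [e, utwo_colA hw, e1, e2]
    · have e : (fun k : Fin (L + 4) => R k j) = fun k => colB L w v k.val := by
        funext k; rw [hR, rtwo, if_neg (by omega), if_neg (by omega)]
      have e1 : R i ⟨j.val - 1, by omega⟩ = colA L w i.val := by
        rw [hR, rtwo, if_neg (show ¬ j.val - 1 ≤ L + 1 by omega),
          if_pos (show j.val - 1 = L + 2 by omega)]
      have e2 : R i j = colB L w v i.val := congrFun e i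
      rw [e, utwo_colB hw, e1, e2]

theorem up_utwo (hw : ∀ i, L < i → w i = 0) (c : Fin (L + 4) → F) : Up (utwo L c w v) := by
  intro i j hj
  have hi := i.isLt
  refine ⟨fun hij => ?_, ?_⟩
  · unfold utwo
    rw [if_neg (by omega), if_neg (fun h => by rw [h] at hij; omega), if_neg (by omega),
      if_neg (fun h : j.val = L + 3 ∧ i.val = L + 1 => by omega)]
    split_ifs
    · rw [hw _ (by omega)]; ring
    · ring
  · unfold utwo
    rw [if_neg (by omega), if_pos rfl, if_neg (by omega),
      if_neg (fun h : j.val = L + 3 ∧ j.val = L + 1 => by omega)]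
    split_ifs
    · rw [hw _ (by omega)]; simp
    · simp

section Rpol

variable (hw : ∀ i, L < i → w i = 0) (c : Fin (L + 4) → F)

theorem en_utwo {i j : ℕ} (hi : i < L + 4) (hj : j < L + 4) (hj0 : 0 < j) :
    en (utwo L c w v) i j = (if i = j then 1 else 0) + (if j = i + 1 then 1 else 0) +
      (if j = L + 2 then w i else 0) + (if j = L + 3 ∧ i = L + 1 then v else 0) := by
  rw [en_of hi hj, utwo, if_neg (by simp only; omega)]
  simp only [Fin.ext_iff]

theorem pis_low : ∀ j, j ≤ L + 1 → (pis (utwo L c w v) j).comp (X + 1) = X ^ j := by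
  intro j
  induction j with
  | zero => intro; rw [pis_zero, one_comp, pow_zero]
  | succ j ih =>
    intro hj
    have ed : en (utwo L c w v) (j + 1) (j + 1) = 1 := by
      rw [en_utwo c (by omega) (by omega) (Nat.succ_pos _), if_pos rfl, if_neg (by omega),
        if_neg (by omega), if_neg (fun h : _ ∧ _ => by omega), add_zero, add_zero, add_zero]
    rw [pis_succ, ed, inv_one, C_1, one_mul, Finset.sum_range_succ, Finset.sum_eq_zero fun i hi => by
      rw [Finset.mem_range] at hi
      rw [en_utwo c (by omega) (by omega) (Nat.succ_pos _), if_neg (by omega), if_neg (by omega),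
        if_neg (by omega), if_neg (fun h : _ ∧ _ => by omega)]
      simp]
    rw [en_utwo c (by omega) (by omega) (Nat.succ_pos _), if_neg (by omega), if_pos rfl,
      if_neg (by omega), if_neg (fun h : _ ∧ _ => by omega)]
    simp only [zero_add, add_zero, C_1, one_mul, sub_comp, mul_comp, X_comp, ih (by omega)]
    ring

include hw

theorem pis_two : (pis (utwo L c w v) (L + 2)).comp (X + 1) =
    X ^ (L + 2) - ∑ i ∈ Finset.range (L + 1), C (w i) * X ^ i := by
  have ed : en (utwo L c w v) (L + 2) (L + 2) = 1 := by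
    rw [en_utwo c (by omega) (by omega) (Nat.succ_pos _), if_pos rfl, if_neg (by omega), if_pos rfl,
      if_neg (fun h : _ ∧ _ => by omega), hw _ (by omega)]
    simp
  have es : ∀ i ∈ Finset.range (L + 2),
      ((C (en (utwo L c w v) i (L + 2)) * pis (utwo L c w v) i).comp (X + 1) : F[X]) =
        (if i = L + 1 then X ^ i else 0) + C (w i) * X ^ i := fun i hi => by
    rw [Finset.mem_range] at hi
    rw [mul_comp, C_comp, pis_low c i (by omega), en_utwo c (by omega) (by omega) (Nat.succ_pos _),
      if_neg (by omega), if_pos rfl, if_neg (fun h : _ ∧ _ => by omega)]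
    split_ifs <;> first | (exfalso; omega) | simp [add_mul]
  rw [show pis (utwo L c w v) (L + 2) = pis (utwo L c w v) (L + 1 + 1) from rfl, pis_succ, ed,
    inv_one, C_1, one_mul, sub_comp, mul_comp, X_comp, pis_low c (L + 1) le_rfl,
    sum_comp, Finset.sum_congr rfl es, Finset.sum_add_distrib, Finset.sum_ite_eq',
    if_pos (Finset.mem_range.2 (by omega)), Finset.sum_range_succ _ (L + 1), hw (L + 1) (by omega)]
  simp
  ring

theorem pis_three : (pis (utwo L c w v) (L + 3)).comp (X + 1) =
    X * (pis (utwo L c w v) (L + 2)).comp (X + 1) - C v * X ^ (L + 1) := by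
  have ed : en (utwo L c w v) (L + 3) (L + 3) = 1 := by
    rw [en_utwo c (by omega) (by omega) (Nat.succ_pos _), if_pos rfl, if_neg (by omega),
      if_neg (by omega), if_neg (fun h : _ ∧ _ => by omega)]
    simp
  rw [show pis (utwo L c w v) (L + 3) = pis (utwo L c w v) (L + 2 + 1) from rfl, pis_succ, ed,
    inv_one, C_1, one_mul, Finset.sum_range_succ, Finset.sum_range_succ,
    Finset.sum_eq_zero fun i hi => by
      rw [Finset.mem_range] at hi
      rw [en_utwo c (by omega) (by omega) (Nat.succ_pos _), if_neg (by omega), if_neg (by omega),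
        if_neg (by omega), if_neg (fun h : _ ∧ _ => by omega)]
      simp]
  rw [en_utwo c (by omega) (by omega) (Nat.succ_pos _),
    en_utwo c (by omega) (by omega) (Nat.succ_pos _)]
  simp [add_comp, sub_comp, mul_comp, pis_low c (L + 1) le_rfl]
  ring

end Rpol

/-- The main lemma. -/
theorem exists_utwo {P g : F[X]} (hP : P.Monic) (hPd : P.natDegree = L + 4) (hP0 : P.coeff 0 = 1)
    (hg : g.Monic) (hgd : g.natDegree = L + 4) (hg0 : g.eval 0 = 1) (hg1 : g.eval 1 = 1)
    (hc1 : (g.comp (X + 1)).coeff (L + 3) = P.coeff (L + 3))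
    (hc2 : (g.comp (X + 1)).coeff (L + 2) =
      (g.comp (X + 1)).coeff 1 + P.coeff (L + 2) + P.coeff (L + 3)) :
    ∃ U : Matrix (Fin (L + 4)) (Fin (L + 4)) F, Sim (rc (L + 4) g 1) U ∧
      Hess (U * compOf (L + 4) P) ∧ (U * compOf (L + 4) P).charpoly = g := by
  classical
  set G := g.comp (X + 1) with hG
  have hGm : G.Monic := by simpa [hG] using hg.comp_X_add_C (1 : F)
  have hGd : G.natDegree = L + 4 := by
    rw [hG, natDegree_comp, show (X + 1 : F[X]) = X + C 1 by simp, natDegree_X_add_C, mul_one, hgd]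
  have hG0 : G.coeff 0 = 1 := by
    rw [coeff_zero_eq_eval_zero, hG, eval_comp]; simpa using hg1
  set Gr : F[X] := ∑ j ∈ Finset.range (L + 4), C (G.coeff (L + 3 - j)) * X ^ j with hGr
  set hp : F[X] := ∑ j ∈ Finset.range (L + 4), C (P.coeff (j + 1)) * X ^ j with hhp
  set E : F[X] := G + (X + 1) * hp + 1 + Gr with hE
  have cGr : ∀ k, Gr.coeff k = if k < L + 4 then G.coeff (L + 3 - k) else 0 := fun k => by
    simp [hGr, coeff_X_pow, Finset.sum_ite_eq, Finset.mem_range]
  have chp : ∀ k, hp.coeff k = if k < L + 4 then P.coeff (k + 1) else 0 := fun k => by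
    simp [hhp, coeff_X_pow, Finset.sum_ite_eq, Finset.mem_range]
  have cE : ∀ k, E.coeff (k + 1) = G.coeff (k + 1) + hp.coeff k + hp.coeff (k + 1) + Gr.coeff (k + 1) :=
    fun k => by
      rw [hE, coeff_add, coeff_add, coeff_add, add_mul, one_mul, coeff_add, coeff_X_mul, coeff_one,
        if_neg (Nat.succ_ne_zero k)]
      ring
  have hPn : P.coeff (L + 4) = 1 := hPd ▸ hP.coeff_natDegree
  have hGn : G.coeff (L + 4) = 1 := hGd ▸ hGm.coeff_natDegree
  have hEd : E.natDegree ≤ L + 1 := by
    rw [natDegree_le_iff_coeff_eq_zero]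
    intro k hk
    obtain ⟨k, rfl⟩ : ∃ k', k = k' + 1 := ⟨k - 1, by omega⟩
    rw [cE, chp, chp, cGr]
    rcases (show k = L + 1 ∨ k = L + 2 ∨ k = L + 3 ∨ L + 4 ≤ k by omega) with rfl | rfl | rfl | h
    · simp [hc2, show L + 3 - (L + 2) = 1 by omega]
      linear_combination (norm := (ring_nf; simp [CharTwo.two_eq_zero])) (0 : F) = 0
    · simp [hc1, hPn, hG0]
      linear_combination (norm := (ring_nf; simp [CharTwo.two_eq_zero])) (0 : F) = 0
    · simp [hGn, hPn]
      linear_combination (norm := (ring_nf; simp [CharTwo.two_eq_zero])) (0 : F) = 0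
    · rw [coeff_eq_zero_of_natDegree_lt (show G.natDegree < k + 1 by omega), if_neg (by omega),
        if_neg (by omega), if_neg (by omega)]
      simp
  have hE1 : E.eval 1 = 0 := by
    have hG1 : G.eval 1 = 1 := by
      rw [hG, eval_comp]; simpa [CharTwo.add_self_eq_zero] using hg0
    have hGr1 : Gr.eval 1 = G.eval 1 - 1 := by
      rw [hGr, eval_finsetSum, eval_eq_sum_range, hGd, Finset.sum_range_succ _ (L + 4), hGn]
      simp only [eval_mul, eval_C, eval_pow, eval_X, one_pow, mul_one, add_sub_cancel_right]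
      exact Finset.sum_range_reflect (fun j => G.coeff j) (L + 4)
    rw [hE, eval_add, eval_add, eval_add, eval_mul, hGr1, hG1]
    simp [CharTwo.add_self_eq_zero]
  set W : F[X] := E /ₘ (X - C 1) with hW
  have hWE : (X + 1) * W = E := by
    have h := mul_divByMonic_eq_iff_isRoot.2 (show E.IsRoot 1 from hE1)
    rw [show (X + 1 : F[X]) = X - C 1 by rw [C_1, CharTwo.sub_eq_add]]
    exact h
  set w : ℕ → F := fun i => W.coeff i with hwdef
  have hWd : W.natDegree ≤ L := by
    rw [hW, natDegree_divByMonic _ (monic_X_sub_C 1), natDegree_X_sub_C]; omega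
  have hw : ∀ i, L < i → w i = 0 := fun i hi => coeff_eq_zero_of_natDegree_lt (hWd.trans_lt hi)
  set v : F := 1 + P.coeff (L + 3) + w L + G.coeff 1 with hv
  set c := ctwo L g w v with hc
  set U := utwo L c w v with hU
  have hUp : Up U := up_utwo hw c
  refine ⟨U, sim_utwo hw g, hUp.hess P, ?_⟩
  have hWs : W = ∑ i ∈ Finset.range (L + 1), C (w i) * X ^ i := by
    simpa [hwdef, C_mul_X_pow_eq_monomial] using W.as_sum_range' (L + 1) (by omega)
  set q : ℕ → F[X] := fun j => (pis U j).comp (X + 1) with hq
  have hq0 : ∀ j, j ≤ L + 1 → q j = X ^ j := fun j hj => pis_low c j hj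
  have hq2 : q (L + 2) = X ^ (L + 2) - W := by rw [hWs]; exact pis_two hw c
  have hq3 : q (L + 3) = X * (X ^ (L + 2) - W) - C v * X ^ (L + 1) := by
    rw [← hq2]; exact pis_three hw c
  -- the first column
  have hWshift : ∀ k, k ≤ 2 → ∑ i : Fin (L + 4), C (if k ≤ i.val then w (i.val - k) else 0) * q i.val =
      ∑ i ∈ Finset.range (L + 1), C (w i) * q (i + k) := fun k hk => by
    rw [Fin.sum_univ_eq_sum_range (fun i => C (if k ≤ i then w (i - k) else 0) * q i),
      show L + 4 = k + ((L + 1) + (3 - k)) by omega, Finset.sum_range_add, Finset.sum_range_add,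
      Finset.sum_eq_zero (s := Finset.range k) fun i hi => by
        rw [Finset.mem_range] at hi; rw [if_neg (by omega), C_0, zero_mul],
      Finset.sum_eq_zero (s := Finset.range (3 - k)) fun i hi => by
        rw [if_pos (by omega), hw _ (by omega), C_0, zero_mul], zero_add, add_zero]
    exact Finset.sum_congr rfl fun i _ => by
      rw [if_pos (by omega), Nat.add_sub_cancel_left, add_comm k i]
  have hW1 : ∑ i : Fin (L + 4), C (if 1 ≤ i.val then w (i.val - 1) else 0) * q i.val = X * W := by
    rw [hWshift 1 (by omega), hWs, Finset.mul_sum]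
    refine Finset.sum_congr rfl fun i hi => ?_
    rw [Finset.mem_range] at hi
    rw [hq0 _ (by omega)]; ring
  have hW2 : ∑ i : Fin (L + 4), C (if 2 ≤ i.val then w (i.val - 2) else 0) * q i.val =
      X ^ 2 * W - C (w L) * W := by
    rw [hWshift 2 le_rfl]
    rw [Finset.sum_range_succ, show L + 2 = L + 2 from rfl, hq2]
    conv_rhs => arg 1; rw [hWs, Finset.mul_sum, Finset.sum_range_succ]
    rw [Finset.sum_congr rfl fun i hi => show C (w i) * q (i + 2) = X ^ 2 * (C (w i) * X ^ i) by
      rw [Finset.mem_range] at hi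
      rw [hq0 _ (by omega)]; ring]
    ring
  have hsingle : ∀ (k : ℕ) (a : F), k < L + 4 →
      ∑ i : Fin (L + 4), C (if i.val = k then a else 0) * q i.val = C a * q k := fun k a hk => by
    rw [Finset.sum_eq_single (⟨k, hk⟩ : Fin (L + 4))]
    · simp
    · intro b _ hb; rw [if_neg fun h => hb (Fin.ext h), C_0, zero_mul]
    · simp
  set ψ : Fin (L + 4) → F[X] := fun j => ∑ i, C (rtwo L w v i j) * q i.val with hψ
  have hψlow : ∀ j : Fin (L + 4), j.val ≤ L + 1 → ψ j = X ^ j.val := fun j hj => by
    simp only [hψ, rtwo, if_pos hj]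
    rw [Finset.sum_eq_single j]
    · simp [hq0 _ hj]
    · intro b _ hb; rw [if_neg hb, C_0, zero_mul]
    · simp
  have hψA : ∀ j : Fin (L + 4), j.val = L + 2 → ψ j = (X ^ (L + 2) - W) + X * W := fun j hj => by
    simp only [hψ, rtwo, if_neg (show ¬ j.val ≤ L + 1 by omega), if_pos hj, colA, map_add, add_mul,
      Finset.sum_add_distrib]
    rw [hsingle _ _ (by omega), hW1, hq2, C_1, one_mul]
  have hψB : ∀ j : Fin (L + 4), j.val = L + 3 → ψ j = q (L + 3) + C v * (X ^ (L + 2) - W) +
      (X ^ 2 * W - C (w L) * W) + C (w L + v) * (X * W) := fun j hj => by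
    simp only [hψ, rtwo, if_neg (show ¬ j.val ≤ L + 1 by omega),
      if_neg (show ¬ j.val = L + 2 by omega), colB, map_add, map_mul, add_mul, mul_assoc,
      Finset.sum_add_distrib, ← Finset.mul_sum]
    rw [hsingle _ _ (by omega), hsingle _ _ (by omega), hW1, hW2, hq2, C_1, one_mul]
  set s : Fin (L + 4) → F := fun j => rc (L + 4) g 1 j 0 with hs
  have hsval : ∀ j : Fin (L + 4), s j = G.coeff (L + 3 - j.val) + if j.val = 0 then 1 else 0 :=
    fun j => by
      simp only [hs, rc_apply, sig, shiftP, phi, Fin.val_zero, Fin.ext_iff, if_true]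
      rw [C_1, CharTwo.neg_eq, show L + 4 - 1 - j.val = L + 3 - j.val by omega]
      simp
      rfl
  have hcsum : ∑ i ∈ Finset.range (L + 4), C (en U i 0) * q i = ∑ j, C (s j) * ψ j := by
    rw [← Fin.sum_univ_eq_sum_range (fun i => C (en U i 0) * q i)]
    have : ∀ i : Fin (L + 4), C (en U i.val 0) * q i.val = ∑ j, C (s j) * (C (rtwo L w v i j) * q i.val) := by
      intro i
      rw [en_of i.isLt (by omega), hU, utwo, if_pos rfl, hc, ctwo, Matrix.mulVec, dotProduct, map_sum,
        Finset.sum_mul]
      exact Finset.sum_congr rfl fun j _ => by rw [map_mul]; ring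
    simp only [this, hψ, Finset.mul_sum]
    exact Finset.sum_comm
  have hcsum' : ∑ j, C (s j) * ψ j = 1 + Gr + C (G.coeff 1) * (X * W - W) +
      (q (L + 3) - X ^ (L + 3) + C v * (X ^ (L + 2) - W) +
        (X ^ 2 * W - C (w L) * W) + C (w L + v) * (X * W)) := by
    have hdiff : ∀ j : Fin (L + 4), C (s j) * ψ j =
        (C (if j.val = 0 then (1 : F) else 0) + C (G.coeff (L + 3 - j.val))) * X ^ j.val +
          ((if j = (⟨L + 2, by omega⟩ : Fin (L + 4)) then C (G.coeff 1) * (X * W - W) else 0) +
          (if j = (⟨L + 3, by omega⟩ : Fin (L + 4)) then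
            (q (L + 3) - X ^ (L + 3) + C v * (X ^ (L + 2) - W) +
              (X ^ 2 * W - C (w L) * W) + C (w L + v) * (X * W)) else 0)) := fun j => by
      simp only [Fin.ext_iff]
      rw [hsval, map_add]
      rcases (show j.val ≤ L + 1 ∨ j.val = L + 2 ∨ j.val = L + 3 by have := j.isLt; omega) with
        h | h | h
      · rw [hψlow j h, if_neg (show ¬ j.val = L + 2 by omega), if_neg (show ¬ j.val = L + 3 by omega)]
        ring
      · rw [hψA j h, if_pos h, if_neg (show ¬ j.val = L + 3 by omega), h,
          if_neg (show ¬ L + 2 = 0 by omega), show L + 3 - (L + 2) = 1 by omega, C_0]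
        ring
      · rw [hψB j h, if_neg (show ¬ j.val = L + 2 by omega), if_pos h, h,
          if_neg (show ¬ L + 3 = 0 by omega), Nat.sub_self, hG0, C_0, C_1]
        ring
    rw [Finset.sum_congr rfl fun j _ => hdiff j, Finset.sum_add_distrib, Finset.sum_add_distrib,
      Finset.sum_ite_eq', Finset.sum_ite_eq', if_pos (Finset.mem_univ _), if_pos (Finset.mem_univ _)]
    simp only [add_mul, Finset.sum_add_distrib]
    rw [Fin.sum_univ_eq_sum_range (fun j => C (if j = 0 then (1 : F) else 0) * X ^ j),
      Fin.sum_univ_eq_sum_range (fun j => C (G.coeff (L + 3 - j)) * X ^ j), ← hGr,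
      Finset.sum_eq_single 0 (fun b _ hb => by rw [if_neg hb, C_0, zero_mul]) (by simp)]
    simp
    ring
  -- the row identity
  have hsumk : ∑ k ∈ Finset.range (L + 3), C (P.coeff (k + 1)) * q k =
      hp - X ^ (L + 3) - C (P.coeff (L + 3)) * W := by
    rw [hhp, Finset.sum_range_succ _ (L + 3), hPn, C_1, one_mul, add_sub_cancel_right,
      Finset.sum_range_succ, Finset.sum_range_succ _ (L + 2), hq2,
      Finset.sum_congr rfl fun k hk => by
        rw [hq0 k (by rw [Finset.mem_range] at hk; omega)]]
    ring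
  have hrp : (rpol U P).comp (X + 1) = G := by
    rw [rpol]
    simp only [sub_comp, mul_comp, X_comp, sum_comp, C_comp, phi, map_neg, neg_mul,
      Finset.sum_neg_distrib, hP0, C_1, neg_comp, one_comp, show L + 4 - 1 = L + 3 from rfl]
    show (X + 1) * (q (L + 3) - -∑ k ∈ Finset.range (L + 3), C (P.coeff (k + 1)) * q k) -
      -(1 * ∑ i ∈ Finset.range (L + 4), C (en U i 0) * q i) = G
    rw [hcsum, hcsum', hsumk, hq3]
    have hvC : C v = 1 + C (P.coeff (L + 3)) + C (w L) + C (G.coeff 1) := by
      rw [hv, map_add, map_add, map_add, C_1]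
    have hE' := hWE
    rw [hE] at hE'
    simp only [CharTwo.sub_eq_add, CharTwo.neg_eq, map_add, hvC]
    have h4 : (4 : F[X]) = 0 := by
      rw [show (4 : F[X]) = 2 * 2 by norm_num, CharTwo.two_eq_zero, zero_mul]
    linear_combination (norm := (ring_nf; simp [CharTwo.two_eq_zero, h4])) hE'
  have hrp' : rpol U P = g := by
    have h := congrArg (fun p : F[X] => p.comp (X + 1)) hrp
    rw [hG] at h
    simpa [comp_assoc, show (X + 1 : F[X]).comp (X + 1) = X by
      simp [add_assoc, CharTwo.add_self_eq_zero]] using h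
  have hch := hUp.rpol_charpoly P (by omega)
  rw [hrp', hU] at hch
  have h1 : g.coeff (L + 4) = 1 := hgd ▸ hg.coeff_natDegree
  rw [h1, C_1, one_mul] at hch
  exact hch.symm

end Cfsg.Agent.H58.OreEven
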