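import Cfsg.Agent.H58.OreEven.Cert
import Cfsg.Agent.H58.OreEven.MatTwo
import Cfsg.Agent.H58.OreEven.RegRev

/-!
Two elements: polynomials all of whose matrices are regular, and certificates for the companion
matrices of degree at least four.

The family is `X^n + d X^(n-1) + X^k + d X + 1`: a common root of such a polynomial and of its
reverse satisfies `a^k = a^(n-k)`, so is `1` as soon as `|n - 2k|` is a power of two.
-/

set_option autoImplicit false
set_option linter.unusedSectionVars false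
set_option linter.unusedSimpArgs false

namespace Cfsg.Agent.H58.OreEven

open Matrix Polynomial
open Cfsg.Agent.H60.Ore
open Cfsg.Agent.H58.OreOmega (MM Reg rc charpoly_rc cyc_rc)

variable {F : Type*} [Field F] [Fintype F]

theorem charTwo_of_card (hq : Fintype.card F = 2) : CharP F 2 := by
  have : Fact (Nat.Prime 2) := ⟨Nat.prime_two⟩
  exact charP_of_card_eq_prime hq

theorem eq_zero_or_one (hq : Fintype.card F = 2) (x : F) : x = 0 ∨ x = 1 := by
  by_cases hx : x = 0
  · exact .inl hx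
  · have h := FiniteField.pow_card_sub_one_eq_one x hx
    rw [hq, pow_one] at h
    exact .inr h

theorem isSquare_two (hq : Fintype.card F = 2) (x : F) : IsSquare x := by
  rcases eq_zero_or_one hq x with rfl | rfl
  · exact ⟨0, (mul_zero 0).symm⟩
  · exact ⟨1, (mul_one 1).symm⟩

theorem char_two_four {R : Type*} [Ring R] [CharP R 2] : (4 : R) = 0 :=
  (CharP.cast_eq_zero_iff R 2 4).2 (by norm_num)

theorem char_two_six {R : Type*} [Ring R] [CharP R 2] : (6 : R) = 0 :=
  (CharP.cast_eq_zero_iff R 2 6).2 (by norm_num)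

theorem char_two_eight {R : Type*} [Ring R] [CharP R 2] : (8 : R) = 0 :=
  (CharP.cast_eq_zero_iff R 2 8).2 (by norm_num)

theorem add_one_eq_of_ne (hq : Fintype.card F = 2) {x c : F} (h : x ≠ c) : x + 1 = c := by
  have := charTwo_of_card hq
  rcases eq_zero_or_one hq x with rfl | rfl <;> rcases eq_zero_or_one hq c with rfl | rfl <;>
    simp_all [CharTwo.add_self_eq_zero]

/-- A polynomial all of whose matrices are regular. -/
def Gd (n : ℕ) (g : F[X]) : Prop :=
  g.Monic ∧ g.natDegree = n ∧ g.eval 0 = 1 ∧ g.eval 1 = 1 ∧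
    ∀ a : AlgebraicClosure F, a ≠ 0 → aeval a g = 0 → aeval a⁻¹ g ≠ 0

theorem Gd.of_rest {n : ℕ} (hn : 0 < n) {r : F[X]} (hr : r.degree < (n : WithBot ℕ))
    (h0 : r.eval 0 = 1) (h1 : r.eval 1 = 0)
    (hroot : ∀ a : AlgebraicClosure F, a ≠ 0 → a ^ n + aeval a r = 0 → (a⁻¹) ^ n + aeval a⁻¹ r ≠ 0) :
    Gd n (X ^ n + r) := by
  have hm : (X ^ n + r).Monic := monic_X_pow_add hr
  refine ⟨hm, ?_, ?_, ?_, fun a ha h => by simpa using hroot a ha (by simpa using h)⟩
  · rw [natDegree_add_eq_left_of_degree_lt (by rwa [degree_X_pow]), natDegree_X_pow]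
  · simp [h0, hn.ne']
  · simp [h1]

/-- The certificate given by a polynomial of this kind. -/
theorem cert_of_gd (hq : Fintype.card F = 2) {n : ℕ} (hn : 0 < n) {g : F[X]} (hg : Gd n g)
    {ι : Type} [Fintype ι] [DecidableEq ι] {D : Matrix ι ι F} {T X : MM n F} (hs : Sim D T)
    (hX : X.charpoly = g) (hsim : Sim (T * X) X) : Cert n D := by
  refine ⟨T, X, hs, fun A hA => ?_, ?_, isSquare_two hq _, cfull_two hq X, hsim⟩
  · exact reg_of_no_recip hn (by rw [hg.2.2.1]; exact one_ne_zero)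
      (by rw [hg.2.2.2.1]; exact one_ne_zero) hg.2.2.2.2 A (hA.trans hX)
  · rw [det_eq_sign_charpoly_coeff, hX, coeff_zero_eq_eval_zero, hg.2.2.1, mul_one]
    exact pow_ne_zero _ (neg_ne_zero.2 one_ne_zero)

/-- The family. -/
noncomputable def fam (n k : ℕ) (d : F) : F[X] :=
  X ^ n + (C d * X ^ (n - 1) + X ^ k + C d * X + 1)

theorem eq_one_of_pow_two_pow {K : Type*} [Field K] [CharP K 2] {a : K} {i : ℕ}
    (h : a ^ 2 ^ i = 1) : a = 1 := by
  have : Fact (Nat.Prime 2) := ⟨Nat.prime_two⟩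
  refine sub_eq_zero.1 ((pow_eq_zero_iff (Nat.two_pow_pos i).ne').1 ?_)
  rw [sub_pow_char_pow, h, one_pow, sub_self]

theorem gd_fam (hq : Fintype.card F = 2) {n k : ℕ} (hk : 1 ≤ k) (hkn : k + 2 ≤ n)
    (hi : ∃ i, n = k + k + 2 ^ i ∨ k + k = n + 2 ^ i) (d : F) : Gd n (fam n k d) := by
  have := charTwo_of_card hq
  refine Gd.of_rest (by omega) ?_ ?_ ?_ fun a ha h1 h2 => ?_
  · refine (degree_lt_iff_coeff_zero _ _).2 fun i hin => ?_
    simp [coeff_X, coeff_one, show i ≠ n - 1 by omega, show i ≠ k by omega,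
      show 1 ≠ i by omega, show i ≠ 0 by omega]
  · simp [show n - 1 ≠ 0 by omega, show k ≠ 0 by omega]
  · simp only [eval_add, eval_mul, eval_C, eval_pow, eval_X, eval_one, one_pow, mul_one]
    linear_combination (norm := (ring_nf; simp [CharTwo.two_eq_zero, char_two_four, char_two_six, char_two_eight])) (0 : F) = 0
  have : CharP (AlgebraicClosure F) 2 :=
    charP_of_injective_algebraMap (algebraMap F (AlgebraicClosure F)).injective 2
  simp only [map_add, map_mul, map_pow, aeval_X, aeval_C, map_one] at h1 h2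
  set δ := algebraMap F (AlgebraicClosure F) d
  have e : ∀ j, j ≤ n → a ^ n * (a⁻¹) ^ j = a ^ (n - j) := fun j hj => by
    rw [inv_pow, ← pow_sub₀ a ha hj]
  have e1 := e n le_rfl
  have e2 := e (n - 1) (by omega)
  have e3 := e k (by omega)
  have e4 := e 1 (by omega)
  rw [Nat.sub_self, pow_zero] at e1
  rw [show n - (n - 1) = 1 by omega, pow_one] at e2
  rw [pow_one] at e4
  have h3 : 1 + δ * a + a ^ (n - k) + δ * a ^ (n - 1) + a ^ n = 0 := by
    linear_combination a ^ n * h2 - e1 - δ * e2 - e3 - δ * e4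
  have h4 : a ^ k + a ^ (n - k) = 0 := by
    linear_combination (norm := (ring_nf; simp [CharTwo.two_eq_zero, char_two_four, char_two_six, char_two_eight])) h1 + h3
  have h5 : a ^ k = a ^ (n - k) := CharTwo.add_eq_zero.1 h4
  obtain ⟨i, hi⟩ := hi
  have ha1 : a = 1 := by
    refine eq_one_of_pow_two_pow (i := i) ?_
    rcases hi with hi | hi
    · rw [show n - k = k + 2 ^ i by omega, pow_add] at h5
      exact (mul_eq_left₀ (pow_ne_zero _ ha)).1 h5.symm
    · rw [show k = n - k + 2 ^ i by omega, pow_add, ← show k = n - k + 2 ^ i by omega] at h5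
      exact (mul_eq_left₀ (pow_ne_zero _ ha)).1 h5
  rw [ha1] at h1
  simp only [one_pow, mul_one] at h1
  exact one_ne_zero (α := AlgebraicClosure F) (by
    linear_combination (norm := (ring_nf; simp [CharTwo.two_eq_zero, char_two_four, char_two_six, char_two_eight])) h1)

/-- A polynomial of this kind in every degree at least three. -/
theorem gd_tri (hq : Fintype.card F = 2) {n : ℕ} (hn : 3 ≤ n) :
    Gd n (fam n ((n - 1) / 2) (0 : F)) :=
  gd_fam hq (by omega) (by omega)
    (by by_cases h : Odd n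
        · obtain ⟨j, rfl⟩ := h
          exact ⟨0, .inl (by omega)⟩
        · obtain ⟨j, rfl⟩ := Nat.not_odd_iff_even.1 h
          exact ⟨1, .inl (by omega)⟩) 0

/-- The second family, for the degree five. -/
noncomputable def fam5 (e : F) : F[X] :=
  X ^ 5 + (C e * X ^ 4 + X ^ 3 + X ^ 2 + C (1 + e) * X + 1)

theorem gd_fam5 (hq : Fintype.card F = 2) (e : F) : Gd 5 (fam5 e) := by
  have := charTwo_of_card hq
  refine Gd.of_rest (by omega) ?_ ?_ ?_ fun a ha h1 h2 => ?_
  · refine (degree_lt_iff_coeff_zero _ _).2 fun i hin => ?_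
    simp only [coeff_add, coeff_C_mul, coeff_X_pow, coeff_X, coeff_one]
    simp [show i ≠ 4 by omega, show i ≠ 3 by omega, show i ≠ 2 by omega, show 1 ≠ i by omega,
      show i ≠ 0 by omega]
  · simp
  · simp only [eval_add, eval_mul, eval_C, eval_pow, eval_X, eval_one, one_pow, mul_one]
    linear_combination (norm := (ring_nf; simp [CharTwo.two_eq_zero, char_two_four, char_two_six, char_two_eight])) (0 : F) = 0
  have : CharP (AlgebraicClosure F) 2 :=
    charP_of_injective_algebraMap (algebraMap F (AlgebraicClosure F)).injective 2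
  simp only [map_add, map_mul, map_pow, aeval_X, aeval_C, map_one] at h1 h2
  set δ := algebraMap F (AlgebraicClosure F) e
  have hu : a * a⁻¹ = 1 := mul_inv_cancel₀ ha
  have h3 : 1 + δ * a + a ^ 2 + a ^ 3 + (1 + δ) * a ^ 4 + a ^ 5 = 0 := by
    linear_combination a ^ 5 * h2 -
      (1 + a * a⁻¹ + a ^ 2 * a⁻¹ ^ 2 + a ^ 3 * a⁻¹ ^ 3 + a ^ 4 * a⁻¹ ^ 4 +
        δ * a * (1 + a * a⁻¹ + a ^ 2 * a⁻¹ ^ 2 + a ^ 3 * a⁻¹ ^ 3) +
        a ^ 2 * (1 + a * a⁻¹ + a ^ 2 * a⁻¹ ^ 2) + a ^ 3 * (1 + a * a⁻¹) + (1 + δ) * a ^ 4) * hu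
  have h4 : a * (a ^ 3 + 1) = 0 := by
    linear_combination (norm := (ring_nf; simp [CharTwo.two_eq_zero, char_two_four, char_two_six, char_two_eight])) h1 + h3
  have h5 : a ^ 3 = 1 := CharTwo.add_eq_zero.1 ((mul_eq_zero.1 h4).resolve_left ha)
  apply ha
  linear_combination (norm := (ring_nf; simp [CharTwo.two_eq_zero, char_two_four, char_two_six, char_two_eight]))
    h1 - (a ^ 2 + δ * a + 1) * h5

/-- The construction from `exists_utwo`. -/
theorem cert_of_utwo (hq : Fintype.card F = 2) {L : ℕ} {P g : F[X]} (hP : P.Monic)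
    (hPd : P.natDegree = L + 4) (hP0 : P.coeff 0 = 1) (hg : Gd (L + 4) g)
    (hc1 : (g.comp (X + 1)).coeff (L + 3) = P.coeff (L + 3))
    (hc2 : (g.comp (X + 1)).coeff (L + 2) =
      (g.comp (X + 1)).coeff 1 + P.coeff (L + 2) + P.coeff (L + 3)) :
    Cert (L + 4) (compOf (L + 4) P) := by
  have := charTwo_of_card hq
  obtain ⟨U, hU, hH, hchi⟩ := exists_utwo hP hPd hP0 hg.1 hg.2.1 hg.2.2.1 hg.2.2.2.1 hc1 hc2
  have hUc : U.charpoly = g := by rw [← hU.charpoly_eq, charpoly_rc hg.1 hg.2.1]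
  have hdet : IsUnit U.det := by
    rw [isUnit_iff_ne_zero, det_eq_sign_charpoly_coeff, hUc, coeff_zero_eq_eval_zero, hg.2.2.1,
      mul_one]
    exact pow_ne_zero _ (neg_ne_zero.2 one_ne_zero)
  refine cert_of_gd hq (by omega) hg (Sim.refl _) hUc (Sim.trans ?_
    ((hH.cyc.sim (cyc_rc (L + 4) g 1) (by rw [hchi, charpoly_rc hg.1 hg.2.1])).trans hU))
  refine ⟨U⁻¹, U, nonsing_inv_mul _ hdet, mul_nonsing_inv _ hdet, ?_⟩
  rw [Matrix.mul_assoc, mul_nonsing_inv _ hdet, Matrix.mul_one, ← Matrix.mul_assoc,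
    nonsing_inv_mul _ hdet, Matrix.one_mul]

theorem comp_fam_coeff (n k : ℕ) (d : F) (i : ℕ) :
    ((fam n k d).comp (X + 1)).coeff i = (n.choose i : F) + d * ((n - 1).choose i : F) +
      (k.choose i : F) + d * (Nat.choose 1 i : F) + if i = 0 then 1 else 0 := by
  have e : (fam n k d).comp (X + 1) = (X + 1) ^ n + C d * (X + 1) ^ (n - 1) + (X + 1) ^ k +
      C d * (X + 1) ^ 1 + 1 := by
    simp [fam, add_comp, mul_comp]
    ring
  rw [e]
  simp only [coeff_add, coeff_C_mul, coeff_X_add_one_pow, coeff_one]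

/-- The certificate from a member of the family. -/
theorem cert_fam (hq : Fintype.card F = 2) {L : ℕ} {P : F[X]} (hP : P.Monic)
    (hPd : P.natDegree = L + 4) (hP0 : P.coeff 0 = 1) {k : ℕ} (hk : 1 ≤ k) (hkn : k < L + 2)
    (hi : ∃ i, L + 4 = k + k + 2 ^ i ∨ k + k = L + 4 + 2 ^ i)
    (hc : (k : F) = ((L + 4).choose 2 : F) + P.coeff (L + 2)) :
    Cert (L + 4) (compOf (L + 4) P) := by
  have := charTwo_of_card hq
  set d : F := P.coeff (L + 3) + ((L + 4 : ℕ) : F) with hd
  refine cert_of_utwo hq hP hPd hP0 (gd_fam hq hk (by omega) hi d) ?_ ?_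
  · rw [comp_fam_coeff, show (L + 4).choose (L + 3) = L + 4 from Nat.choose_succ_self_right _,
      show L + 4 - 1 = L + 3 from rfl, Nat.choose_self,
      Nat.choose_eq_zero_of_lt (show k < L + 3 by omega),
      Nat.choose_eq_zero_of_lt (show 1 < L + 3 by omega), if_neg (by omega), hd]
    simp
    linear_combination (norm := (ring_nf; simp [CharTwo.two_eq_zero, char_two_four, char_two_six, char_two_eight])) (0 : F) = 0
  · rw [comp_fam_coeff, comp_fam_coeff, show L + 4 - 1 = L + 3 from rfl,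
      Nat.choose_symm_of_eq_add (show L + 4 = (L + 2) + 2 by rfl),
      show (L + 3).choose (L + 2) = L + 3 from Nat.choose_succ_self_right _,
      Nat.choose_eq_zero_of_lt hkn, Nat.choose_eq_zero_of_lt (show 1 < L + 2 by omega),
      Nat.choose_one_right, Nat.choose_one_right, Nat.choose_one_right, Nat.choose_one_right,
      if_neg (by omega), if_neg (by omega), hd]
    simp only [Nat.cast_zero, Nat.cast_one]
    linear_combination (norm := (ring_nf; simp [CharTwo.two_eq_zero, char_two_four, char_two_six, char_two_eight])) hc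

theorem cert_fam5 (hq : Fintype.card F = 2) {P : F[X]} (hP : P.Monic) (hPd : P.natDegree = 5)
    (hP0 : P.coeff 0 = 1) (h3 : P.coeff 3 = 1) : Cert 5 (compOf 5 P) := by
  have := charTwo_of_card hq
  set e : F := P.coeff 4 + 1 with he
  have e5 : (fam5 e).comp (X + 1) = (X + 1) ^ 5 + C e * (X + 1) ^ 4 + (X + 1) ^ 3 + (X + 1) ^ 2 +
      C (1 + e) * (X + 1) ^ 1 + 1 := by
    simp [fam5, add_comp, mul_comp]
    ring
  refine cert_of_utwo (L := 1) hq hP hPd hP0 (gd_fam5 hq e) ?_ ?_
  all_goals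
    rw [e5]
    simp only [coeff_add, coeff_C_mul, coeff_X_add_one_pow, coeff_one]
    norm_num [Nat.choose, he, h3]
    linear_combination (norm := (ring_nf; simp [CharTwo.two_eq_zero, char_two_four, char_two_six, char_two_eight])) (0 : F) = 0

/-- Companion matrices of degree at least four, two special classes of degree four apart. -/
theorem cert_compOf_four (hq : Fintype.card F = 2) {L : ℕ} {P : F[X]} (hP : P.Monic)
    (hPd : P.natDegree = L + 4) (hP0 : P.coeff 0 = 1) (h4 : L = 0 → P.coeff 2 = 1) :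
    Cert (L + 4) (compOf (L + 4) P) := by
  have := charTwo_of_card hq
  rcases (show L = 0 ∨ L = 1 ∨ 2 ≤ L by omega) with rfl | rfl | hL
  · refine cert_fam hq hP hPd hP0 (k := 1) le_rfl (by omega) ⟨1, .inl rfl⟩ ?_
    rw [h4 rfl]
    norm_num [Nat.choose_two_right]
    linear_combination (norm := (ring_nf; simp [CharTwo.two_eq_zero, char_two_four, char_two_six, char_two_eight])) (0 : F) = 0
  · rcases eq_zero_or_one hq (P.coeff 3) with h | h
    · refine cert_fam hq hP hPd hP0 (k := 2) (by omega) (by omega) ⟨0, .inl rfl⟩ ?_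
      rw [h]
      norm_num [Nat.choose_two_right]
      linear_combination (norm := (ring_nf; simp [CharTwo.two_eq_zero, char_two_four, char_two_six, char_two_eight])) (0 : F) = 0
    · exact cert_fam5 hq hP hPd hP0 h
  · set c : F := ((L + 4).choose 2 : F) + P.coeff (L + 2)
    obtain ⟨j, hj | hj⟩ : ∃ j, L + 4 = j + j + 1 ∨ L + 4 = j + j := ⟨(L + 4) / 2, by omega⟩
    · by_cases hc : (j : F) = c
      · exact cert_fam hq hP hPd hP0 (by omega) (by omega) ⟨0, .inl (by omega)⟩ hc
      · refine cert_fam hq hP hPd hP0 (k := j + 1) (by omega) (by omega) ⟨0, .inr (by omega)⟩ ?_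
        rw [Nat.cast_succ]
        exact add_one_eq_of_ne hq hc
    · by_cases hc : ((j - 2 : ℕ) : F) = c
      · exact cert_fam hq hP hPd hP0 (by omega) (by omega) ⟨2, .inl (by omega)⟩ hc
      · refine cert_fam hq hP hPd hP0 (k := j - 2 + 1) (by omega) (by omega)
          ⟨1, .inl (by omega)⟩ ?_
        rw [Nat.cast_succ]
        exact add_one_eq_of_ne hq hc

end Cfsg.Agent.H58.OreEven
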