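import Cfsg.Agent.H58.OreEven.CertTwoPoly

/-!
Two elements: explicit certificates for the companion matrices of degree three, for the two classes
of degree four left by the general construction, and the certificate for every cyclic matrix.
-/

set_option autoImplicit false
set_option linter.unusedSectionVars false
set_option linter.unusedSimpArgs false

namespace Cfsg.Agent.H58.OreEven

open Matrix Polynomial
open Cfsg.Agent.H60.Ore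
open Cfsg.Agent.H58.OreOmega (MM Reg)

variable {F : Type*} [Field F] [Fintype F]

/-- The data of an explicit certificate. -/
def Table {n : ℕ} (CP CG : Matrix (Fin n) (Fin n) (ZMod 2)) : Prop :=
  ∃ R R' S S' T : Matrix (Fin n) (Fin n) (ZMod 2),
    R * R' = 1 ∧ R' * R = 1 ∧ CP * R = R * T ∧ S * S' = 1 ∧ S' * S = 1 ∧ T * CG * S = S * CG

theorem table_three : ∀ a b : ZMod 2, Table (H60.Ore.comp ![1, a, b]) (H60.Ore.comp ![1, 1, 0]) := by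
  intro a b
  fin_cases a <;> fin_cases b
  · exact ⟨!![0, 1, 1; 0, 1, 0; 1, 0, 0], !![0, 0, 1; 0, 1, 0; 1, 1, 0],
      !![0, 1, 1; 0, 1, 0; 1, 0, 0], !![0, 0, 1; 0, 1, 0; 1, 1, 0],
      !![0, 1, 0; 0, 1, 1; 1, 1, 1], by decide⟩
  · exact ⟨!![0, 1, 1; 0, 0, 1; 1, 0, 0], !![0, 0, 1; 1, 1, 0; 0, 1, 0],
      !![1, 1, 1; 0, 1, 0; 1, 0, 0], !![0, 0, 1; 0, 1, 0; 1, 1, 1],
      !![1, 0, 1; 1, 1, 1; 0, 1, 1], by decide⟩
  · exact ⟨!![1, 0, 0; 0, 1, 0; 0, 0, 1], !![1, 0, 0; 0, 1, 0; 0, 0, 1],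
      !![1, 0, 1; 0, 1, 1; 1, 0, 0], !![0, 0, 1; 1, 1, 1; 1, 0, 1],
      !![0, 0, 1; 1, 0, 1; 0, 1, 0], by decide⟩
  · exact ⟨!![0, 1, 0; 0, 0, 1; 1, 0, 0], !![0, 0, 1; 1, 0, 0; 0, 1, 0],
      !![0, 0, 1; 1, 1, 0; 1, 0, 0], !![0, 0, 1; 0, 1, 1; 1, 0, 0],
      !![1, 0, 1; 1, 0, 0; 1, 1, 0], by decide⟩

theorem table_four : ∀ a b : ZMod 2, Table (H60.Ore.comp ![1, a, 0, b]) (H60.Ore.comp ![1, 1, 0, 0]) := by
  intro a b
  fin_cases a <;> fin_cases b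
  · exact ⟨!![1, 0, 0, 1; 1, 1, 0, 0; 0, 0, 1, 0; 1, 0, 0, 0],
      !![0, 0, 0, 1; 0, 1, 0, 1; 0, 0, 1, 0; 1, 0, 0, 1],
      !![0, 1, 0, 0; 1, 0, 0, 1; 0, 0, 1, 0; 1, 0, 0, 0],
      !![0, 0, 0, 1; 1, 0, 0, 0; 0, 0, 1, 0; 0, 1, 0, 1],
      !![0, 0, 1, 0; 1, 0, 1, 1; 1, 1, 0, 0; 1, 0, 1, 0], by decide⟩
  · exact ⟨!![0, 1, 0, 0; 0, 1, 1, 0; 1, 1, 0, 0; 0, 0, 0, 1],
      !![1, 0, 1, 0; 1, 0, 0, 0; 1, 1, 0, 0; 0, 0, 0, 1],
      !![0, 1, 0, 1; 0, 0, 1, 0; 0, 1, 0, 0; 1, 0, 0, 0],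
      !![0, 0, 0, 1; 0, 0, 1, 0; 0, 1, 0, 0; 1, 0, 1, 0],
      !![0, 1, 1, 1; 0, 0, 0, 1; 0, 1, 0, 1; 1, 1, 0, 1], by decide⟩
  · exact ⟨!![1, 0, 0, 0; 0, 0, 0, 1; 0, 1, 0, 1; 1, 0, 1, 0],
      !![1, 0, 0, 0; 0, 1, 1, 0; 1, 0, 0, 1; 0, 1, 0, 0],
      !![0, 1, 0, 0; 0, 0, 0, 1; 0, 0, 1, 1; 1, 0, 0, 0],
      !![0, 0, 0, 1; 1, 0, 0, 0; 0, 1, 1, 0; 0, 1, 0, 0],
      !![1, 0, 1, 0; 0, 0, 1, 1; 1, 1, 1, 1; 0, 0, 1, 0], by decide⟩
  · exact ⟨!![0, 1, 0, 0; 0, 0, 1, 0; 1, 0, 0, 0; 0, 0, 0, 1],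
      !![0, 0, 1, 0; 1, 0, 0, 0; 0, 1, 0, 0; 0, 0, 0, 1],
      !![0, 0, 1, 0; 0, 1, 0, 0; 1, 0, 0, 1; 1, 0, 0, 0],
      !![0, 0, 0, 1; 0, 1, 0, 0; 1, 0, 0, 0; 0, 0, 1, 1],
      !![0, 0, 1, 0; 0, 0, 0, 1; 0, 1, 0, 1; 1, 0, 0, 1], by decide⟩

theorem map_comp {R : Type*} [Field R] (φ : R →+* F) {n : ℕ} (c : Fin n → R) :
    (H60.Ore.comp c).map φ = H60.Ore.comp fun i => φ (c i) := by
  ext i j
  simp [H60.Ore.comp, apply_ite φ]

/-- The certificate given by a table. -/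
theorem cert_of_table (hq : Fintype.card F = 2) [Fact (Nat.Prime 2)] (φ : ZMod 2 →+* F) {n : ℕ}
    (hn : 0 < n) {P g : F[X]} (hg : Gd n g) {c cg : Fin n → ZMod 2}
    (hP : ∀ i : Fin n, -P.coeff i.val = φ (c i)) (hG : ∀ i : Fin n, -g.coeff i.val = φ (cg i))
    (h : Table (H60.Ore.comp c) (H60.Ore.comp cg)) : Cert n (compOf n P) := by
  obtain ⟨R, R', S, S', T, h1, h2, h3, h4, h5, h6⟩ := h
  have eP : compOf n P = (H60.Ore.comp c).map φ := by rw [map_comp, compOf]; simp only [hP]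
  have eG : compOf n g = (H60.Ore.comp cg).map φ := by rw [map_comp, compOf]; simp only [hG]
  refine cert_of_gd hq hn hg (T := T.map φ) (X := compOf n g) ⟨R.map φ, R'.map φ, ?_, ?_, ?_⟩
    (charpoly_compOf hg.1 hg.2.1) ⟨S.map φ, S'.map φ, ?_, ?_, ?_⟩
  · rw [← Matrix.map_mul, h1, Matrix.map_one _ (map_zero φ) (map_one φ)]
  · rw [← Matrix.map_mul, h2, Matrix.map_one _ (map_zero φ) (map_one φ)]
  · rw [eP, ← Matrix.map_mul, h3, Matrix.map_mul]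
  · rw [← Matrix.map_mul, h4, Matrix.map_one _ (map_zero φ) (map_one φ)]
  · rw [← Matrix.map_mul, h5, Matrix.map_one _ (map_zero φ) (map_one φ)]
  · rw [eG, ← Matrix.map_mul, ← Matrix.map_mul, h6, Matrix.map_mul]

theorem cert_compOf_small (hq : Fintype.card F = 2) {P : F[X]} (hP0 : P.coeff 0 = 1) :
    Cert 3 (compOf 3 P) ∧ (P.coeff 2 = 0 → Cert 4 (compOf 4 P)) := by
  have := charTwo_of_card hq
  have : Fact (Nat.Prime 2) := ⟨Nat.prime_two⟩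
  set φ : ZMod 2 →+* F := ZMod.castHom (dvd_refl 2) F
  have hs : ∀ x : F, ∃ y, φ y = x := fun x => by
    rcases eq_zero_or_one hq x with rfl | rfl
    · exact ⟨0, map_zero φ⟩
    · exact ⟨1, map_one φ⟩
  choose ψ hψ using hs
  refine ⟨?_, fun h2 => ?_⟩
  · refine cert_of_table hq φ (by omega) (gd_tri hq le_rfl) (c := ![1, ψ (P.coeff 1), ψ (P.coeff 2)])
      (cg := ![1, 1, 0]) ?_ ?_ (table_three _ _)
    all_goals intro i; fin_cases i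
    all_goals simp [hψ, hP0, fam, CharTwo.neg_eq, coeff_one, coeff_X]
  · refine cert_of_table hq φ (by omega) (gd_tri hq (show 3 ≤ 4 by omega))
      (c := ![1, ψ (P.coeff 1), 0, ψ (P.coeff 3)]) (cg := ![1, 1, 0, 0]) ?_ ?_ (table_four _ _)
    all_goals intro i; fin_cases i
    all_goals simp [hψ, hP0, h2, fam, CharTwo.neg_eq, coeff_one, coeff_X]

/-- Every cyclic matrix of determinant one and size at least three has a certificate. -/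
theorem cert_cyc (hq : Fintype.card F = 2) {ι : Type} [Fintype ι] [DecidableEq ι] {n : ℕ}
    (hn : 3 ≤ n) (hι : Fintype.card ι = n) {A : Matrix ι ι F} (hA : Cyc A) (hdet : A.det = 1) :
    Cert n A := by
  have := charTwo_of_card hq
  set P := A.charpoly with hPdef
  have hP : P.Monic := charpoly_monic A
  have hd : P.natDegree = n := by rw [hPdef, charpoly_natDegree_eq_dim, hι]
  have hP0 : P.coeff 0 = 1 := by
    rw [det_eq_sign_charpoly_coeff, CharTwo.neg_eq, one_pow, one_mul] at hdet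
    exact hdet
  refine Cert.of_sim (hA.sim (cyc_compOf n P) (by rw [charpoly_compOf hP hd])) ?_
  obtain ⟨h3, h4⟩ := cert_compOf_small hq hP0
  rcases (show n = 3 ∨ 4 ≤ n by omega) with rfl | hn4
  · exact h3
  obtain ⟨L, rfl⟩ : ∃ L, n = L + 4 := ⟨n - 4, by omega⟩
  by_cases hL : L = 0 ∧ P.coeff 2 = 0
  · obtain ⟨rfl, hc⟩ := hL
    exact h4 hc
  · exact cert_compOf_four hq hP hd hP0 fun h =>
      (eq_zero_or_one hq _).resolve_left fun hc => hL ⟨h, hc⟩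

end Cfsg.Agent.H58.OreEven
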