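import Cfsg.Agent.H58.OreEven.Levi
import Cfsg.Agent.Orthogonal.Spinor

/-!
The class of a Levi element modulo the commutator subgroup is given by the determinant.
-/

set_option autoImplicit false
set_option linter.unusedSectionVars false

namespace Cfsg.Agent.H58.OreEven

open Matrix Module
open Cfsg.Agent.Orthogonal Cfsg.Agent.Orthogonal.IsFrame
open Cfsg.Agent.H58.OreOmega (MM star')
open QuadraticMap (polar polar_comm polar_add_left polar_add_right polar_sub_left polar_sub_right)

variable {F : Type*} [Field F] {ν : ℕ}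

/-- An elementary matrix as a unit. -/
def tvU {i j : Fin ν} (hij : i ≠ j) (c : F) : GL (Fin ν) F where
  val := transvection i j c
  inv := transvection i j (-c)
  val_inv := by rw [transvection_mul_transvection_same _ _ hij, add_neg_cancel, transvection_zero]
  inv_val := by rw [transvection_mul_transvection_same _ _ hij, neg_add_cancel, transvection_zero]

/-- Diagonal matrices as units. -/
noncomputable def dgU (ν : ℕ) : (Fin ν → Fˣ) →* GL (Fin ν) F :=
  MonoidHom.toHomUnits
    { toFun := fun d => Matrix.diagonal fun i => (d i : F)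
      map_one' := by simp
      map_mul' := fun a b => by simp }

theorem coe_dgU (d : Fin ν → Fˣ) :
    ((dgU ν d : GL (Fin ν) F) : MM ν F) = Matrix.diagonal fun i => (d i : F) := rfl

/-- The permutation matrix of a transposition. -/
def swU (i j : Fin ν) : GL (Fin ν) F where
  val := (1 : MM ν F).submatrix (Equiv.swap i j) id
  inv := (1 : MM ν F).submatrix (Equiv.swap i j) id
  val_inv := by
    ext a b
    rw [Matrix.mul_apply, Finset.sum_eq_single (Equiv.swap i j a)]
    · simp [Matrix.one_apply]
    · intro x _ hx; simp [Matrix.one_apply, Ne.symm hx]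
    · simp
  inv_val := by
    ext a b
    rw [Matrix.mul_apply, Finset.sum_eq_single (Equiv.swap i j a)]
    · simp [Matrix.one_apply]
    · intro x _ hx; simp [Matrix.one_apply, Ne.symm hx]
    · simp

theorem swU_conj (i j : Fin ν) (d : Fin ν → Fˣ) :
    swU (F := F) i j * dgU ν d * (swU i j)⁻¹ = dgU ν (d ∘ Equiv.swap i j) := by
  rw [mul_inv_eq_iff_eq_mul]
  refine Units.ext ?_
  rw [Units.val_mul, Units.val_mul, coe_dgU, coe_dgU]
  ext a b
  rw [Matrix.mul_diagonal, Matrix.diagonal_mul]
  show (1 : MM ν F) (Equiv.swap i j a) b * _ = _ * (1 : MM ν F) (Equiv.swap i j a) b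
  by_cases h : Equiv.swap i j a = b
  · subst h; simp [mul_comm]
  · simp [Matrix.one_apply, h]

/-- A homomorphism to a commutative group only sees the determinant. -/
theorem map_eq_det {M : Type*} [CommGroup M] (hν : 3 ≤ ν) (χ : GL (Fin ν) F →* M) (A : GL (Fin ν) F) :
    χ A = χ (dgU ν (Pi.mulSingle ⟨0, by omega⟩ (Matrix.GeneralLinearGroup.det A))) := by
  set o : Fin ν := ⟨0, by omega⟩
  have htv : ∀ (i j : Fin ν) (hij : i ≠ j) (c : F), χ (tvU hij c) = 1 := by
    intro i j hij c
    obtain ⟨k, hki, hkj⟩ : ∃ k : Fin ν, k ≠ i ∧ k ≠ j := by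
      obtain ⟨k, -, hk⟩ := Finset.exists_mem_notMem_of_card_lt_card
        (show ({i, j} : Finset (Fin ν)).card < (Finset.univ : Finset (Fin ν)).card from
          lt_of_le_of_lt Finset.card_le_two (by simp; omega))
      simp only [Finset.mem_insert, Finset.mem_singleton, not_or] at hk
      exact ⟨k, hk⟩
    have e : tvU hij c = tvU (Ne.symm hki) c * tvU hkj 1 * (tvU (Ne.symm hki) c)⁻¹ *
        (tvU hkj (1 : F))⁻¹ := by
      refine Units.ext ?_
      show transvection i j c = transvection i k c * transvection k j 1 * transvection i k (-c) *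
        transvection k j (-1)
      simp only [transvection]
      set X : MM ν F := single i k c with hX
      set Y : MM ν F := single k j (1 : F) with hY
      have hXY : single i j c = X * Y := by rw [hX, hY, single_mul_single_same, mul_one]
      have hXn : single i k (-c) = -X := by rw [hX, ← Matrix.single_neg]
      have hYn : single k j (-1 : F) = -Y := by rw [hY, ← Matrix.single_neg]
      have hXX : X * X = 0 := by simp [hX, hki, hki.symm]
      have hYY : Y * Y = 0 := by simp [hY, hkj, hkj.symm]
      have hYX : Y * X = 0 := by simp [hX, hY, hij.symm]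
      have hXX' : ∀ Z, X * (X * Z) = 0 := fun Z => by rw [← mul_assoc, hXX, Matrix.zero_mul]
      have hYX' : ∀ Z, Y * (X * Z) = 0 := fun Z => by rw [← mul_assoc, hYX, Matrix.zero_mul]
      rw [hXY, hXn, hYn]
      simp only [Matrix.add_mul, Matrix.mul_add, mul_assoc, Matrix.mul_neg, Matrix.neg_mul, hXX, hYY,
        hYX, hXX', hYX', neg_neg, mul_zero, Matrix.zero_mul, mul_one, one_mul, neg_zero, add_zero,
        zero_add]
      abel
    rw [e, map_mul, map_mul, map_mul, map_inv, map_inv, mul_right_comm (χ _), mul_inv_cancel,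
      one_mul, mul_inv_cancel]
  let P : MM ν F → Prop := fun B => ∀ h : B.det ≠ 0,
    χ (GeneralLinearGroup.mkOfDetNeZero B h) = χ (dgU ν (Pi.mulSingle o (Units.mk0 B.det h)))
  have hne : A.1.det ≠ 0 := (Matrix.isUnits_det_units A).ne_zero
  have key : P A.1 := by
    refine Matrix.diagonal_transvection_induction_of_det_ne_zero P _ hne ?_ ?_ ?_
    · intro D _ h
      have hD : ∀ i, D i ≠ 0 := fun i => by
        rw [det_diagonal, Finset.prod_ne_zero_iff] at h
        exact h i (Finset.mem_univ i)
      let d : Fin ν → Fˣ := fun i => Units.mk0 (D i) (hD i)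
      rw [show GeneralLinearGroup.mkOfDetNeZero (diagonal D) h = dgU ν d from Units.ext rfl,
        show Units.mk0 (diagonal D).det h = ∏ i, d i from Units.ext (by simp [d, Units.coe_prod])]
      have hs : ∀ (i : Fin ν) (a : Fˣ),
          χ (dgU ν (Pi.mulSingle i a)) = χ (dgU ν (Pi.mulSingle o a)) := fun i a => by
        have e := congrArg χ (swU_conj (F := F) o i (Pi.mulSingle i a))
        rw [map_mul, map_mul, map_inv, mul_comm (χ (swU o i)), mul_inv_cancel_right] at e
        rw [e]
        congr 2
        funext x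
        rcases eq_or_ne x o with rfl | hx
        · simp
        · rw [Function.comp_apply, Pi.mulSingle_eq_of_ne hx, Pi.mulSingle_eq_of_ne]
          intro hc
          exact hx ((Equiv.swap o i).injective (by rw [hc, Equiv.swap_apply_left]))
      have e2 : χ.comp (dgU ν) = ((χ.comp (dgU ν)).comp (MonoidHom.mulSingle (fun _ => Fˣ) o)).comp
          (∏ i, Pi.evalMonoidHom (fun _ : Fin ν => Fˣ) i) :=
        MonoidHom.pi_ext fun i a => by
          simp only [MonoidHom.comp_apply, MonoidHom.finsetProd_apply, Pi.evalMonoidHom_apply,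
            MonoidHom.mulSingle_apply, Finset.prod_pi_mulSingle', Finset.mem_univ, if_true,
            Fintype.prod_pi_mulSingle']
          exact hs i a
      have := DFunLike.congr_fun e2 d
      simpa using this
    · intro t h
      rw [show GeneralLinearGroup.mkOfDetNeZero t.toMatrix h = tvU t.hij t.c from Units.ext rfl, htv,
        show Units.mk0 t.toMatrix.det h = 1 from Units.ext (by simp), Pi.mulSingle_one, map_one,
        map_one]
    · intro B C hB hC hPB hPC h
      rw [show GeneralLinearGroup.mkOfDetNeZero (B * C) h =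
          GeneralLinearGroup.mkOfDetNeZero B hB * GeneralLinearGroup.mkOfDetNeZero C hC from
        Units.ext rfl,
        show Units.mk0 (B * C).det h = Units.mk0 B.det hB * Units.mk0 C.det hC from
          Units.ext (by simp), Pi.mulSingle_mul, map_mul, map_mul, map_mul, hPB hB, hPC hC]
  have h := key hne
  rwa [show GeneralLinearGroup.mkOfDetNeZero _ hne = A from Units.ext rfl,
    show Units.mk0 A.1.det hne = Matrix.GeneralLinearGroup.det A from Units.ext rfl] at h

variable {V : Type*} [AddCommGroup V] [Module F V] [FiniteDimensional F V]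
variable {Q : QuadraticForm F V} {e f : Fin ν → V} (hQ : Nondeg Q) (h : IsFrame Q e f)

/-- A diagonal Levi element is a product of two reflections. -/
theorem levi_single (i : Fin ν) (a : Fˣ) :
    levi hQ h (dgU ν (Pi.mulSingle i a)) =
      rO Q (e i + f i) * rO Q (e i + (a : F) • f i) := by
  have hQv : ∀ c : F, Q (e i + c • f i) = c := fun c => by
    rw [map_add_polar, qmap_smul, polar_smul_right', h.qe, h.qf, h.ef, if_pos rfl]; ring
  have hQv1 : Q (e i + f i) = 1 := by simpa using hQv 1
  refine O.ext_app fun x => ?_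
  obtain ⟨α, β, k, hk, rfl⟩ := exists_dec h x
  have hpol : ∀ c : F, polar Q (e i + c • f i) (lc e α + lc f β + k) = β i + c * α i := fun c => by
    rw [polar_add_left, polar_smul_left', polar_comm Q (e i), polar_comm Q (f i),
      ← ce_apply, ← ce_apply, ce_dec h α β hk, cf_dec h α β hk]
  have hp1 : polar Q (e i + f i) (lc e α + lc f β + k) = β i + α i := by simpa using hpol 1
  have hp12 : polar Q (e i + f i) (e i + (a : F) • f i) = a + 1 := by
    simp [polar_add_left, polar_add_right, polar_smul_right', polar_self', h.qe, h.qf, h.ef, h.fe]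
    ring
  rw [levi_dec hQ h _ α β hk, Subgroup.coe_mul, mul_app, rO_app, hQv1, rO_app, hQv, hpol,
    polar_sub_right, hp1, polar_smul_right', hp12]
  have hd : ∀ γ : Fin ν → F, ((dgU ν (Pi.mulSingle i a) : GL (Fin ν) F) : MM ν F) *ᵥ γ =
      γ + Pi.single i (((a : F) - 1) * γ i) := fun γ => by
    funext j
    rw [coe_dgU, mulVec_diagonal]
    rcases eq_or_ne j i with rfl | hj
    · simp; ring
    · simp [hj]
  have hds : ∀ γ : Fin ν → F, (star' (dgU ν (Pi.mulSingle i a) : GL (Fin ν) F)).1 *ᵥ γ =
      γ + Pi.single i (((a : F)⁻¹ - 1) * γ i) := fun γ => by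
    funext j
    simp only [star', ← map_inv, coe_dgU, diagonal_transpose, mulVec_diagonal]
    rcases eq_or_ne j i with rfl | hj
    · simp; ring
    · simp [hj]
  rw [hd, hds, map_add, map_add]
  have ls : ∀ (w : Fin ν → V) (c : F), lc w (Pi.single i c) = c • w i := fun w c => by
    simp [lc_apply, Pi.single_apply, ite_smul]
  rw [ls, ls]
  match_scalars
  all_goals (field_simp [a.ne_zero]; try ring)

variable [Fintype F]

include h in
theorem levi_cls (hν : 3 ≤ ν) (M : GL (Fin ν) F) :
    Abelianization.of (levi hQ h M) = Abelianization.of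
      (rO Q (e ⟨0, by omega⟩ + f ⟨0, by omega⟩) *
        rO Q (e ⟨0, by omega⟩ + M.1.det • f ⟨0, by omega⟩)) := by
  have := map_eq_det hν (Abelianization.of.comp (levi hQ h)) M
  rw [MonoidHom.comp_apply, MonoidHom.comp_apply, levi_single hQ h] at this
  exact this

include h in
/-- Levi elements of square determinant lie in the commutator subgroup. -/
theorem levi_mem (hν : 3 ≤ ν) {M : GL (Fin ν) F} (hM : IsSquare M.1.det) :
    levi hQ h M ∈ commutator (O Q) := by
  rw [← Abelianization.ker_of, MonoidHom.mem_ker, levi_cls hQ h hν]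
  obtain ⟨r, hr⟩ := hM
  have hd : M.1.det ≠ 0 := (Matrix.isUnits_det_units M).ne_zero
  have hr0 : r ≠ 0 := fun h0 => hd (by rw [hr, h0, mul_zero])
  set o : Fin ν := ⟨0, by omega⟩
  set u : Fˣ := (Units.mk0 r hr0)⁻¹ with hu
  set x := levi hQ h (dgU ν (Pi.mulSingle o u)) with hx
  have himg : (x : V ≃ₗ[F] V) (e o + f o) = r⁻¹ • (e o + M.1.det • f o) := by
    rw [map_add, ← lc_single (F := F) e o, ← lc_single (F := F) f o, hx, levi_lc, levi_lc', hr]
    simp only [star', ← map_inv, coe_dgU, diagonal_transpose, diagonal_mulVec_single, mul_one,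
      Pi.mulSingle_eq_same, Pi.inv_apply, hu, inv_inv, Units.val_inv_eq_inv_val, Units.val_mk0]
    simp only [lc_apply, Pi.single_apply, ite_smul, zero_smul, Finset.sum_ite_eq', Finset.mem_univ,
      if_true, one_smul, smul_add, smul_smul]
    congr 2
    field_simp
  have hc := conj_rO x (e o + f o)
  rw [himg, rO_smul (inv_ne_zero hr0)] at hc
  rw [← hc, map_mul, map_mul, map_mul, map_inv, mul_comm (Abelianization.of x), mul_inv_cancel_right,
    ← map_mul, rO_mul_self, map_one]

include h in
/-- Conversely, membership forces a square determinant. -/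
theorem isSquare_of_levi (hν : 3 ≤ ν) {M : GL (Fin ν) F}
    (hm : levi hQ h M ∈ commutator (O Q)) : IsSquare M.1.det := by
  by_cases h2 : (2 : F) = 0
  · exact isSquare_of_two_eq_zero h2 _
  rw [← Abelianization.ker_of, MonoidHom.mem_ker, levi_cls hQ h hν, ← MonoidHom.mem_ker,
    Abelianization.ker_of, mem_commutator_iff hQ h2] at hm
  set o : Fin ν := ⟨0, by omega⟩
  have hd : M.1.det ≠ 0 := (Matrix.isUnits_det_units M).ne_zero
  have hQv : ∀ c : F, Q (e o + c • f o) = c := fun c => by
    rw [map_add_polar, qmap_smul, polar_smul_right', h.qe, h.qf, h.ef, if_pos rfl]; ring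
  have hQv1 : Q (e o + f o) = 1 := by simpa using hQv 1
  have h1 := hm.2
  rw [map_mul, spinor_rO hQ h2 (by rw [hQv1]; exact one_ne_zero),
    spinor_rO hQ h2 (by rwa [hQv]), hQv1, hQv, sqSign_of_isSquare IsSquare.one, one_mul] at h1
  exact sqSign_eq_one_iff.1 h1

end Cfsg.Agent.H58.OreEven
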