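import Cfsg.Agent.H58.OreEven.Cases
import Cfsg.Agent.H58.OreEven.Central

/-!
Every element of `Ω±(2n, q)`, `n ≥ 4`, is a commutator.
-/

set_option autoImplicit false
set_option linter.unusedSectionVars false

namespace Cfsg.Agent.H58.OreEven

open Module
open Cfsg.Agent.Orthogonal Cfsg.Agent.Orthogonal.IsFrame
open QuadraticMap (polar polar_comm)

variable {F V : Type*} [Field F] [Fintype F] [AddCommGroup V] [Module F V] [FiniteDimensional F V]
variable {Q : QuadraticForm F V}

theorem ore_even (hQ : Nondeg Q) {n : ℕ} (hn : 4 ≤ n) (hdim : finrank F V = 2 * n) (g : O Q)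
    (hg : g ∈ commutator (O Q)) :
    ∃ a ∈ commutator (O Q), ∃ b ∈ commutator (O Q), g = a * b * a⁻¹ * b⁻¹ := by
  classical
  have hgen : reflGroup Q = ⊤ := reflGroup_eq_top hQ (Or.inr (by omega))
  have hgd : dickson hQ hgen g = 1 := Abelianization.commutator_subset_ker (dickson hQ hgen) hg
  obtain ⟨ν, P, hsum, hle, hε0⟩ := exists_nf hQ g hdim
  set K := kernel Q P.x P.y with hK
  have hd : finrank F K = 0 ∨ finrank F K = 2 := by omega
  have hν : 3 ≤ ν := by omega
  obtain ⟨A, hA, -⟩ := exists_reg_sq (F := F) ν hν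
  have hKn : Nondeg (restr Q K) := P.frame.nondeg_kernel hQ
  rcases nf_parity hQ hgen P hν hgd hA hd with
    ⟨hr, hk⟩ | ⟨h2d, hk, v, hv, hra⟩ | ⟨h2d, hk, hb⟩
  · refine P.data.com_id hQ hν hg (fun a ha => ?_) hk ?_
    · rw [show a = ((⟨a, ha⟩ : K) : V) from rfl, nfRho_apply, hr]; rfl
    · by_cases hs : ∃ l : Fin ν, P.k ≤ l.val ∧ P.σ l = l
      swap
      · exact P.noScalar fun l hl h => hs ⟨l, hl, h⟩
      rcases hd with h0 | h2
      · exact hε0 h0
      · have : Nontrivial K := Module.nontrivial_of_finrank_pos (R := F) (M := K) (by omega)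
        obtain ⟨a, ha⟩ := exists_ne (0 : K)
        have h := P.scalar hs a
        rw [hr, LinearMap.id_apply] at h
        have h' : (1 - P.ε) • a = 0 := by rw [sub_smul, one_smul, ← h, sub_self]
        exact (sub_eq_zero.1 ((smul_eq_zero.1 h').resolve_right ha)).symm
  · have hns : ∀ l : Fin ν, P.k ≤ l.val → P.σ l ≠ l := fun l hl hs => by
      have hsc := P.scalar ⟨l, hl, hs⟩
      have heq : ∀ a : K, (1 - P.ε) • a = ((Q (v : V))⁻¹ * polar Q (v : V) a) • v := fun a => by
        have h := hra a
        rw [hsc a, eq_sub_iff_add_eq] at h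
        rw [sub_smul, one_smul, sub_eq_iff_eq_add, add_comm]
        exact h.symm
      by_cases hε : P.ε = 1
      · have hv0 : v = 0 := hKn v fun a => by
          have h := heq a
          rw [hε, sub_self, zero_smul, eq_comm, smul_eq_zero] at h
          rcases h with h | h
          · rw [polar_restr]
            exact (mul_eq_zero.1 h).resolve_left (inv_ne_zero hv)
          · rw [polar_restr, h]; simp [polar]
        exact hv (by rw [hv0]; simp)
      · have : finrank F K ≤ 1 := finrank_le_one v fun a =>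
          ⟨(1 - P.ε)⁻¹ * ((Q (v : V))⁻¹ * polar Q (v : V) a), by
            rw [mul_smul, ← heq a, inv_smul_smul₀ (sub_ne_zero.2 (Ne.symm hε))]⟩
        have h2' : finrank F K = 2 := h2d
        omega
    refine P.data.com_refl hQ hν hg v.2 hv (fun a ha => ?_) hk (P.noScalar hns) hns
    rw [show a = ((⟨a, ha⟩ : K) : V) from rfl, nfRho_apply, hra]
    rfl
  · by_cases hne : 0 < P.k ∨ ∃ l, P.σ l ≠ l
    · exact P.data.com_rot hQ hν hg h2d hk P.r (fun a => P.riso a) hb (nfRho_apply P) hne
    push Not at hne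
    obtain ⟨hk0, hσ⟩ := hne
    have hk0' : P.k = 0 := by omega
    have hsc := P.scalar ⟨⟨0, by omega⟩, by omega, hσ _⟩
    have hε1 : P.ε ≠ 1 := fun h => by
      have h2' : finrank F K = 2 := h2d
      have : Nontrivial K := Module.nontrivial_of_finrank_pos (R := F) (M := K) (by omega)
      obtain ⟨a, ha⟩ := exists_ne (0 : K)
      exact ha (hb.1 (by rw [map_zero, LinearMap.sub_apply, hsc a, h, one_smul, LinearMap.id_apply,
        sub_self]))
    have hε : P.ε = -1 := (mul_self_eq_one_iff.1 P.eps).resolve_left hε1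
    have h2 : (2 : F) ≠ 0 := fun h => hε1 (by linear_combination hε - h)
    have hlow : ∀ l : Fin ν, P.k ≤ l.val := fun l => by omega
    refine neg_one_com hQ h2 (by omega) hdim g hg fun z => ?_
    obtain ⟨α, β, a, ha, rfl⟩ := exists_dec P.frame z
    have hx : ∀ j, (g : V ≃ₗ[F] V) (P.x j) = -P.x j := fun j => by
      rw [P.col, if_pos ⟨hlow j, hσ j⟩, hε,
        show (fun l => P.N l j) = 0 from funext fun l => P.row l j (hlow l) (Or.inr (hσ l)),
        map_zero, add_zero, neg_one_smul]
    have hy : ∀ j, (g : V ≃ₗ[F] V) (P.y j) = -P.y j := fun j => by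
      obtain ⟨c, hc, hc0⟩ := P.scalarY j (hlow j) (hσ j)
      rw [hc, show c = 0 from funext fun l => hc0 l (hlow l) (hσ l), map_zero, add_zero, hε,
        neg_one_smul]
    have hka : (g : V ≃ₗ[F] V) a = -a := by
      obtain ⟨c, hc, hc0⟩ := P.kerE ⟨a, ha⟩
      rw [hc, show c = 0 from funext fun l => hc0 l (hlow l) (hσ l), map_zero, add_zero, hsc ⟨a, ha⟩,
        hε, Submodule.coe_smul, neg_one_smul]
    simp only [map_add, lc_apply, map_sum, map_smul, hx, hy, hka, smul_neg, Finset.sum_neg_distrib,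
      neg_add_rev]
    abel

end Cfsg.Agent.H58.OreEven
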