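import Cfsg.Agent.H58.OreEven.Levi
import Cfsg.Agent.H58.OreEven.LeviClass

/-!
Unipotent radicals, the Siegel decomposition and the resulting commutator criterion.
-/

set_option autoImplicit false
set_option linter.unusedSectionVars false

namespace Cfsg.Agent.H58.OreEven

open Matrix Module
open Cfsg.Agent.Orthogonal Cfsg.Agent.Orthogonal.IsFrame
open Cfsg.Agent.H58.OreOmega (MM Reg star' fuse)
open QuadraticMap (polar polar_comm polar_add_left polar_add_right polar_sub_left polar_sub_right)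
open scoped commutatorElement

variable {F V : Type*} [Field F] [AddCommGroup V] [Module F V] [FiniteDimensional F V] {ν : ℕ}
variable {Q : QuadraticForm F V} {e f : Fin ν → V}

/-- The radical fixing the `f`-vectors and moving the kernel only along them. -/
def rad (Q : QuadraticForm F V) (e f : Fin ν → V) : Subgroup (O Q) where
  carrier := {u | (∀ i, (u : V ≃ₗ[F] V) (f i) = f i) ∧
    ∀ a ∈ kernel Q e f, ∃ φ : Fin ν → F, (u : V ≃ₗ[F] V) a = a + lc f φ}
  one_mem' := ⟨fun _ => rfl, fun a _ => ⟨0, by simp [one_app]⟩⟩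
  mul_mem' {u w} hu hw := ⟨fun i => by rw [Subgroup.coe_mul, mul_app, hw.1, hu.1], fun a ha => by
    obtain ⟨φ, hφ⟩ := hw.2 a ha
    obtain ⟨ψ, hψ⟩ := hu.2 a ha
    refine ⟨ψ + φ, ?_⟩
    have hfix : (u : V ≃ₗ[F] V) (lc f φ) = lc f φ := by simp [lc_apply, hu.1]
    rw [Subgroup.coe_mul, mul_app, hφ, map_add, hψ, hfix, map_add (lc f), add_assoc]⟩
  inv_mem' {u} hu := by
    have hi : ∀ i, ((u⁻¹ : O Q) : V ≃ₗ[F] V) (f i) = f i := fun i => by
      conv_lhs => rw [← hu.1 i, ← mul_app, ← Subgroup.coe_mul, inv_mul_cancel]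
      rfl
    refine ⟨hi, fun a ha => ?_⟩
    obtain ⟨φ, hφ⟩ := hu.2 a ha
    refine ⟨-φ, ?_⟩
    have hfix : (u : V ≃ₗ[F] V) (lc f φ) = lc f φ := by simp [lc_apply, hu.1]
    have : (u : V ≃ₗ[F] V) (a + lc f (-φ)) = a := by
      rw [map_neg, map_add, map_neg, hφ, hfix]; abel
    conv_lhs => rw [← this, ← mul_app, ← Subgroup.coe_mul, inv_mul_cancel]
    rfl

theorem rad_fix {u : O Q} (hu : u ∈ rad Q e f) (φ : Fin ν → F) :
    (u : V ≃ₗ[F] V) (lc f φ) = lc f φ := by simp [lc_apply, hu.1]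

variable (hQ : Nondeg Q) (h : IsFrame Q e f)
include hQ h

theorem rad_stable (M : GL (Fin ν) F) :
    ∀ u ∈ rad Q e f, levi hQ h M * u * (levi hQ h M)⁻¹ ∈ rad Q e f := by
  intro u hu
  rw [← map_inv]
  refine ⟨fun i => ?_, fun a ha => ?_⟩
  · rw [Subgroup.coe_mul, Subgroup.coe_mul, mul_app, mul_app, ← lc_single (F := F) f i, levi_lc' hQ h,
      rad_fix hu, ← levi_lc' hQ h, ← mul_app, ← Subgroup.coe_mul, ← map_mul, mul_inv_cancel, map_one]
    rfl
  · obtain ⟨φ, hφ⟩ := hu.2 a ha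
    exact ⟨(star' M).1 *ᵥ φ, by
      rw [Subgroup.coe_mul, Subgroup.coe_mul, mul_app, mul_app, levi_kernel hQ h _ ha, hφ, map_add,
        levi_kernel hQ h _ ha, levi_lc']⟩

/-- A regular Levi element acts fixed point freely on the radical. -/
theorem rad_fpf {A : GL (Fin ν) F} (hA : Reg A) :
    ∀ u ∈ rad Q e f, levi hQ h A * u * (levi hQ h A)⁻¹ = u → u = 1 := by
  intro u hu hcomm
  set L : V ≃ₗ[F] V := ((levi hQ h A : O Q) : V ≃ₗ[F] V) with hL
  have hc : ∀ x, L ((u : V ≃ₗ[F] V) x) = (u : V ≃ₗ[F] V) (L x) := fun x => by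
    rw [hL, ← mul_app, ← mul_app, ← Subgroup.coe_mul, ← Subgroup.coe_mul,
      mul_inv_eq_iff_eq_mul.1 hcomm]
  have hlf := isFrame_symm h
  have hfinj : Function.Injective (lc (F := F) f) := fun α β hab => by
    funext i; rw [← polar_lc_ef hlf α i, hab, polar_lc_ef hlf]
  have hker : ∀ a ∈ kernel Q e f, (u : V ≃ₗ[F] V) a = a := fun a ha => by
    obtain ⟨φ, hφ⟩ := hu.2 a ha
    have h1 := hc a
    rw [hφ, map_add, hL, levi_kernel hQ h A ha, hφ, levi_lc'] at h1
    rw [hφ, hA.star.fix_vec (hfinj (add_left_cancel h1)), map_zero, add_zero]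
  let S : MM ν F := fun i j => polar Q ((u : V ≃ₗ[F] V) (e j)) (e i)
  have hue : ∀ α : Fin ν → F, (u : V ≃ₗ[F] V) (lc e α) = lc e α + lc f (S *ᵥ α) := fun α => by
    obtain ⟨α', β', k, hk, hx⟩ := exists_dec h ((u : V ≃ₗ[F] V) (lc e α))
    have e1 : α' = α := by
      funext i
      have := congrFun (ce_dec h α' β' hk) i
      rw [← hx, ce_apply, ← hu.1 i, O.polar_app, polar_lc_ef h] at this
      exact this.symm
    have e2 : β' = S *ᵥ α := by
      funext i
      have := congrFun (cf_dec h α' β' hk) i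
      rw [← hx, ce_apply, lc_apply, map_sum, ← polarBilin_apply', map_sum, LinearMap.sum_apply] at this
      rw [← this, Matrix.mulVec, dotProduct]
      exact Finset.sum_congr rfl fun j _ => by
        rw [map_smul, map_smul, LinearMap.smul_apply, smul_eq_mul, polarBilin_apply', mul_comm]
    have e3 : k = 0 := by
      have hn := h.nondeg_kernel hQ
      have := hn ⟨k, hk⟩ fun a => by
        rw [polar_restr]
        have h1 : polar Q ((u : V ≃ₗ[F] V) (lc e α)) a = 0 := by
          conv_lhs => rw [← hker a a.2]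
          rw [O.polar_app, polar_lc_kernel h α a.2]
        rw [hx, polar_add_left, polar_add_left, polar_lc_kernel h _ a.2,
          polar_lc_kernel hlf _ (by rw [kernel_symm]; exact a.2), zero_add, zero_add] at h1
        exact h1
      exact congrArg Subtype.val this
    rw [hx, e1, e2, e3, add_zero]
  have hS0 : S = 0 := by
    refine hA.star.fix_form ?_
    have hmul : (star' A).1 * S = S * A.1 := by
      refine Matrix.ext_of_mulVec_single fun j => ?_
      have h1 := hc (lc e (Pi.single j (1 : F)))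
      rw [hue, map_add, hL, levi_lc, levi_lc', hue] at h1
      rw [← mulVec_mulVec, ← mulVec_mulVec]
      exact hfinj (add_left_cancel h1)
    rw [hmul, Matrix.mul_assoc]
    show S * (A.1 * ((A⁻¹).1ᵀ)ᵀ) = S
    rw [transpose_transpose, Units.mul_inv, mul_one]
  refine O.ext_app fun x => ?_
  obtain ⟨α, β, k, hk, rfl⟩ := exists_dec h x
  rw [map_add, map_add, hue, hS0, zero_mulVec, map_zero, add_zero, rad_fix hu, hker k hk]
  rfl

variable [Fintype F]

omit hQ h in
theorem finite_O (Q : QuadraticForm F V) : Finite (O Q) := by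
  have : Finite V := Module.finite_of_finite F
  have : Finite (V ≃ₗ[F] V) :=
    Finite.of_injective (fun g => (g : V → V)) DFunLike.coe_injective
  infer_instance

theorem rad_le {A : GL (Fin ν) F} (hA : Reg A) : rad Q e f ≤ commutator (O Q) := by
  have := finite_O Q
  intro d hd
  obtain ⟨c, -, hc⟩ := fuse (rad Q e f) (rad_stable hQ h A) (rad_fpf hQ h hA) hd
  rw [show d = ⁅c, levi hQ h A⁆ by rw [commutatorElement_def, ← hc]; group]
  exact Subgroup.commutator_mem_commutator (Subgroup.mem_top _) (Subgroup.mem_top _)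

theorem rad_le' {A : GL (Fin ν) F} (hA : Reg A) : rad Q f e ≤ commutator (O Q) :=
  rad_le hQ (isFrame_symm h) hA.star

/-- The block of `g`. -/
def blk (Q : QuadraticForm F V) (g : O Q) (e f : Fin ν → V) : MM ν F :=
  fun i j => polar Q ((g : V ≃ₗ[F] V) (e j)) (f i)

/-- The condition on the kernel. -/
def Res (Q : QuadraticForm F V) (g : O Q) (e f : Fin ν → V) : Prop :=
  ∀ a ∈ kernel Q e f, ∃ α φ : Fin ν → F,
    (g : V ≃ₗ[F] V) (a + lc e α) = a + lc f φ

theorem exists_decomp (g : O Q) (D : GL (Fin ν) F) (hD : blk Q g e f = D.1) (hR : Res Q g e f) :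
    ∃ u ∈ rad Q e f, ∃ w ∈ rad Q f e, g = u * levi hQ h D * w := by
  classical
  set K := kernel Q e f
  have hrow : ∀ α i, polar Q ((g : V ≃ₗ[F] V) (lc e α)) (f i) = (D.1 *ᵥ α) i := fun α i => by
    rw [lc_apply, map_sum, ← polarBilin_apply', map_sum, LinearMap.sum_apply, ← hD, Matrix.mulVec,
      dotProduct]
    exact Finset.sum_congr rfl fun j _ => by
      rw [map_smul, map_smul, LinearMap.smul_apply, smul_eq_mul, polarBilin_apply', mul_comm, blk]
  let b := Module.finBasis F K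
  choose αb φb hb using fun t => hR (b t) (b t).2
  let Y : K →ₗ[F] (Fin ν → F) := b.constr F αb
  let Φ : K →ₗ[F] (Fin ν → F) := b.constr F φb
  have hY : ∀ a : K, (g : V ≃ₗ[F] V) ((a : V) + lc e (Y a)) = (a : V) + lc f (Φ a) := by
    have : ((g : V ≃ₗ[F] V) : V →ₗ[F] V).comp (K.subtype + (lc e).comp Y) =
        K.subtype + (lc f).comp Φ := b.ext fun t => by
      simpa [Y, Φ] using hb t
    exact fun a => LinearMap.congr_fun this a
  let pk : V →ₗ[F] K := (LinearMap.id - (lc e).comp (ce Q f) - (lc f).comp (ce Q e)).codRestrict K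
    fun x => by
      obtain ⟨α, β, k, hk, rfl⟩ := exists_dec h x
      simp only [LinearMap.sub_apply, LinearMap.comp_apply, LinearMap.id_apply, ce_dec h α β hk,
        cf_dec h α β hk]
      rw [show lc e α + lc f β + k - lc e α - lc f β = k by abel]
      exact hk
  have hpk : ∀ (α β : Fin ν → F) (k : K), pk (lc e α + lc f β + k) = k := fun α β k => by
    refine Subtype.ext ?_
    simp only [pk, LinearMap.codRestrict_apply, LinearMap.sub_apply, LinearMap.comp_apply,
      LinearMap.id_apply, ce_dec h α β k.2, cf_dec h α β k.2]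
    abel
  let uL : V →ₗ[F] V :=
    ((g : V ≃ₗ[F] V) : V →ₗ[F] V).comp ((lc e).comp ((Matrix.mulVecLin (D⁻¹).1).comp (ce Q f)) +
        (K.subtype + (lc e).comp Y).comp pk) + (lc f).comp (ce Q e)
  have huL : ∀ (α β : Fin ν → F) (k : K), uL (lc e α + lc f β + k) =
      (g : V ≃ₗ[F] V) (lc e ((D⁻¹).1 *ᵥ α + Y k) + k) + lc f β := fun α β k => by
    show (g : V ≃ₗ[F] V) (lc e ((D⁻¹).1 *ᵥ ce Q f (lc e α + lc f β + k)) +
      ((pk (lc e α + lc f β + k) : V) + lc e (Y (pk (lc e α + lc f β + k))))) +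
        lc f (ce Q e (lc e α + lc f β + k)) = _
    rw [hpk, ce_dec h α β k.2, cf_dec h α β k.2, map_add (lc e)]
    congr 2
    abel
  have hiso : ∀ x, Q (uL x) = Q x := fun x => by
    obtain ⟨α, β, k, hk, rfl⟩ := exists_dec h x
    rw [show k = ((⟨k, hk⟩ : K) : V) from rfl, huL, map_add_polar, O.map_app, qf_dec h _ _ hk,
      qf_lc (isFrame_symm h), map_add_polar, qf_lc h, polar_lc_kernel h _ hk]
    have e1 : (g : V ≃ₗ[F] V) (lc e ((D⁻¹).1 *ᵥ α + Y ⟨k, hk⟩) + k) =
        (g : V ≃ₗ[F] V) (lc e ((D⁻¹).1 *ᵥ α)) + (k + lc f (Φ ⟨k, hk⟩)) := by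
      rw [← hY ⟨k, hk⟩, ← map_add, map_add (lc e)]
      congr 1
      abel
    rw [e1, polar_add_left, polar_add_left, polar_lc_self (isFrame_symm h), polar_lc_right]
    simp only [hrow, mulVec_mulVec, Units.mul_inv, one_mulVec, polar_comm Q k,
      polar_lc_kernel (isFrame_symm h) _ (show k ∈ kernel Q f e by rwa [kernel_symm]), add_zero]
    rw [dotProduct_comm α β, dotProduct]
    ring
  set u : O Q := hQ.ofLinear uL hiso with hu
  have happ : ∀ x, (u : V ≃ₗ[F] V) x = uL x := fun x => Nondeg.ofLinear_app hQ uL hiso x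
  have huF : u ∈ rad Q e f := by
    refine ⟨fun i => ?_, fun a ha => ⟨Φ ⟨a, ha⟩, ?_⟩⟩
    · rw [happ]
      have := huL 0 (Pi.single i 1) 0
      simpa [lc_single] using this
    · rw [happ]
      have := huL 0 0 ⟨a, ha⟩
      simp only [map_zero, zero_add, add_zero, mulVec_zero] at this
      rw [this, add_comm (lc e _)]
      exact hY ⟨a, ha⟩
  refine ⟨u, huF, (u * levi hQ h D)⁻¹ * g, ⟨fun i => ?_, fun a ha => ?_⟩, by group⟩
  · have he : ((u * levi hQ h D : O Q) : V ≃ₗ[F] V) (e i) = (g : V ≃ₗ[F] V) (e i) := by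
      rw [Subgroup.coe_mul, mul_app, ← lc_single (F := F) e i, levi_lc, happ]
      have := huL (D.1 *ᵥ Pi.single i 1) 0 0
      simp only [map_zero, add_zero, Submodule.coe_zero, mulVec_mulVec, Units.inv_mul,
        one_mulVec] at this
      exact this
    rw [Subgroup.coe_mul, mul_app, ← he, ← mul_app, ← Subgroup.coe_mul, inv_mul_cancel]
    rfl
  · have ha' : a ∈ K := by rwa [kernel_symm] at ha
    refine ⟨-Y ⟨a, ha'⟩, ?_⟩
    set z := ((u * levi hQ h D : O Q)⁻¹ * g : O Q)
    have he : (z : V ≃ₗ[F] V) (a + lc e (Y ⟨a, ha'⟩)) = a := by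
      have : ((u * levi hQ h D : O Q) : V ≃ₗ[F] V) a =
          (g : V ≃ₗ[F] V) (a + lc e (Y ⟨a, ha'⟩)) := by
        rw [Subgroup.coe_mul, mul_app, levi_kernel hQ h D ha', happ]
        have := huL 0 0 ⟨a, ha'⟩
        simp only [map_zero, zero_add, add_zero, mulVec_zero] at this
        rw [this, add_comm]
      rw [Subgroup.coe_mul, mul_app, ← this, ← mul_app, ← Subgroup.coe_mul, inv_mul_cancel]
      rfl
    have hzfix : ∀ α : Fin ν → F, (z : V ≃ₗ[F] V) (lc e α) = lc e α := fun α => by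
      have hu' : ((u * levi hQ h D : O Q) : V ≃ₗ[F] V) (lc e α) = (g : V ≃ₗ[F] V) (lc e α) := by
        rw [Subgroup.coe_mul, mul_app, levi_lc, happ]
        have := huL (D.1 *ᵥ α) 0 0
        simp only [map_zero, add_zero, Submodule.coe_zero, mulVec_mulVec, Units.inv_mul,
          one_mulVec] at this
        exact this
      rw [Subgroup.coe_mul, mul_app, ← hu', ← mul_app, ← Subgroup.coe_mul, inv_mul_cancel]
      rfl
    rw [map_add, hzfix] at he
    rw [map_neg, ← sub_eq_add_neg]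
    exact eq_sub_of_add_eq he

/-- Elements with a commutator block are commutators. -/
theorem isCom_frame (hν : 3 ≤ ν) (g : O Q) (hR : Res Q g e f) (A B : GL (Fin ν) F) (hA : Reg A)
    (hAs : IsSquare A.1.det) (hBs : IsSquare B.1.det)
    (hD : blk Q g e f = (A * B * A⁻¹ * B⁻¹ : GL (Fin ν) F).1) :
    ∃ a ∈ commutator (O Q), ∃ b ∈ commutator (O Q), g = a * b * a⁻¹ * b⁻¹ := by
  have := finite_O Q
  obtain ⟨u, hu, w, hw, rfl⟩ := exists_decomp hQ h g _ hD hR
  obtain ⟨c1, hc1, e1⟩ := fuse (rad Q e f) (rad_stable hQ h A) (rad_fpf hQ h hA) hu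
  have hY : Reg (B * A⁻¹ * B⁻¹) := hA.inv.conj B
  set y := levi hQ h (B * A⁻¹ * B⁻¹) with hy
  have hst : ∀ q ∈ rad Q f e, y * q * y⁻¹ ∈ rad Q f e := by
    rw [hy, ← levi_symm hQ h]; exact rad_stable hQ (isFrame_symm h) _
  have hfp : ∀ q ∈ rad Q f e, y * q * y⁻¹ = q → q = 1 := by
    rw [hy, ← levi_symm hQ h]; exact rad_fpf hQ (isFrame_symm h) hY.star
  obtain ⟨c2, hc2, e2⟩ := fuse (rad Q f e) hst hfp (hst w hw)
  have e2' : y * w = c2 * y * c2⁻¹ := by rw [← e2]; group
  have hk2 : c2 * levi hQ h B ∈ commutator (O Q) :=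
    mul_mem (rad_le' hQ h hA hc2) (levi_mem hQ h hν hBs)
  have hk1 : c1 ∈ commutator (O Q) := rad_le hQ h hA hc1
  refine ⟨c1 * levi hQ h A * c1⁻¹, mul_mem (mul_mem hk1 (levi_mem hQ h hν hAs)) (inv_mem hk1),
    c2 * levi hQ h B * c1⁻¹, mul_mem hk2 (inv_mem hk1), ?_⟩
  calc u * levi hQ h (A * B * A⁻¹ * B⁻¹) * w
      = (u * levi hQ h A) * (y * w) := by rw [hy]; simp only [map_mul, map_inv]; group
    _ = (c1 * levi hQ h A * c1⁻¹) * (c2 * y * c2⁻¹) := by rw [e1, e2']
    _ = _ := by rw [hy]; simp only [map_mul, map_inv]; group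

/-- The determinant of the block is a square. -/
theorem isSquare_det_frame (hν : 3 ≤ ν) (g : O Q) (hR : Res Q g e f)
    (hg : g ∈ commutator (O Q)) {A : GL (Fin ν) F} (hA : Reg A) (D : GL (Fin ν) F)
    (hD : blk Q g e f = D.1) : IsSquare D.1.det := by
  obtain ⟨u, hu, w, hw, rfl⟩ := exists_decomp hQ h g D hD hR
  refine isSquare_of_levi hQ h hν ?_
  have h1 := mul_mem (mul_mem (inv_mem (rad_le hQ h hA hu)) hg) (inv_mem (rad_le' hQ h hA hw))
  rwa [show u⁻¹ * (u * levi hQ h D * w) * w⁻¹ = levi hQ h D by group] at h1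

end Cfsg.Agent.H58.OreEven
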