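import Cfsg.Agent.H58.OreEven.Rad
import Cfsg.Agent.H58.OreEven.NF

/-!
The twist of the Lagrangian making the Siegel residual trivial.
-/

set_option autoImplicit false
set_option linter.unusedSectionVars false
set_option linter.unusedSimpArgs false
set_option linter.unusedVariables false

namespace Cfsg.Agent.H58.OreEven

open Matrix Module
open Cfsg.Agent.Orthogonal Cfsg.Agent.Orthogonal.IsFrame
open Cfsg.Agent.H58.OreOmega (MM)
open QuadraticMap (polar polar_comm polar_add_left polar_add_right polar_sub_left polar_sub_right)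

variable {F V : Type*} [Field F] [AddCommGroup V] [Module F V] [FiniteDimensional F V]
variable {Q : QuadraticForm F V}

/-- The data of a normal form, with the kernel action as a plain function. -/
structure Data {ν : ℕ} (g : O Q) (k : ℕ) (x y : Fin ν → V) (σ : Fin ν → Fin ν)
    (N : Fin ν → Fin ν → F) (ε : F) (ρ : V → V) : Prop where
  frame : IsFrame Q x y
  hk : k ≤ ν
  inv : ∀ l, σ (σ l) = l
  low : ∀ l : Fin ν, l.val < k → σ l = l
  col : ∀ j, (g : V ≃ₗ[F] V) (x j) =
    (if k ≤ j.val ∧ σ j = j then ε • x j else 0) + lc y fun l => N l j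
  tri : ∀ l j : Fin ν, j.val < k → j.val < l.val → N l j = 0
  dia : ∀ j : Fin ν, j.val < k → N j j ≠ 0
  row : ∀ l j : Fin ν, k ≤ l.val → (j ≠ σ l ∨ σ l = l) → N l j = 0
  pair : ∀ l, σ l ≠ l → N l (σ l) ≠ 0 ∧ N (σ l) l = -N l (σ l)
  kerE : ∀ a ∈ kernel Q x y, ∃ c : Fin ν → F,
    (g : V ≃ₗ[F] V) a = ρ a + lc y c ∧ ∀ l : Fin ν, k ≤ l.val → σ l = l → c l = 0
  eps : ε * ε = 1

/-- The head of the twist: two vectors of the kernel and their matrix. -/
structure Head (Q : QuadraticForm F V) (K : Submodule F V) (k : ℕ) (ρ : V → V) where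
  v0 : V
  v1 : V
  a00 : F
  a01 : F
  a10 : F
  a11 : F
  m0 : v0 ∈ K
  m1 : v1 ∈ K
  d0 : a00 = -Q v0
  d1 : a11 = -Q v1
  skew : a01 + a10 = -polar Q v0 v1
  sol : ∀ a ∈ K, ∃ c0 c1 : F, c0 • v0 + c1 • v1 = ρ a - a ∧
    c0 * a00 + c1 * a10 = polar Q a v0 ∧ (¬ Odd k → c0 * a01 + c1 * a11 = polar Q a v1) ∧
      (Odd k → c1 = 0)
  odd : Odd k → v1 = 0

namespace Head

variable {K : Submodule F V} {k : ℕ} {ρ : V → V} (H : Head Q K k ρ)

/-- The scaled head followed by the tridiagonal chain. -/
def core (θ : F) (i l : ℕ) : F :=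
  if i = 0 ∧ l = 0 then H.a00 * θ ^ 2
  else if i = 0 ∧ l = 1 then H.a01 * θ
  else if i = 1 ∧ l = 0 then H.a10 * θ
  else if i = 1 ∧ l = 1 then H.a11
  else if i = l + 1 then 1
  else if l = i + 1 then -1
  else 0

/-- The kernel vectors. -/
def vec (θ : F) (i : ℕ) : V := if i = 0 then θ • H.v0 else if i = 1 then H.v1 else 0

theorem vec_mem (θ : F) (i : ℕ) : H.vec θ i ∈ K := by
  unfold vec
  split_ifs
  · exact K.smul_mem _ H.m0
  · exact H.m1
  · exact K.zero_mem

theorem vec_high (θ : F) {i : ℕ} (h : 2 ≤ i) : H.vec θ i = 0 := by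
  rw [vec, if_neg (by omega), if_neg (by omega)]

theorem core_ge (θ : F) {i l : ℕ} (h : 2 ≤ i ∨ 2 ≤ l) :
    H.core θ i l = if i = l + 1 then 1 else if l = i + 1 then -1 else 0 := by
  rw [core, if_neg (by omega), if_neg (by omega), if_neg (by omega), if_neg (by omega)]

theorem core00 (θ : F) : H.core θ 0 0 = H.a00 * θ ^ 2 := by simp [core]
theorem core01 (θ : F) : H.core θ 0 1 = H.a01 * θ := by simp [core]
theorem core10 (θ : F) : H.core θ 1 0 = H.a10 * θ := by simp [core]
theorem core11 (θ : F) : H.core θ 1 1 = H.a11 := by simp [core]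

theorem core_skew (θ : F) (i l : ℕ) :
    H.core θ i l + H.core θ l i + polar Q (H.vec θ i) (H.vec θ l) = 0 := by
  have hs := H.skew
  by_cases h : 2 ≤ i ∨ 2 ≤ l
  · have hv : polar Q (H.vec θ i) (H.vec θ l) = 0 := by
      rcases h with h | h
      · rw [H.vec_high θ h, QuadraticMap.polar_zero_left]
      · rw [H.vec_high θ h, QuadraticMap.polar_zero_right]
    rw [hv, H.core_ge θ h, H.core_ge θ h.symm]
    by_cases h1 : i = l + 1
    · rw [if_pos h1, if_neg (by omega), if_pos h1]; ring
    · by_cases h2 : l = i + 1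
      · rw [if_neg h1, if_pos h2, if_pos h2]; ring
      · rw [if_neg h1, if_neg h2, if_neg h2, if_neg h1]; ring
  · rcases (show i = 0 ∨ i = 1 by omega) with rfl | rfl <;>
      rcases (show l = 0 ∨ l = 1 by omega) with rfl | rfl
    · rw [H.core00, vec, if_pos rfl, polar_self', qmap_smul, H.d0]; ring
    · rw [H.core01, H.core10, vec, vec, if_pos rfl, if_neg one_ne_zero, if_pos rfl, polar_smul_left']
      linear_combination θ * hs
    · rw [H.core01, H.core10, vec, vec, if_pos rfl, if_neg one_ne_zero, if_pos rfl, polar_smul_right',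
        polar_comm Q H.v1 H.v0]
      linear_combination θ * hs
    · rw [H.core11, vec, if_neg one_ne_zero, if_pos rfl, polar_self', H.d1]; ring

theorem core_diag (θ : F) (i : ℕ) : H.core θ i i + Q (H.vec θ i) = 0 := by
  rcases (show i = 0 ∨ i = 1 ∨ 2 ≤ i by omega) with rfl | rfl | hi
  · rw [H.core00, vec, if_pos rfl, qmap_smul, H.d0]; ring
  · rw [H.core11, vec, if_neg one_ne_zero, if_pos rfl, H.d1]; ring
  · rw [H.vec_high θ hi, QuadraticMap.map_zero, add_zero, H.core_ge θ (Or.inl hi), if_neg (by omega),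
      if_neg (by omega)]

theorem core_far (θ : F) {i l : ℕ} (h : l + 1 < i ∨ i + 1 < l) : H.core θ i l = 0 := by
  rw [H.core_ge θ (by omega), if_neg (by omega), if_neg (by omega)]

theorem core_sub (θ : F) (l : ℕ) :
    H.core θ (l + 1) l = if l = 0 then H.a10 * θ else 1 := by
  by_cases h : l = 0
  · subst h; rw [if_pos rfl, H.core10]
  · rw [if_neg h, H.core_ge θ (by omega), if_pos rfl]

theorem core_sup (θ : F) (l : ℕ) :
    H.core θ l (l + 1) = if l = 0 then H.a01 * θ else -1 := by
  by_cases h : l = 0
  · subst h; rw [if_pos rfl, H.core01]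
  · rw [if_neg h, H.core_ge θ (by omega), if_neg (by omega), if_pos rfl]

/-- The coefficients of the chain. -/
def eta (k : ℕ) (θ c0 c1 : F) (j : ℕ) : F :=
  if j = 0 then c0 / θ else if Odd j then c1 else if Odd k then -(H.a01 * c0) else 0

theorem chain_eq {θ : F} (hθ : θ ≠ 0) (a : V) {c0 c1 : F}
    (h0 : c0 * H.a00 + c1 * H.a10 = polar Q a H.v0)
    (h1 : ¬ Odd k → c0 * H.a01 + c1 * H.a11 = polar Q a H.v1) (hodd : Odd k → c1 = 0)
    {i : ℕ} (hi : i < k) :
    ∑ l ∈ Finset.range k, H.eta k θ c0 c1 l * H.core θ l i = polar Q a (H.vec θ i) := by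
  classical
  rcases (show i = 0 ∨ i = 1 ∨ 2 ≤ i by omega) with rfl | rfl | hi2
  · rw [vec, if_pos rfl, polar_smul_right', ← h0]
    rcases (show k = 1 ∨ 2 ≤ k by omega) with rfl | hk
    · rw [hodd odd_one, Finset.sum_range_one]
      simp [eta, core]; field_simp
    · rw [← Finset.sum_range_add_sum_Ico _ hk, Finset.sum_eq_zero (s := Finset.Ico 2 k) fun l hl => by
        rw [Finset.mem_Ico] at hl; rw [H.core_far θ (Or.inl (by omega)), mul_zero]]
      simp [Finset.sum_range_succ, eta, core]; field_simp
  · rw [vec, if_neg (by omega), if_pos rfl]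
    rcases (show k = 2 ∨ 3 ≤ k by omega) with rfl | hk
    · rw [← h1 (by decide)]
      simp [Finset.sum_range_succ, eta, core]; field_simp
    · rw [← Finset.sum_range_add_sum_Ico _ hk, Finset.sum_eq_zero (s := Finset.Ico 3 k) fun l hl => by
        rw [Finset.mem_Ico] at hl; rw [H.core_far θ (Or.inl (by omega)), mul_zero]]
      by_cases hk' : Odd k
      · rw [H.odd hk', QuadraticMap.polar_zero_right]
        have h11 : H.a11 = 0 := by rw [H.d1, H.odd hk', QuadraticMap.map_zero, neg_zero]
        simp [Finset.sum_range_succ, eta, core, h11, hk', show ¬ Odd 2 by decide]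
        field_simp
        ring
      · rw [← h1 hk']
        simp [Finset.sum_range_succ, eta, core, hk', show ¬ Odd 2 by decide]
        field_simp
  · rw [H.vec_high θ hi2, QuadraticMap.polar_zero_right]
    obtain ⟨m, rfl⟩ : ∃ m, i = m + 1 := ⟨i - 1, by omega⟩
    have hsplit : ∀ l ∈ Finset.range k, H.eta k θ c0 c1 l * H.core θ l (m + 1) =
        (if l = m then -H.eta k θ c0 c1 m else 0) +
          (if l = m + 2 then H.eta k θ c0 c1 (m + 2) else 0) := by
      intro l _
      rcases (show l = m ∨ l = m + 2 ∨ (l ≠ m ∧ l ≠ m + 2) by omega) with rfl | rfl | ⟨e1, e2⟩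
      · rw [H.core_sup, if_neg (show ¬ l = 0 by omega), if_pos rfl, if_neg (by omega)]; ring
      · rw [H.core_sub θ (m + 1), if_neg (by omega), if_neg (by omega), if_pos rfl]; ring
      · rw [if_neg e1, if_neg e2, H.core_ge θ (by omega), if_neg (by omega), if_neg (by omega)]; ring
    rw [Finset.sum_congr rfl hsplit, Finset.sum_add_distrib, Finset.sum_ite_eq', Finset.sum_ite_eq',
      if_pos (Finset.mem_range.2 (by omega))]
    by_cases hlast : m + 2 < k
    · rw [if_pos (Finset.mem_range.2 hlast)]
      simp only [eta, show ¬ m = 0 by omega, show ¬ m + 2 = 0 by omega, if_false]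
      rw [if_congr (show Odd (m + 2) ↔ Odd m by simp [Nat.odd_add]) rfl rfl]
      ring
    · rw [if_neg (by simp only [Finset.mem_range]; omega), add_zero, neg_eq_zero]
      simp only [eta, show ¬ m = 0 by omega, if_false]
      obtain rfl : k = m + 2 := by omega
      by_cases hm : Odd m
      · rw [if_pos hm]; exact hodd (by simpa [Nat.odd_add] using hm)
      · rw [if_neg hm, if_neg (by simpa [Nat.odd_add] using hm)]

end Head

variable {ν : ℕ} {g : O Q} {k : ℕ} {x y : Fin ν → V} {σ : Fin ν → Fin ν}
  {N : Fin ν → Fin ν → F} {ε : F} {ρ : V → V}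

/-- The matrix of the twist. -/
def twM (σ : Fin ν → Fin ν) (N : Fin ν → Fin ν → F) (ε : F) (k K : ℕ) (c : ℕ → ℕ → F)
    (i l : Fin ν) : F :=
  if i.val < K ∧ l.val < K then c i.val l.val
  else if k ≤ i.val ∧ σ i ≠ i ∧ l = σ i then ε / N (σ i) i else 0

/-- The twisted Lagrangian. -/
noncomputable def twF (x y : Fin ν → V) (σ : Fin ν → Fin ν) (N : Fin ν → Fin ν → F) (ε : F)
    (K : ℕ) {S : Submodule F V} {k : ℕ} {ρ : V → V} (H : Head Q S k ρ) (θ : F) (i : Fin ν) : V :=
  y i + lc x (twM σ N ε k K (H.core θ) i) + H.vec θ i.val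

namespace Data

variable (D : Data g k x y σ N ε ρ)
include D

theorem high {l : Fin ν} (h : k ≤ l.val) : k ≤ (σ l).val := by
  by_contra hc
  have := D.low (σ l) (by omega)
  rw [D.inv] at this
  rw [← this] at hc
  omega

theorem pair_ne {l : Fin ν} (h : σ l ≠ l) : N (σ l) l ≠ 0 := by
  rw [(D.pair l h).2]; exact neg_ne_zero.2 (D.pair l h).1

theorem eps_ne : ε ≠ 0 := left_ne_zero_of_mul (D.eps.trans_ne one_ne_zero)

section

variable (H : Head Q (kernel Q x y) k ρ) {K : ℕ} (θ : F)

theorem polar_vec_x (i : ℕ) (l : Fin ν) : polar Q (H.vec θ i) (x l) = 0 := by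
  rw [polar_comm]; exact (mem_kernel.1 (H.vec_mem θ i)).1 l

theorem polar_y_twF (l i : Fin ν) :
    polar Q (y l) (twF x y σ N ε K H θ i) = twM σ N ε k K (H.core θ) i l := by
  rw [twF, polar_add_right, polar_add_right, D.frame.ff, (mem_kernel.1 (H.vec_mem θ i.val)).2 l,
    polar_comm Q (y l), polar_lc_ef D.frame, zero_add, add_zero]

theorem polar_x_twF (l i : Fin ν) :
    polar Q (x l) (twF x y σ N ε K H θ i) = if l = i then 1 else 0 := by
  rw [twF, polar_add_right, polar_add_right, D.frame.ef, (mem_kernel.1 (H.vec_mem θ i.val)).1 l,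
    polar_comm Q (x l), polar_lc_ee D.frame, add_zero, add_zero]

theorem frame_twF (hkK : k ≤ K) (hvK : ∀ i, K ≤ i → H.vec θ i = 0) :
    IsFrame Q x (twF x y σ N ε K H θ) := by
  refine ⟨D.frame.qe, fun i => ?_, fun i j => D.polar_x_twF H θ i j, D.frame.ee, fun i j => ?_⟩
  · rw [twF, map_add_polar, map_add_polar, qf_lc D.frame, D.frame.qf, polar_add_left,
      polar_comm Q (y i) (lc x _), polar_lc_ef D.frame, polar_comm Q (y i) (H.vec θ i.val),
      polar_comm Q (H.vec θ i.val) (y i), (mem_kernel.1 (H.vec_mem θ i.val)).2 i,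
      polar_lc_kernel D.frame _ (H.vec_mem θ i.val), twM]
    by_cases hi : i.val < K
    · rw [if_pos ⟨hi, hi⟩]; linear_combination H.core_diag θ i.val
    · rw [if_neg (fun h => hi h.1), if_neg (fun h => h.2.1 h.2.2.symm), hvK _ (by omega),
        QuadraticMap.map_zero]
      ring
  · have e : ∀ a b : Fin ν, polar Q (twF x y σ N ε K H θ a) (twF x y σ N ε K H θ b) =
        twM σ N ε k K (H.core θ) a b + twM σ N ε k K (H.core θ) b a +
          polar Q (H.vec θ a.val) (H.vec θ b.val) := fun a b => by
      conv_lhs => arg 2; rw [twF]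
      rw [polar_add_left, polar_add_left, D.polar_y_twF, polar_lc_left]
      simp only [D.polar_x_twF, mul_ite, mul_one, mul_zero, Finset.sum_ite_eq', Finset.mem_univ,
        if_true]
      rw [twF, polar_add_right, polar_add_right, polar_comm Q (H.vec θ a.val) (y b),
        (mem_kernel.1 (H.vec_mem θ a.val)).2 b, polar_comm Q (H.vec θ a.val) (lc x _),
        polar_lc_kernel D.frame _ (H.vec_mem θ a.val)]
      ring
    rw [e]
    by_cases hc : i.val < K ∧ j.val < K
    · simp only [twM, if_pos hc, if_pos hc.symm]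
      exact H.core_skew θ i.val j.val
    · have hv : polar Q (H.vec θ i.val) (H.vec θ j.val) = 0 := by
        by_cases hi : i.val < K
        · rw [hvK j.val (not_lt.1 fun h => hc ⟨hi, h⟩), QuadraticMap.polar_zero_right]
        · rw [hvK i.val (not_lt.1 hi), QuadraticMap.polar_zero_left]
      simp only [twM, if_neg hc, if_neg (fun h : j.val < K ∧ i.val < K => hc h.symm), hv, add_zero]
      by_cases hij : k ≤ i.val ∧ σ i ≠ i ∧ j = σ i
      · obtain ⟨h1, h2, rfl⟩ := hij
        rw [if_pos ⟨h1, h2, rfl⟩, if_pos ⟨D.high h1, by rw [D.inv]; exact Ne.symm h2, (D.inv i).symm⟩,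
          D.inv, (D.pair i h2).2, div_neg, neg_add_cancel]
      · rw [if_neg hij, if_neg, add_zero]
        rintro ⟨h1, h2, rfl⟩
        exact hij ⟨D.high h1, by rw [D.inv]; exact Ne.symm h2, (D.inv j).symm⟩

theorem blk_twF (hkK : k ≤ K) (hvK : ∀ i, K ≤ i → H.vec θ i = 0) (i j : Fin ν) :
    blk Q g x (twF x y σ N ε K H θ) i j =
      (if k ≤ j.val ∧ σ j = j then (if i = j then ε else 0) else 0) +
        ∑ l, twM σ N ε k K (H.core θ) i l * N l j := by
  rw [blk, D.col, polar_add_left, polar_lc_left]
  refine congrArg₂ (· + ·) ?_ (Finset.sum_congr rfl fun l _ => by rw [D.polar_y_twF]; ring)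
  by_cases h : k ≤ j.val ∧ σ j = j
  · rw [if_pos h, if_pos h, polar_smul_left', D.polar_x_twF]
    by_cases h' : i = j
    · rw [if_pos h', if_pos h'.symm, mul_one]
    · rw [if_neg h', if_neg (Ne.symm h'), mul_zero]
  · rw [if_neg h, if_neg h, QuadraticMap.polar_zero_left]

theorem blk_high (hkK : k ≤ K) (hvK : ∀ i, K ≤ i → H.vec θ i = 0) {i : Fin ν} (hi : K ≤ i.val)
    (j : Fin ν) : blk Q g x (twF x y σ N ε K H θ) i j = if i = j then ε else 0 := by
  rw [D.blk_twF H θ hkK hvK]
  have hki : k ≤ i.val := hkK.trans hi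
  by_cases hs : σ i = i
  · rw [Finset.sum_eq_zero fun l _ => by
      rw [twM, if_neg (by omega), if_neg (fun h => h.2.1 hs), zero_mul], add_zero]
    by_cases hij : i = j
    · subst hij; rw [if_pos ⟨hki, hs⟩]
    · simp [hij]
  · rw [Finset.sum_eq_single (σ i)]
    · rw [twM, if_neg (show ¬ (i.val < K ∧ (σ i).val < K) from fun h => absurd h.1 (not_lt.2 hi)),
        if_pos (show k ≤ i.val ∧ σ i ≠ i ∧ σ i = σ i from ⟨hki, hs, rfl⟩)]
      by_cases hij : i = j
      · subst hij
        rw [if_neg (show ¬ (k ≤ i.val ∧ σ i = i) from fun h => hs h.2), if_pos rfl, zero_add,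
          div_mul_cancel₀ _ (D.pair_ne hs)]
      · rw [D.row (σ i) j (D.high hki) (Or.inl (by rw [D.inv]; exact Ne.symm hij)), mul_zero,
          if_neg hij, add_zero]
        simp
    · intro l _ hl
      rw [twM, if_neg (by omega), if_neg (fun h => hl h.2.2), zero_mul]
    · simp

theorem blk_low (hkK : k ≤ K) (hK : K ≤ ν) (hvK : ∀ i, K ≤ i → H.vec θ i = 0) {i j : Fin ν}
    (hi : i.val < K) (hj : j.val < K) :
    blk Q g x (twF x y σ N ε K H θ) i j =
      (if i = j ∧ k ≤ i.val ∧ (σ i = i ∨ K ≤ (σ i).val) then ε else 0) +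
        ∑ l : Fin ν, if l.val < K then H.core θ i.val l.val * N l j else 0 := by
  rw [D.blk_twF H θ hkK hvK]
  have hsum : ∑ l, twM σ N ε k K (H.core θ) i l * N l j =
      (∑ l : Fin ν, if l.val < K then H.core θ i.val l.val * N l j else 0) +
        if i = j ∧ k ≤ i.val ∧ σ i ≠ i ∧ K ≤ (σ i).val then ε else 0 := by
    rw [show (if i = j ∧ k ≤ i.val ∧ σ i ≠ i ∧ K ≤ (σ i).val then ε else 0) = ∑ l : Fin ν,
        if l = σ i then (if i = j ∧ k ≤ i.val ∧ σ i ≠ i ∧ K ≤ (σ i).val then ε else 0) else 0 by
      simp, ← Finset.sum_add_distrib]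
    refine Finset.sum_congr rfl fun l _ => ?_
    by_cases hl : l.val < K
    · rw [twM, if_pos ⟨hi, hl⟩, if_pos hl]
      split_ifs with h1 h2
      · subst h1; omega
      · rw [add_zero]
      · rw [add_zero]
    · rw [twM, if_neg (fun h => hl h.2), if_neg hl, zero_add]
      by_cases h1 : l = σ i
      · subst h1
        by_cases hij : i = j
        · subst hij
          by_cases h2 : k ≤ i.val ∧ σ i ≠ i
          · rw [if_pos ⟨h2.1, h2.2, rfl⟩, if_pos rfl, if_pos ⟨rfl, h2.1, h2.2, not_lt.1 hl⟩,
              div_mul_cancel₀ _ (D.pair_ne h2.2)]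
          · rw [if_neg (fun h => h2 ⟨h.1, h.2.1⟩), if_pos rfl, if_neg (fun h => h2 ⟨h.2.1, h.2.2.1⟩),
              zero_mul]
        · rw [if_pos rfl, if_neg (fun h : i = j ∧ _ => hij h.1)]
          by_cases h2 : k ≤ (σ i).val
          · rw [D.row (σ i) j h2 (Or.inl (by rw [D.inv]; exact Ne.symm hij)), mul_zero]
          · omega
      · rw [if_neg (fun h => h1 h.2.2), if_neg h1, zero_mul]
  rw [hsum, add_comm (∑ l : Fin ν, _), ← add_assoc]
  congr 1
  by_cases hij : i = j
  · subst hij
    by_cases hk' : k ≤ i.val <;> by_cases hs : σ i = i <;> simp [hk', hs]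
  · simp [hij]

theorem solve (t : Fin ν → F) : ∃ β : Fin ν → F, ∀ i,
    (if k ≤ i.val ∧ σ i = i then ε * β i else ∑ j, N i j * β j) = t i := by
  classical
  set Nh : MM ν F := fun i j => if k ≤ i.val ∧ σ i = i then (if i = j then ε else 0) else N i j
    with hNh
  have hmul : ∀ w i, (Nh *ᵥ w) i =
      if k ≤ i.val ∧ σ i = i then ε * w i else ∑ j, N i j * w j := fun w i => by
    simp only [hNh, mulVec, dotProduct]
    split_ifs with h <;> simp
  have hdet : Nh.det ≠ 0 := fun h0 => by
    obtain ⟨w, hw0, hw⟩ := Matrix.exists_mulVec_eq_zero_iff.2 h0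
    have hrow : ∀ i, (if k ≤ i.val ∧ σ i = i then ε * w i else ∑ j, N i j * w j) = 0 := fun i => by
      rw [← hmul, hw]; rfl
    have hhigh : ∀ i : Fin ν, k ≤ i.val → w i = 0 := fun i hi => by
      by_cases hs : σ i = i
      · have := hrow i
        rw [if_pos ⟨hi, hs⟩] at this
        exact (mul_eq_zero.1 this).resolve_left D.eps_ne
      · have := hrow (σ i)
        rw [if_neg (fun h => hs (by have := h.2; rw [D.inv] at this; exact this.symm)),
          Finset.sum_eq_single i] at this
        · exact (mul_eq_zero.1 this).resolve_left (D.pair_ne hs)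
        · intro j _ hj
          rw [D.row (σ i) j (D.high hi) (Or.inl (by rw [D.inv]; exact hj)), zero_mul]
        · simp
    have hlow : ∀ d, ∀ i : Fin ν, k ≤ i.val + d → w i = 0 := by
      intro d
      induction d with
      | zero => intro i hi; exact hhigh i (by omega)
      | succ d ih =>
        intro i hi
        by_cases hik : k ≤ i.val
        · exact hhigh i hik
        · have := hrow i
          rw [if_neg (fun h => hik h.1), Finset.sum_eq_single i] at this
          · exact (mul_eq_zero.1 this).resolve_left (D.dia i (by omega))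
          · intro j _ hj
            rcases lt_or_gt_of_ne (fun e => hj (Fin.ext e) : j.val ≠ i.val) with h | h
            · rw [D.tri i j (by omega) h, zero_mul]
            · rw [ih j (by omega), mul_zero]
          · simp
    exact hw0 (funext fun i => hlow k i (by omega))
  exact ⟨Nh⁻¹ *ᵥ t, fun i => by
    rw [← hmul, mulVec_mulVec, mul_nonsing_inv _ hdet.isUnit, one_mulVec]⟩

theorem res_of_eta (hkK : k ≤ K) (hvK : ∀ i, K ≤ i → H.vec θ i = 0)
    (hη : ∀ a ∈ kernel Q x y, ∃ η : Fin ν → F,
      (∀ l : Fin ν, k ≤ l.val → σ l = l → η l = 0) ∧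
        ∑ l, η l • H.vec θ l.val = ρ a - a ∧
          ∀ i : Fin ν, ¬ (k ≤ i.val ∧ σ i = i) →
            ∑ l, η l * twM σ N ε k K (H.core θ) l i = polar Q a (H.vec θ i.val)) :
    Res Q g x (twF x y σ N ε K H θ) := by
  intro a' ha'
  obtain ⟨hx', hf'⟩ := mem_kernel.1 ha'
  set a := a' - lc x (fun l => polar Q a' (y l)) with hadef
  have hpx : ∀ i, polar Q (x i) (lc x fun l => polar Q a' (y l)) = 0 := fun i => by
    rw [polar_comm, polar_lc_ee D.frame]
  have ha : a ∈ kernel Q x y := by
    refine mem_kernel.2 ⟨fun i => ?_, fun i => ?_⟩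
    · rw [hadef, polar_sub_right, hx' i, hpx, sub_zero]
    · rw [hadef, polar_sub_right, polar_comm Q (y i) (lc x _), polar_lc_ef D.frame, polar_comm,
        sub_self]
  have hay : ∀ i, polar Q a' (y i) = -polar Q a (H.vec θ i.val) := fun i => by
    have h := hf' i
    rw [twF, polar_add_left, polar_add_left, polar_lc_left] at h
    simp only [hx', mul_zero, Finset.sum_const_zero, add_zero] at h
    rw [hadef, polar_sub_left, polar_lc_kernel D.frame _ (H.vec_mem θ i.val), sub_zero,
      polar_comm Q a' (H.vec θ i.val)]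
    rw [polar_comm] at h
    linear_combination h
  obtain ⟨η, hη0, hηv, hηM⟩ := hη a ha
  obtain ⟨c, hc, hc0⟩ := D.kerE a ha
  obtain ⟨β, hβ⟩ := D.solve fun i => if k ≤ i.val ∧ σ i = i then
      (∑ l, η l * twM σ N ε k K (H.core θ) l i) - polar Q a (H.vec θ i.val) else η i - c i
  refine ⟨β - fun l => polar Q a' (y l), η, ?_⟩
  have hη' : ∀ i, η i = c i + ∑ j, N i j * β j := fun i => by
    by_cases hs : k ≤ i.val ∧ σ i = i
    · rw [hη0 i hs.1 hs.2, hc0 i hs.1 hs.2,
        Finset.sum_eq_zero fun j _ => by rw [D.row i j hs.1 (Or.inr hs.2), zero_mul], add_zero]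
    · have := hβ i
      rw [if_neg hs, if_neg hs] at this
      rw [this]; ring
  have hxc : ∀ i, (if k ≤ i.val ∧ σ i = i then β i * ε else 0) + polar Q a (H.vec θ i.val) =
      ∑ l, η l * twM σ N ε k K (H.core θ) l i := fun i => by
    by_cases hs : k ≤ i.val ∧ σ i = i
    · have := hβ i
      rw [if_pos hs, if_pos hs] at this
      rw [if_pos hs, mul_comm, this]; ring
    · rw [if_neg hs, hηM i hs, zero_add]
  have e1 : a' + lc x (β - fun l => polar Q a' (y l)) = a + lc x β := by
    rw [hadef, map_sub]; abel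
  have e2 : (g : V ≃ₗ[F] V) (lc x β) =
      lc x (fun i => if k ≤ i.val ∧ σ i = i then β i * ε else 0) +
        lc y (fun l => ∑ j, N l j * β j) := by
    simp only [lc_apply (F := F), map_sum, map_smul, D.col, smul_add, Finset.sum_add_distrib,
      Finset.smul_sum, smul_smul, Finset.sum_smul]
    refine congrArg₂ (· + ·) (Finset.sum_congr rfl fun i _ => ?_) ?_
    · split_ifs <;> simp [smul_smul]
    · rw [Finset.sum_comm]
      exact Finset.sum_congr rfl fun l _ => Finset.sum_congr rfl fun j _ => by rw [mul_comm]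
  have e3 : lc (twF x y σ N ε K H θ) η = lc y η +
      lc x (fun i => ∑ l, η l * twM σ N ε k K (H.core θ) l i) + (ρ a - a) := by
    rw [← hηv]
    simp only [lc_apply, twF, smul_add, Finset.sum_add_distrib, Finset.smul_sum, smul_smul,
      Finset.sum_smul]
    rw [Finset.sum_comm (s := Finset.univ) (t := Finset.univ)
      (f := fun i l => (η i * twM σ N ε k K (H.core θ) i l) • x l)]
  have e4 : a' = a - lc x (fun i => polar Q a (H.vec θ i.val)) := by
    rw [sub_eq_add_neg, ← map_neg]
    rw [show (-fun i : Fin ν => polar Q a (H.vec θ i.val)) = fun i => polar Q a' (y i) from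
      funext fun i => (hay i).symm, hadef, sub_add_cancel]
  rw [e1, map_add, hc, e2, e3, e4,
    show (fun i => if k ≤ i.val ∧ σ i = i then β i * ε else 0) =
      (fun i => ∑ l, η l * twM σ N ε k K (H.core θ) l i) - fun i => polar Q a (H.vec θ i.val) from
      funext fun i => eq_sub_of_add_eq (hxc i),
    show η = c + fun l => ∑ j, N l j * β j from funext hη']
  simp only [map_add, map_sub]
  abel

/-- The residual is trivial. -/
theorem res_twF (hν : 2 ≤ ν) (hK : K ≤ ν) (hKk : K = k ∨ (K = k + 1 ∧ 1 ≤ k) ∨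
      (k = 0 ∧ K = 2 ∧ ∀ i : Fin ν, i.val < 2 → σ i ≠ i ∧ (σ i).val < 2))
    (hθ : θ ≠ 0) (hvK : ∀ i, K ≤ i → H.vec θ i = 0) (h1 : k = 1 → H.v1 = 0) :
    Res Q g x (twF x y σ N ε K H θ) := by
  classical
  have hkK : k ≤ K := by omega
  refine D.res_of_eta H θ hkK hvK fun a ha => ?_
  obtain ⟨c0, c1, hcv, hc0, hc1, hcodd⟩ := H.sol a ha
  set P : Prop := k < K ∧ 1 ≤ k with hP
  set η : Fin ν → F := fun j =>
    if k = 0 then (if j.val < K then (if j.val = 0 then c0 / θ else c1) else 0)
    else if j.val < k then H.eta k θ c0 c1 j.val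
    else if P ∧ σ j ≠ j ∧ (σ j).val = k then
      H.eta k θ c0 c1 (k - 1) * H.core θ (k - 1) k * -(N (σ j) j) / ε
    else 0 with hηdef
  have hηchain : ∀ j : Fin ν, j.val < k → η j = H.eta k θ c0 c1 j.val := fun j hj => by
    simp [hηdef, show ¬ k = 0 by omega, hj]
  -- vanishing of `η` at the partners of the far pairs
  have hfar : ∀ j : Fin ν, k ≤ j.val → σ j ≠ j → K ≤ (σ j).val → η j = 0 := fun j hj hs hσ => by
    simp only [hηdef]
    by_cases hk0 : k = 0
    · rw [if_pos hk0]
      split_ifs with h h'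
      all_goals first
        | rfl
        | (rcases hKk with h3 | h3 | ⟨-, h3, h4⟩
           · omega
           · omega
           · have := (h4 j (by omega)).2; omega)
    · rw [if_neg hk0, if_neg (by omega), if_neg]
      rintro ⟨hp, -, h2⟩
      omega
  refine ⟨η, fun l hl hs => ?_, ?_, fun i hi => ?_⟩
  · simp only [hηdef]
    by_cases hk0 : k = 0
    · rw [if_pos hk0]
      split_ifs with h h'
      all_goals first
        | rfl
        | (rcases hKk with h3 | h3 | ⟨-, h3, h4⟩
           · omega
           · omega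
           · exact absurd hs (h4 l (by omega)).1)
    · rw [if_neg hk0, if_neg (by omega), if_neg (fun h => h.2.1 hs)]
  · rw [← hcv]
    have hterm : ∀ l : Fin ν, η l • H.vec θ l.val =
        (if l.val = 0 then c0 • H.v0 else 0) + (if l.val = 1 then c1 • H.v1 else 0) := fun l => by
      rcases (show l.val = 0 ∨ l.val = 1 ∨ 2 ≤ l.val by omega) with h | h | h
      · rw [if_pos h, if_neg (by omega), add_zero, h, Head.vec, if_pos rfl, smul_smul]
        have e : η l = c0 / θ ∨ H.v0 = 0 := by
          by_cases hk0 : k = 0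
          · by_cases hlK : l.val < K
            · exact Or.inl (by simp only [hηdef]; rw [if_pos hk0, if_pos hlK, if_pos h])
            · refine Or.inr ?_
              have := hvK 0 (by omega)
              rw [Head.vec, if_pos rfl] at this
              exact (smul_eq_zero.1 this).resolve_left hθ
          · exact Or.inl (by rw [hηchain l (by omega)]; simp [Head.eta, h])
        rcases e with e | e
        · rw [e, div_mul_cancel₀ _ hθ]
        · rw [e, smul_zero, smul_zero]
      · rw [if_neg (by omega), if_pos h, zero_add, h, Head.vec, if_neg (by omega), if_pos rfl]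
        have e : η l = c1 ∨ H.v1 = 0 := by
          by_cases hk0 : k = 0
          · by_cases hlK : l.val < K
            · exact Or.inl (by simp only [hηdef]; rw [if_pos hk0, if_pos hlK, if_neg (by omega)])
            · exact Or.inr (by simpa [Head.vec] using hvK 1 (by omega))
          · by_cases hk1 : k = 1
            · exact Or.inr (h1 hk1)
            · exact Or.inl (by rw [hηchain l (by omega), h]; simp [Head.eta])
        rcases e with e | e
        · rw [e]
        · rw [e, smul_zero, smul_zero]
      · rw [if_neg (by omega), if_neg (by omega), H.vec_high θ h, smul_zero, add_zero]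
    rw [Finset.sum_congr rfl fun l _ => hterm l, Finset.sum_add_distrib]
    refine congrArg₂ (· + ·) ?_ ?_
    · rw [Finset.sum_eq_single (⟨0, by omega⟩ : Fin ν)]
      · rw [if_pos rfl]
      · intro b _ hb; rw [if_neg fun e => hb (Fin.ext e)]
      · simp
    · rw [Finset.sum_eq_single (⟨1, by omega⟩ : Fin ν)]
      · rw [if_pos rfl]
      · intro b _ hb; rw [if_neg fun e => hb (Fin.ext e)]
      · simp
  · by_cases hiK : K ≤ i.val
    · rw [hvK _ hiK, QuadraticMap.polar_zero_right]
      refine Finset.sum_eq_zero fun l _ => ?_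
      simp only [twM]
      rw [if_neg (by omega)]
      split_ifs with h
      · obtain ⟨hl1, hl2, hl3⟩ := h
        rw [hfar l hl1 hl2 (by rw [← hl3]; exact hiK), zero_mul]
      · rw [mul_zero]
    push Not at hiK
    rcases Nat.eq_zero_or_pos k with hk0 | hkpos
    · obtain ⟨-, hK2, h4⟩ : k = 0 ∧ K = 2 ∧ ∀ i : Fin ν, i.val < 2 → σ i ≠ i ∧ (σ i).val < 2 := by
        rcases hKk with h | h | h
        · omega
        · omega
        · exact h
      have ht : ∀ l : Fin ν, η l * twM σ N ε k K (H.core θ) l i =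
          (if l.val = 0 then c0 / θ * H.core θ 0 i.val else 0) +
            (if l.val = 1 then c1 * H.core θ 1 i.val else 0) := fun l => by
        simp only [hηdef]
        rw [if_pos hk0]
        rcases (show l.val = 0 ∨ l.val = 1 ∨ 2 ≤ l.val by omega) with h | h | h
        · rw [if_pos (show l.val < K by omega), twM,
            if_pos (show l.val < K ∧ i.val < K from ⟨by omega, hiK⟩)]
          simp [h]
        · rw [if_pos (show l.val < K by omega), twM,
            if_pos (show l.val < K ∧ i.val < K from ⟨by omega, hiK⟩)]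
          simp [h]
        · rw [if_neg (show ¬ l.val < K by omega), zero_mul, if_neg (by omega), if_neg (by omega),
            add_zero]
      rw [Finset.sum_congr rfl fun l _ => ht l, Finset.sum_add_distrib,
        Finset.sum_eq_single (⟨0, by omega⟩ : Fin ν) (fun b _ hb => if_neg fun e => hb (Fin.ext e))
          (by simp),
        Finset.sum_eq_single (⟨1, by omega⟩ : Fin ν) (fun b _ hb => if_neg fun e => hb (Fin.ext e))
          (by simp), if_pos rfl, if_pos rfl]
      rcases (show i.val = 0 ∨ i.val = 1 by omega) with h | h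
      · rw [h, Head.vec, if_pos rfl, polar_smul_right', ← hc0]
        simp [Head.core]; field_simp
      · rw [h, Head.vec, if_neg (by omega), if_pos rfl, ← hc1 (by rw [hk0]; decide)]
        simp [Head.core]; field_simp
    have hk0 : ¬ k = 0 := by omega
    have hKk' : K = k ∨ K = k + 1 := by
      rcases hKk with h | h | h
      · exact Or.inl h
      · exact Or.inr h.1
      · omega
    have hsum : ∀ G : ℕ → F, ∑ l : Fin ν, (if l.val < k then G l.val else 0) =
        ∑ l ∈ Finset.range k, G l := fun G => by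
      rw [Fin.sum_univ_eq_sum_range (fun l => if l < k then G l else 0), ← Finset.sum_filter]
      refine Finset.sum_congr ?_ fun _ _ => rfl
      ext l; simp only [Finset.mem_filter, Finset.mem_range]; have := D.hk; omega
    by_cases hik : i.val < k
    · have ht : ∀ l : Fin ν, η l * twM σ N ε k K (H.core θ) l i =
          if l.val < k then H.eta k θ c0 c1 l.val * H.core θ l.val i.val else 0 := fun l => by
        by_cases hl : l.val < k
        · rw [if_pos hl, hηchain l hl, twM, if_pos ⟨by omega, hiK⟩]
        · rw [if_neg hl]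
          by_cases hlK : l.val < K
          · have : η l = 0 := by
              simp only [hηdef]
              rw [if_neg hk0, if_neg hl, if_neg]
              rintro ⟨-, h2, h3⟩
              exact h2 (Fin.ext (by omega))
            rw [this, zero_mul]
          · rw [twM, if_neg (fun h => hlK h.1), if_neg, mul_zero]
            rintro ⟨h1', -, rfl⟩
            have := D.high h1'
            omega
      rw [Finset.sum_congr rfl fun l _ => ht l,
        hsum fun l => H.eta k θ c0 c1 l * H.core θ l i.val]
      exact H.chain_eq hθ a hc0 hc1 hcodd hik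
    have hik' : i.val = k := by omega
    have hs : σ i ≠ i := fun h => hi ⟨by omega, h⟩
    have hσK : K ≤ (σ i).val := by
      have := D.high (l := i) (by omega)
      have : (σ i).val ≠ i.val := fun h => hs (Fin.ext h)
      omega
    set E := H.eta k θ c0 c1 (k - 1) * H.core θ (k - 1) k with hE
    have ht : ∀ l : Fin ν, η l * twM σ N ε k K (H.core θ) l i =
        (if l.val + 1 = k then E else 0) + (if l = σ i then -E else 0) := fun l => by
      by_cases hl : l.val < k
      · rw [hηchain l hl, twM, if_pos ⟨by omega, hiK⟩,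
          if_neg (show ¬ l = σ i from fun h => by rw [h] at hl; omega), add_zero]
        by_cases hl1 : l.val + 1 = k
        · rw [if_pos hl1, hE, hik', show k - 1 = l.val by omega]
        · rw [if_neg hl1, H.core_far θ (Or.inr (by omega)), mul_zero]
      · rw [if_neg (show ¬ l.val + 1 = k by omega), zero_add]
        by_cases hls : l = σ i
        · rw [if_pos hls, hls]
          have e1 : η (σ i) = E * -(N i (σ i)) / ε := by
            simp only [hηdef]
            rw [if_neg hk0, if_neg (by omega), if_pos ⟨⟨by omega, hkpos⟩, by rw [D.inv]; exact Ne.symm hs,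
              by rw [D.inv]; exact hik'⟩, D.inv]
          rw [e1, twM, if_neg (by omega),
            if_pos ⟨by omega, by rw [D.inv]; exact Ne.symm hs, (D.inv i).symm⟩, D.inv]
          have h1' := (D.pair i hs).1
          have h2' := D.eps_ne
          field_simp
        · rw [if_neg hls]
          by_cases hlK : l.val < K
          · have : η l = 0 := by
              simp only [hηdef]
              rw [if_neg hk0, if_neg hl, if_neg]
              rintro ⟨-, h2, h3⟩
              exact h2 (Fin.ext (by omega))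
            rw [this, zero_mul]
          · rw [twM, if_neg (fun h => hlK h.1), if_neg, mul_zero]
            rintro ⟨-, -, h3⟩
            exact hls (by rw [h3, D.inv])
    rw [Finset.sum_congr rfl fun l _ => ht l, Finset.sum_add_distrib, Finset.sum_ite_eq',
      if_pos (Finset.mem_univ _), Finset.sum_eq_single (⟨k - 1, by omega⟩ : Fin ν)
        (fun b _ hb => if_neg fun e => hb (Fin.ext (by simp only; omega))) (by simp),
      if_pos (show k - 1 + 1 = k by omega), add_neg_cancel]
    symm
    rcases (show k = 1 ∨ 2 ≤ k by omega) with h | h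
    · rw [Head.vec, if_neg (by omega), if_pos (by omega), h1 h, QuadraticMap.polar_zero_right]
    · rw [H.vec_high θ (show 2 ≤ i.val by omega), QuadraticMap.polar_zero_right]

end

end Data

end Cfsg.Agent.H58.OreEven
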